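import Cfsg.Agent.Lib.F4.Defs

/-!
Field lemmas, normality, commutators, centralisers and involutions in the Sylow subgroup of `²F₄(q)`.
-/

set_option autoImplicit false
set_option linter.unusedSectionVars false
set_option linter.unusedSimpArgs false
set_option linter.unusedVariables false

namespace Cfsg.Agent.F4

open Subgroup

variable {K : Type} [Field K] [Rf K]

theorem two0 : (2 : K) = 0 := CharTwo.two_eq_zero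

theorem s_ne {x : K} (h : x ≠ 0) : σ x ≠ 0 := (map_ne_zero _).2 h

theorem s_inj {x y : K} (h : σ x = σ y) : x = y := (σ : K →+* K).injective h

theorem N_inj {x y : K} (h : x * σ x = y * σ y) : x = y := by
  have h₁ := congrArg σ h
  rw [map_mul, map_mul, Rf.s_s, Rf.s_s] at h₁
  by_cases hy : y = 0
  · simpa [hy] using h
  exact mul_right_cancel₀ (mul_ne_zero hy (s_ne hy)) (by linear_combination h₁ - x * h)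

theorem M_inj {x y : K} (h : x ^ 2 * σ x = y ^ 2 * σ y) : x = y :=
  N_inj (s_inj (by rw [map_mul, map_mul, Rf.s_s, Rf.s_s]; linear_combination h))

theorem s_ne_self {μ : K} (h₀ : μ ≠ 0) (h₁ : μ ≠ 1) : σ μ ≠ μ := fun h => by
  have := Rf.s_s μ
  rw [h, h] at this
  exact h₁ (mul_left_cancel₀ h₀ (by linear_combination -this))

theorem exists_s [Finite K] (y : K) : ∃ x, σ x = y :=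
  Finite.surjective_of_injective (f := (σ : K → K)) (fun _ _ => s_inj) y

theorem exists_N [Finite K] (y : K) : ∃ x, x * σ x = y :=
  Finite.surjective_of_injective (f := fun x : K => x * σ x) (fun _ _ => N_inj) y

theorem exists_M [Finite K] (y : K) : ∃ x, x ^ 2 * σ x = y :=
  Finite.surjective_of_injective (f := fun x : K => x ^ 2 * σ x) (fun _ _ => M_inj) y

variable (K) in
theorem pg [Finite K] : IsPGroup 2 (P K) := by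
  classical
  have := Fintype.ofFinite K
  obtain ⟨n, -, hn⟩ := FiniteField.card K 2
  have e : P K ≃ (K × K × K × K × K × K × K × K × K × K × K × K) :=
    { toFun := fun g => (g.x1, g.y2, g.z2, g.x3, g.y4, g.z4, g.x5, g.y6, g.z6, g.x7, g.y8, g.z8)
      invFun := fun ⟨a1, a2, a3, a4, a5, a6, a7, a8, a9, a10, a11, a12⟩ =>
        ⟨a1, a2, a3, a4, a5, a6, a7, a8, a9, a10, a11, a12⟩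
      left_inv := fun _ => rfl
      right_inv := fun _ => rfl }
  refine IsPGroup.of_card (n := n * 12) ?_
  rw [Nat.card_congr e]
  simp only [Nat.card_prod]
  rw [Nat.card_eq_fintype_card, hn]
  ring

variable (K) in
theorem pg_top [Finite K] : IsPGroup 2 (⊤ : Subgroup (P K)) := (pg K).to_subgroup ⊤

set_option maxRecDepth 4000 in
/-- The normal form. -/
theorem nf (g : P K) : g = rx1 g.x1 * ry2 g.y2 * rz2 g.z2 * rx3 g.x3 * ry4 g.y4 * rz4 g.z4 * rx5 g.x5 * ry6 g.y6 * rz6 g.z6 * rx7 g.x7 * ry8 g.y8 * rz8 g.z8 := by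
  ext <;> simp

theorem mod_Q1 {a b : P K} : a⁻¹ * b ∈ Q1 K ↔
    a.x1 = b.x1 := by
  refine ⟨fun h => ?_, fun h1 => ?_⟩
  · obtain ⟨n, (h1 : n.x1 = 0), rfl⟩ : ∃ n ∈ Q1 K, b = a * n := ⟨_, h, by group⟩
    simp [h1]
  · simp only [mem_Q1, P.mul_x1, P.inv_x1, h1, map_add, map_mul, map_pow, Rf.s_s]
    grind

theorem mod_N8 {a b : P K} : a⁻¹ * b ∈ N8 K ↔
    a.y8 = b.y8 := by
  refine ⟨fun h => ?_, fun h1 => ?_⟩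
  · obtain ⟨n, (h1 : n.y8 = 0), rfl⟩ : ∃ n ∈ N8 K, b = a * n := ⟨_, h, by group⟩
    simp [h1]
  · simp only [mem_N8, P.mul_y8, P.inv_y8, h1, map_add, map_mul, map_pow, Rf.s_s]
    grind

theorem mod_Q2 {a b : P K} : a⁻¹ * b ∈ Q2 K ↔
    a.y8 = b.y8 ∧ a.z8 = b.z8 := by
  refine ⟨fun h => ?_, fun ⟨h1, h2⟩ => ?_⟩
  · obtain ⟨n, ⟨h1, h2⟩, rfl⟩ : ∃ n ∈ Q2 K, b = a * n := ⟨_, h, by group⟩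
    simp [h1, h2]
  · simp only [mem_Q2, P.mul_y8, P.mul_z8, P.inv_y8, P.inv_z8, h1, h2, map_add, map_mul, map_pow, Rf.s_s]
    refine ⟨?_, ?_⟩ <;> grind

theorem mod_Z7 {a b : P K} : a⁻¹ * b ∈ Z7 K ↔
    a.x1 = b.x1 ∧ a.y8 = b.y8 := by
  refine ⟨fun h => ?_, fun ⟨h1, h2⟩ => ?_⟩
  · obtain ⟨n, ⟨h1, h2⟩, rfl⟩ : ∃ n ∈ Z7 K, b = a * n := ⟨_, h, by group⟩
    simp [h1, h2]
  · simp only [mem_Z7, P.mul_x1, P.mul_y8, P.inv_x1, P.inv_y8, h1, h2, map_add, map_mul, map_pow, Rf.s_s]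
    refine ⟨?_, ?_⟩ <;> grind

theorem mod_Q12 {a b : P K} : a⁻¹ * b ∈ Q12 K ↔
    a.x1 = b.x1 ∧ a.y8 = b.y8 ∧ a.z8 = b.z8 := by
  refine ⟨fun h => ?_, fun ⟨h1, h2, h3⟩ => ?_⟩
  · obtain ⟨n, ⟨h1, h2, h3⟩, rfl⟩ : ∃ n ∈ Q12 K, b = a * n := ⟨_, h, by group⟩
    simp [h1, h2, h3]
  · simp only [mem_Q12, P.mul_x1, P.mul_y8, P.mul_z8, P.inv_x1, P.inv_y8, P.inv_z8, h1, h2, h3, map_add, map_mul, map_pow, Rf.s_s]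
    refine ⟨?_, ?_, ?_⟩ <;> grind

theorem mod_D1 {a b : P K} : a⁻¹ * b ∈ D1 K ↔
    a.x1 = b.x1 ∧ a.y8 = b.y8 ∧ a.y2 = b.y2 := by
  refine ⟨fun h => ?_, fun ⟨h1, h2, h3⟩ => ?_⟩
  · obtain ⟨n, ⟨h1, h2, h3⟩, rfl⟩ : ∃ n ∈ D1 K, b = a * n := ⟨_, h, by group⟩
    simp [h1, h2, h3]
  · simp only [mem_D1, P.mul_x1, P.mul_y8, P.mul_y2, P.inv_x1, P.inv_y8, P.inv_y2, h1, h2, h3, map_add, map_mul, map_pow, Rf.s_s]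
    refine ⟨?_, ?_, ?_⟩ <;> grind

theorem mod_D3 {a b : P K} : a⁻¹ * b ∈ D3 K ↔
    a.x1 = b.x1 ∧ a.y8 = b.y8 ∧ a.y2 = b.y2 ∧ a.z8 = b.z8 := by
  refine ⟨fun h => ?_, fun ⟨h1, h2, h3, h4⟩ => ?_⟩
  · obtain ⟨n, ⟨h1, h2, h3, h4⟩, rfl⟩ : ∃ n ∈ D3 K, b = a * n := ⟨_, h, by group⟩
    simp [h1, h2, h3, h4]
  · simp only [mem_D3, P.mul_x1, P.mul_y8, P.mul_y2, P.mul_z8, P.inv_x1, P.inv_y8, P.inv_y2, P.inv_z8, h1, h2, h3, h4, map_add, map_mul, map_pow, Rf.s_s]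
    refine ⟨?_, ?_, ?_, ?_⟩ <;> grind

theorem mod_D2 {a b : P K} : a⁻¹ * b ∈ D2 K ↔
    a.x1 = b.x1 ∧ a.y8 = b.y8 ∧ a.y2 = b.y2 ∧ a.z8 = b.z8 ∧ a.y6 = b.y6 := by
  refine ⟨fun h => ?_, fun ⟨h1, h2, h3, h4, h5⟩ => ?_⟩
  · obtain ⟨n, ⟨h1, h2, h3, h4, h5⟩, rfl⟩ : ∃ n ∈ D2 K, b = a * n := ⟨_, h, by group⟩
    simp [h1, h2, h3, h4, h5]
  · simp only [mem_D2, P.mul_x1, P.mul_y8, P.mul_y2, P.mul_z8, P.mul_y6, P.inv_x1, P.inv_y8, P.inv_y2, P.inv_z8, P.inv_y6, h1, h2, h3, h4, h5, map_add, map_mul, map_pow, Rf.s_s]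
    refine ⟨?_, ?_, ?_, ?_, ?_⟩ <;> grind

theorem mod_J0 {a b : P K} : a⁻¹ * b ∈ J0 K ↔
    a.x1 = b.x1 ∧ a.y8 = b.y8 ∧ a.y2 = b.y2 ∧ a.z8 = b.z8 ∧ a.y6 = b.y6 ∧ a.y4 = b.y4 := by
  refine ⟨fun h => ?_, fun ⟨h1, h2, h3, h4, h5, h6⟩ => ?_⟩
  · obtain ⟨n, ⟨h1, h2, h3, h4, h5, h6⟩, rfl⟩ : ∃ n ∈ J0 K, b = a * n := ⟨_, h, by group⟩
    simp [h1, h2, h3, h4, h5, h6]
  · simp only [mem_J0, P.mul_x1, P.mul_y8, P.mul_y2, P.mul_z8, P.mul_y6, P.mul_y4, P.inv_x1, P.inv_y8, P.inv_y2, P.inv_z8, P.inv_y6, P.inv_y4, h1, h2, h3, h4, h5, h6, map_add, map_mul, map_pow, Rf.s_s]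
    refine ⟨?_, ?_, ?_, ?_, ?_, ?_⟩ <;> grind

theorem mod_C2 {a b : P K} : a⁻¹ * b ∈ C2 K ↔
    a.x1 = b.x1 ∧ a.y8 = b.y8 ∧ a.y2 = b.y2 ∧ a.z8 = b.z8 ∧ a.y6 = b.y6 ∧ a.x7 = b.x7 := by
  refine ⟨fun h => ?_, fun ⟨h1, h2, h3, h4, h5, h6⟩ => ?_⟩
  · obtain ⟨n, ⟨h1, h2, h3, h4, h5, h6⟩, rfl⟩ : ∃ n ∈ C2 K, b = a * n := ⟨_, h, by group⟩
    simp [h1, h2, h3, h4, h5, h6]
  · simp only [mem_C2, P.mul_x1, P.mul_y8, P.mul_y2, P.mul_z8, P.mul_y6, P.mul_x7, P.inv_x1, P.inv_y8, P.inv_y2, P.inv_z8, P.inv_y6, P.inv_x7, h1, h2, h3, h4, h5, h6, map_add, map_mul, map_pow, Rf.s_s]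
    refine ⟨?_, ?_, ?_, ?_, ?_, ?_⟩ <;> grind

theorem mod_V2 {a b : P K} : a⁻¹ * b ∈ V2 K ↔
    a.x1 = b.x1 ∧ a.y8 = b.y8 ∧ a.y2 = b.y2 ∧ a.z8 = b.z8 ∧ a.y6 = b.y6 ∧ a.y4 = b.y4 ∧ a.x7 = b.x7 := by
  refine ⟨fun h => ?_, fun ⟨h1, h2, h3, h4, h5, h6, h7⟩ => ?_⟩
  · obtain ⟨n, ⟨h1, h2, h3, h4, h5, h6, h7⟩, rfl⟩ : ∃ n ∈ V2 K, b = a * n := ⟨_, h, by group⟩
    simp [h1, h2, h3, h4, h5, h6, h7]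
  · simp only [mem_V2, P.mul_x1, P.mul_y8, P.mul_y2, P.mul_z8, P.mul_y6, P.mul_y4, P.mul_x7, P.inv_x1, P.inv_y8, P.inv_y2, P.inv_z8, P.inv_y6, P.inv_y4, P.inv_x7, h1, h2, h3, h4, h5, h6, h7, map_add, map_mul, map_pow, Rf.s_s]
    refine ⟨?_, ?_, ?_, ?_, ?_, ?_, ?_⟩ <;> grind

theorem mod_A1 {a b : P K} : a⁻¹ * b ∈ A1 K ↔
    a.x1 = b.x1 ∧ a.y8 = b.y8 ∧ a.y2 = b.y2 ∧ a.z8 = b.z8 ∧ a.y6 = b.y6 ∧ a.y4 = b.y4 ∧ a.z2 = b.z2 := by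
  refine ⟨fun h => ?_, fun ⟨h1, h2, h3, h4, h5, h6, h7⟩ => ?_⟩
  · obtain ⟨n, ⟨h1, h2, h3, h4, h5, h6, h7⟩, rfl⟩ : ∃ n ∈ A1 K, b = a * n := ⟨_, h, by group⟩
    simp [h1, h2, h3, h4, h5, h6, h7]
  · simp only [mem_A1, P.mul_x1, P.mul_y8, P.mul_y2, P.mul_z8, P.mul_y6, P.mul_y4, P.mul_z2, P.inv_x1, P.inv_y8, P.inv_y2, P.inv_z8, P.inv_y6, P.inv_y4, P.inv_z2, h1, h2, h3, h4, h5, h6, h7, map_add, map_mul, map_pow, Rf.s_s]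
    refine ⟨?_, ?_, ?_, ?_, ?_, ?_, ?_⟩ <;> grind

theorem mod_U4 {a b : P K} : a⁻¹ * b ∈ U4 K ↔
    a.x1 = b.x1 ∧ a.y8 = b.y8 ∧ a.y2 = b.y2 ∧ a.z8 = b.z8 ∧ a.y6 = b.y6 ∧ a.y4 = b.y4 ∧ a.z2 = b.z2 ∧ a.x7 = b.x7 := by
  refine ⟨fun h => ?_, fun ⟨h1, h2, h3, h4, h5, h6, h7, h8⟩ => ?_⟩
  · obtain ⟨n, ⟨h1, h2, h3, h4, h5, h6, h7, h8⟩, rfl⟩ : ∃ n ∈ U4 K, b = a * n := ⟨_, h, by group⟩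
    simp [h1, h2, h3, h4, h5, h6, h7, h8]
  · simp only [mem_U4, P.mul_x1, P.mul_y8, P.mul_y2, P.mul_z8, P.mul_y6, P.mul_y4, P.mul_z2, P.mul_x7, P.inv_x1, P.inv_y8, P.inv_y2, P.inv_z8, P.inv_y6, P.inv_y4, P.inv_z2, P.inv_x7, h1, h2, h3, h4, h5, h6, h7, h8, map_add, map_mul, map_pow, Rf.s_s]
    refine ⟨?_, ?_, ?_, ?_, ?_, ?_, ?_, ?_⟩ <;> grind

theorem mod_U3 {a b : P K} : a⁻¹ * b ∈ U3 K ↔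
    a.x1 = b.x1 ∧ a.y8 = b.y8 ∧ a.y2 = b.y2 ∧ a.z8 = b.z8 ∧ a.y6 = b.y6 ∧ a.y4 = b.y4 ∧ a.z2 = b.z2 ∧ a.x7 = b.x7 ∧ a.x3 = b.x3 := by
  refine ⟨fun h => ?_, fun ⟨h1, h2, h3, h4, h5, h6, h7, h8, h9⟩ => ?_⟩
  · obtain ⟨n, ⟨h1, h2, h3, h4, h5, h6, h7, h8, h9⟩, rfl⟩ : ∃ n ∈ U3 K, b = a * n := ⟨_, h, by group⟩
    simp [h1, h2, h3, h4, h5, h6, h7, h8, h9]
  · simp only [mem_U3, P.mul_x1, P.mul_y8, P.mul_y2, P.mul_z8, P.mul_y6, P.mul_y4, P.mul_z2, P.mul_x7, P.mul_x3, P.inv_x1, P.inv_y8, P.inv_y2, P.inv_z8, P.inv_y6, P.inv_y4, P.inv_z2, P.inv_x7, P.inv_x3, h1, h2, h3, h4, h5, h6, h7, h8, h9, map_add, map_mul, map_pow, Rf.s_s]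
    refine ⟨?_, ?_, ?_, ?_, ?_, ?_, ?_, ?_, ?_⟩ <;> grind

theorem mod_V1 {a b : P K} : a⁻¹ * b ∈ V1 K ↔
    a.x1 = b.x1 ∧ a.y8 = b.y8 ∧ a.y2 = b.y2 ∧ a.z8 = b.z8 ∧ a.y6 = b.y6 ∧ a.y4 = b.y4 ∧ a.z2 = b.z2 ∧ a.x7 = b.x7 ∧ a.x3 = b.x3 ∧ a.x5 = b.x5 := by
  refine ⟨fun h => ?_, fun ⟨h1, h2, h3, h4, h5, h6, h7, h8, h9, h10⟩ => ?_⟩
  · obtain ⟨n, ⟨h1, h2, h3, h4, h5, h6, h7, h8, h9, h10⟩, rfl⟩ : ∃ n ∈ V1 K, b = a * n := ⟨_, h, by group⟩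
    simp [h1, h2, h3, h4, h5, h6, h7, h8, h9, h10]
  · simp only [mem_V1, P.mul_x1, P.mul_y8, P.mul_y2, P.mul_z8, P.mul_y6, P.mul_y4, P.mul_z2, P.mul_x7, P.mul_x3, P.mul_x5, P.inv_x1, P.inv_y8, P.inv_y2, P.inv_z8, P.inv_y6, P.inv_y4, P.inv_z2, P.inv_x7, P.inv_x3, P.inv_x5, h1, h2, h3, h4, h5, h6, h7, h8, h9, h10, map_add, map_mul, map_pow, Rf.s_s]
    refine ⟨?_, ?_, ?_, ?_, ?_, ?_, ?_, ?_, ?_, ?_⟩ <;> grind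

theorem mod_Z {a b : P K} : a⁻¹ * b ∈ Z K ↔
    a.x1 = b.x1 ∧ a.y8 = b.y8 ∧ a.y2 = b.y2 ∧ a.z8 = b.z8 ∧ a.y6 = b.y6 ∧ a.y4 = b.y4 ∧ a.z2 = b.z2 ∧ a.x7 = b.x7 ∧ a.x3 = b.x3 ∧ a.x5 = b.x5 ∧ a.z6 = b.z6 := by
  refine ⟨fun h => ?_, fun ⟨h1, h2, h3, h4, h5, h6, h7, h8, h9, h10, h11⟩ => ?_⟩
  · obtain ⟨n, ⟨h1, h2, h3, h4, h5, h6, h7, h8, h9, h10, h11⟩, rfl⟩ : ∃ n ∈ Z K, b = a * n := ⟨_, h, by group⟩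
    simp [h1, h2, h3, h4, h5, h6, h7, h8, h9, h10, h11]
  · simp only [mem_Z, P.mul_x1, P.mul_y8, P.mul_y2, P.mul_z8, P.mul_y6, P.mul_y4, P.mul_z2, P.mul_x7, P.mul_x3, P.mul_x5, P.mul_z6, P.inv_x1, P.inv_y8, P.inv_y2, P.inv_z8, P.inv_y6, P.inv_y4, P.inv_z2, P.inv_x7, P.inv_x3, P.inv_x5, P.inv_z6, h1, h2, h3, h4, h5, h6, h7, h8, h9, h10, h11, map_add, map_mul, map_pow, Rf.s_s]
    refine ⟨?_, ?_, ?_, ?_, ?_, ?_, ?_, ?_, ?_, ?_, ?_⟩ <;> grind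

instance : (Q1 K).Normal := ⟨fun x hx g => by
  obtain h1 := mem_Q1.1 hx
  have : ∀ a, a⁻¹ * (x * a) ∈ Q1 K := fun a => mod_Q1.2 (by simp [h1])
  simpa only [inv_inv, mul_assoc] using this g⁻¹⟩

instance : (N8 K).Normal := ⟨fun x hx g => by
  obtain h1 := mem_N8.1 hx
  have : ∀ a, a⁻¹ * (x * a) ∈ N8 K := fun a => mod_N8.2 (by simp [h1])
  simpa only [inv_inv, mul_assoc] using this g⁻¹⟩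

instance : (Q2 K).Normal := ⟨fun x hx g => by
  obtain ⟨h1, h2⟩ := mem_Q2.1 hx
  have : ∀ a, a⁻¹ * (x * a) ∈ Q2 K := fun a => mod_Q2.2 (by simp [h1, h2])
  simpa only [inv_inv, mul_assoc] using this g⁻¹⟩

instance : (Z7 K).Normal := ⟨fun x hx g => by
  obtain ⟨h1, h2⟩ := mem_Z7.1 hx
  have : ∀ a, a⁻¹ * (x * a) ∈ Z7 K := fun a => mod_Z7.2 (by simp [h1, h2])
  simpa only [inv_inv, mul_assoc] using this g⁻¹⟩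

instance : (Q12 K).Normal := ⟨fun x hx g => by
  obtain ⟨h1, h2, h3⟩ := mem_Q12.1 hx
  have : ∀ a, a⁻¹ * (x * a) ∈ Q12 K := fun a => mod_Q12.2 (by simp [h1, h2, h3])
  simpa only [inv_inv, mul_assoc] using this g⁻¹⟩

instance : (D1 K).Normal := ⟨fun x hx g => by
  obtain ⟨h1, h2, h3⟩ := mem_D1.1 hx
  have : ∀ a, a⁻¹ * (x * a) ∈ D1 K := fun a => mod_D1.2 (by simp [h1, h2, h3])
  simpa only [inv_inv, mul_assoc] using this g⁻¹⟩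

instance : (D3 K).Normal := ⟨fun x hx g => by
  obtain ⟨h1, h2, h3, h4⟩ := mem_D3.1 hx
  have : ∀ a, a⁻¹ * (x * a) ∈ D3 K := fun a => mod_D3.2 (by simp [h1, h2, h3, h4])
  simpa only [inv_inv, mul_assoc] using this g⁻¹⟩

instance : (D2 K).Normal := ⟨fun x hx g => by
  obtain ⟨h1, h2, h3, h4, h5⟩ := mem_D2.1 hx
  have : ∀ a, a⁻¹ * (x * a) ∈ D2 K := fun a => mod_D2.2 (by simp [h1, h2, h3, h4, h5])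
  simpa only [inv_inv, mul_assoc] using this g⁻¹⟩

instance : (J0 K).Normal := ⟨fun x hx g => by
  obtain ⟨h1, h2, h3, h4, h5, h6⟩ := mem_J0.1 hx
  have : ∀ a, a⁻¹ * (x * a) ∈ J0 K := fun a => mod_J0.2 (by simp [h1, h2, h3, h4, h5, h6])
  simpa only [inv_inv, mul_assoc] using this g⁻¹⟩

instance : (C2 K).Normal := ⟨fun x hx g => by
  obtain ⟨h1, h2, h3, h4, h5, h6⟩ := mem_C2.1 hx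
  have : ∀ a, a⁻¹ * (x * a) ∈ C2 K := fun a => mod_C2.2 (by simp [h1, h2, h3, h4, h5, h6])
  simpa only [inv_inv, mul_assoc] using this g⁻¹⟩

instance : (V2 K).Normal := ⟨fun x hx g => by
  obtain ⟨h1, h2, h3, h4, h5, h6, h7⟩ := mem_V2.1 hx
  have : ∀ a, a⁻¹ * (x * a) ∈ V2 K := fun a => mod_V2.2 (by simp [h1, h2, h3, h4, h5, h6, h7])
  simpa only [inv_inv, mul_assoc] using this g⁻¹⟩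

instance : (A1 K).Normal := ⟨fun x hx g => by
  obtain ⟨h1, h2, h3, h4, h5, h6, h7⟩ := mem_A1.1 hx
  have : ∀ a, a⁻¹ * (x * a) ∈ A1 K := fun a => mod_A1.2 (by simp [h1, h2, h3, h4, h5, h6, h7])
  simpa only [inv_inv, mul_assoc] using this g⁻¹⟩

instance : (U4 K).Normal := ⟨fun x hx g => by
  obtain ⟨h1, h2, h3, h4, h5, h6, h7, h8⟩ := mem_U4.1 hx
  have : ∀ a, a⁻¹ * (x * a) ∈ U4 K := fun a => mod_U4.2 (by simp [h1, h2, h3, h4, h5, h6, h7, h8])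
  simpa only [inv_inv, mul_assoc] using this g⁻¹⟩

instance : (U3 K).Normal := ⟨fun x hx g => by
  obtain ⟨h1, h2, h3, h4, h5, h6, h7, h8, h9⟩ := mem_U3.1 hx
  have : ∀ a, a⁻¹ * (x * a) ∈ U3 K := fun a => mod_U3.2 (by simp [h1, h2, h3, h4, h5, h6, h7, h8, h9])
  simpa only [inv_inv, mul_assoc] using this g⁻¹⟩

instance : (V1 K).Normal := ⟨fun x hx g => by
  obtain ⟨h1, h2, h3, h4, h5, h6, h7, h8, h9, h10⟩ := mem_V1.1 hx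
  have : ∀ a, a⁻¹ * (x * a) ∈ V1 K := fun a => mod_V1.2 (by simp [h1, h2, h3, h4, h5, h6, h7, h8, h9, h10])
  simpa only [inv_inv, mul_assoc] using this g⁻¹⟩

instance : (Z K).Normal := ⟨fun x hx g => by
  obtain ⟨h1, h2, h3, h4, h5, h6, h7, h8, h9, h10, h11⟩ := mem_Z.1 hx
  have : ∀ a, a⁻¹ * (x * a) ∈ Z K := fun a => mod_Z.2 (by simp [h1, h2, h3, h4, h5, h6, h7, h8, h9, h10, h11])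
  simpa only [inv_inv, mul_assoc] using this g⁻¹⟩

theorem icj_iff {G : Type*} [Group G] (N : Subgroup G) [hN : N.Normal] {g x : G} :
    x⁻¹ * (g * x * g⁻¹) ∈ N ↔ (x * g)⁻¹ * (g * x) ∈ N := by
  rw [← mul_assoc, hN.mem_comm_iff]
  simp only [mul_inv_rev, mul_assoc]

theorem icj_Q1_iff {g x : P K} : x⁻¹ * (g * x * g⁻¹) ∈ Q1 K ↔
    (x * g).x1 = (g * x).x1 := by
  rw [icj_iff, mod_Q1]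

theorem icj_N8_iff {g x : P K} : x⁻¹ * (g * x * g⁻¹) ∈ N8 K ↔
    (x * g).y8 = (g * x).y8 := by
  rw [icj_iff, mod_N8]

theorem icj_Q2_iff {g x : P K} : x⁻¹ * (g * x * g⁻¹) ∈ Q2 K ↔
    (x * g).y8 = (g * x).y8 ∧
    (x * g).z8 = (g * x).z8 := by
  rw [icj_iff, mod_Q2]

theorem icj_Z7_iff {g x : P K} : x⁻¹ * (g * x * g⁻¹) ∈ Z7 K ↔
    (x * g).x1 = (g * x).x1 ∧
    (x * g).y8 = (g * x).y8 := by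
  rw [icj_iff, mod_Z7]

theorem icj_Q12_iff {g x : P K} : x⁻¹ * (g * x * g⁻¹) ∈ Q12 K ↔
    (x * g).x1 = (g * x).x1 ∧
    (x * g).y8 = (g * x).y8 ∧
    (x * g).z8 = (g * x).z8 := by
  rw [icj_iff, mod_Q12]

theorem icj_D1_iff {g x : P K} : x⁻¹ * (g * x * g⁻¹) ∈ D1 K ↔
    (x * g).x1 = (g * x).x1 ∧
    (x * g).y8 = (g * x).y8 ∧
    (x * g).y2 = (g * x).y2 := by
  rw [icj_iff, mod_D1]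

theorem icj_D3_iff {g x : P K} : x⁻¹ * (g * x * g⁻¹) ∈ D3 K ↔
    (x * g).x1 = (g * x).x1 ∧
    (x * g).y8 = (g * x).y8 ∧
    (x * g).y2 = (g * x).y2 ∧
    (x * g).z8 = (g * x).z8 := by
  rw [icj_iff, mod_D3]

theorem icj_D2_iff {g x : P K} : x⁻¹ * (g * x * g⁻¹) ∈ D2 K ↔
    (x * g).x1 = (g * x).x1 ∧
    (x * g).y8 = (g * x).y8 ∧
    (x * g).y2 = (g * x).y2 ∧
    (x * g).z8 = (g * x).z8 ∧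
    (x * g).y6 = (g * x).y6 := by
  rw [icj_iff, mod_D2]

theorem icj_J0_iff {g x : P K} : x⁻¹ * (g * x * g⁻¹) ∈ J0 K ↔
    (x * g).x1 = (g * x).x1 ∧
    (x * g).y8 = (g * x).y8 ∧
    (x * g).y2 = (g * x).y2 ∧
    (x * g).z8 = (g * x).z8 ∧
    (x * g).y6 = (g * x).y6 ∧
    (x * g).y4 = (g * x).y4 := by
  rw [icj_iff, mod_J0]

theorem icj_C2_iff {g x : P K} : x⁻¹ * (g * x * g⁻¹) ∈ C2 K ↔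
    (x * g).x1 = (g * x).x1 ∧
    (x * g).y8 = (g * x).y8 ∧
    (x * g).y2 = (g * x).y2 ∧
    (x * g).z8 = (g * x).z8 ∧
    (x * g).y6 = (g * x).y6 ∧
    (x * g).x7 = (g * x).x7 := by
  rw [icj_iff, mod_C2]

theorem icj_V2_iff {g x : P K} : x⁻¹ * (g * x * g⁻¹) ∈ V2 K ↔
    (x * g).x1 = (g * x).x1 ∧
    (x * g).y8 = (g * x).y8 ∧
    (x * g).y2 = (g * x).y2 ∧
    (x * g).z8 = (g * x).z8 ∧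
    (x * g).y6 = (g * x).y6 ∧
    (x * g).y4 = (g * x).y4 ∧
    (x * g).x7 = (g * x).x7 := by
  rw [icj_iff, mod_V2]

theorem icj_A1_iff {g x : P K} : x⁻¹ * (g * x * g⁻¹) ∈ A1 K ↔
    (x * g).x1 = (g * x).x1 ∧
    (x * g).y8 = (g * x).y8 ∧
    (x * g).y2 = (g * x).y2 ∧
    (x * g).z8 = (g * x).z8 ∧
    (x * g).y6 = (g * x).y6 ∧
    (x * g).y4 = (g * x).y4 ∧
    (x * g).z2 = (g * x).z2 := by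
  rw [icj_iff, mod_A1]

theorem icj_U4_iff {g x : P K} : x⁻¹ * (g * x * g⁻¹) ∈ U4 K ↔
    (x * g).x1 = (g * x).x1 ∧
    (x * g).y8 = (g * x).y8 ∧
    (x * g).y2 = (g * x).y2 ∧
    (x * g).z8 = (g * x).z8 ∧
    (x * g).y6 = (g * x).y6 ∧
    (x * g).y4 = (g * x).y4 ∧
    (x * g).z2 = (g * x).z2 ∧
    (x * g).x7 = (g * x).x7 := by
  rw [icj_iff, mod_U4]

theorem icj_U3_iff {g x : P K} : x⁻¹ * (g * x * g⁻¹) ∈ U3 K ↔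
    (x * g).x1 = (g * x).x1 ∧
    (x * g).y8 = (g * x).y8 ∧
    (x * g).y2 = (g * x).y2 ∧
    (x * g).z8 = (g * x).z8 ∧
    (x * g).y6 = (g * x).y6 ∧
    (x * g).y4 = (g * x).y4 ∧
    (x * g).z2 = (g * x).z2 ∧
    (x * g).x7 = (g * x).x7 ∧
    (x * g).x3 = (g * x).x3 := by
  rw [icj_iff, mod_U3]

theorem icj_V1_iff {g x : P K} : x⁻¹ * (g * x * g⁻¹) ∈ V1 K ↔
    (x * g).x1 = (g * x).x1 ∧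
    (x * g).y8 = (g * x).y8 ∧
    (x * g).y2 = (g * x).y2 ∧
    (x * g).z8 = (g * x).z8 ∧
    (x * g).y6 = (g * x).y6 ∧
    (x * g).y4 = (g * x).y4 ∧
    (x * g).z2 = (g * x).z2 ∧
    (x * g).x7 = (g * x).x7 ∧
    (x * g).x3 = (g * x).x3 ∧
    (x * g).x5 = (g * x).x5 := by
  rw [icj_iff, mod_V1]

theorem icj_Z_iff {g x : P K} : x⁻¹ * (g * x * g⁻¹) ∈ Z K ↔
    (x * g).x1 = (g * x).x1 ∧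
    (x * g).y8 = (g * x).y8 ∧
    (x * g).y2 = (g * x).y2 ∧
    (x * g).z8 = (g * x).z8 ∧
    (x * g).y6 = (g * x).y6 ∧
    (x * g).y4 = (g * x).y4 ∧
    (x * g).z2 = (g * x).z2 ∧
    (x * g).x7 = (g * x).x7 ∧
    (x * g).x3 = (g * x).x3 ∧
    (x * g).x5 = (g * x).x5 ∧
    (x * g).z6 = (g * x).z6 := by
  rw [icj_iff, mod_Z]

theorem Q2_le_N8 : Q2 K ≤ N8 K := fun _ ⟨h1, h2⟩ => h1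
theorem Z7_le_Q1 : Z7 K ≤ Q1 K := fun _ ⟨h1, h2⟩ => h1
theorem Z7_le_N8 : Z7 K ≤ N8 K := fun _ ⟨h1, h2⟩ => h2
theorem Q12_le_Q1 : Q12 K ≤ Q1 K := fun _ ⟨h1, h2, h3⟩ => h1
theorem Q12_le_N8 : Q12 K ≤ N8 K := fun _ ⟨h1, h2, h3⟩ => h2
theorem Q12_le_Q2 : Q12 K ≤ Q2 K := fun _ ⟨h1, h2, h3⟩ => ⟨h2, h3⟩
theorem Q12_le_Z7 : Q12 K ≤ Z7 K := fun _ ⟨h1, h2, h3⟩ => ⟨h1, h2⟩
theorem D1_le_Q1 : D1 K ≤ Q1 K := fun _ ⟨h1, h2, h3⟩ => h1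
theorem D1_le_N8 : D1 K ≤ N8 K := fun _ ⟨h1, h2, h3⟩ => h2
theorem D1_le_Z7 : D1 K ≤ Z7 K := fun _ ⟨h1, h2, h3⟩ => ⟨h1, h2⟩
theorem D3_le_Q1 : D3 K ≤ Q1 K := fun _ ⟨h1, h2, h3, h4⟩ => h1
theorem D3_le_N8 : D3 K ≤ N8 K := fun _ ⟨h1, h2, h3, h4⟩ => h2
theorem D3_le_Q2 : D3 K ≤ Q2 K := fun _ ⟨h1, h2, h3, h4⟩ => ⟨h2, h4⟩
theorem D3_le_Z7 : D3 K ≤ Z7 K := fun _ ⟨h1, h2, h3, h4⟩ => ⟨h1, h2⟩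
theorem D3_le_Q12 : D3 K ≤ Q12 K := fun _ ⟨h1, h2, h3, h4⟩ => ⟨h1, h2, h4⟩
theorem D3_le_D1 : D3 K ≤ D1 K := fun _ ⟨h1, h2, h3, h4⟩ => ⟨h1, h2, h3⟩
theorem D2_le_Q1 : D2 K ≤ Q1 K := fun _ ⟨h1, h2, h3, h4, h5⟩ => h1
theorem D2_le_N8 : D2 K ≤ N8 K := fun _ ⟨h1, h2, h3, h4, h5⟩ => h2
theorem D2_le_Q2 : D2 K ≤ Q2 K := fun _ ⟨h1, h2, h3, h4, h5⟩ => ⟨h2, h4⟩
theorem D2_le_Z7 : D2 K ≤ Z7 K := fun _ ⟨h1, h2, h3, h4, h5⟩ => ⟨h1, h2⟩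
theorem D2_le_Q12 : D2 K ≤ Q12 K := fun _ ⟨h1, h2, h3, h4, h5⟩ => ⟨h1, h2, h4⟩
theorem D2_le_D1 : D2 K ≤ D1 K := fun _ ⟨h1, h2, h3, h4, h5⟩ => ⟨h1, h2, h3⟩
theorem D2_le_D3 : D2 K ≤ D3 K := fun _ ⟨h1, h2, h3, h4, h5⟩ => ⟨h1, h2, h3, h4⟩
theorem J0_le_Q1 : J0 K ≤ Q1 K := fun _ ⟨h1, h2, h3, h4, h5, h6⟩ => h1
theorem J0_le_N8 : J0 K ≤ N8 K := fun _ ⟨h1, h2, h3, h4, h5, h6⟩ => h2
theorem J0_le_Q2 : J0 K ≤ Q2 K := fun _ ⟨h1, h2, h3, h4, h5, h6⟩ => ⟨h2, h4⟩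
theorem J0_le_Z7 : J0 K ≤ Z7 K := fun _ ⟨h1, h2, h3, h4, h5, h6⟩ => ⟨h1, h2⟩
theorem J0_le_Q12 : J0 K ≤ Q12 K := fun _ ⟨h1, h2, h3, h4, h5, h6⟩ => ⟨h1, h2, h4⟩
theorem J0_le_D1 : J0 K ≤ D1 K := fun _ ⟨h1, h2, h3, h4, h5, h6⟩ => ⟨h1, h2, h3⟩
theorem J0_le_D3 : J0 K ≤ D3 K := fun _ ⟨h1, h2, h3, h4, h5, h6⟩ => ⟨h1, h2, h3, h4⟩
theorem J0_le_D2 : J0 K ≤ D2 K := fun _ ⟨h1, h2, h3, h4, h5, h6⟩ => ⟨h1, h2, h3, h4, h5⟩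
theorem C2_le_Q1 : C2 K ≤ Q1 K := fun _ ⟨h1, h2, h3, h4, h5, h6⟩ => h1
theorem C2_le_N8 : C2 K ≤ N8 K := fun _ ⟨h1, h2, h3, h4, h5, h6⟩ => h2
theorem C2_le_Q2 : C2 K ≤ Q2 K := fun _ ⟨h1, h2, h3, h4, h5, h6⟩ => ⟨h2, h4⟩
theorem C2_le_Z7 : C2 K ≤ Z7 K := fun _ ⟨h1, h2, h3, h4, h5, h6⟩ => ⟨h1, h2⟩
theorem C2_le_Q12 : C2 K ≤ Q12 K := fun _ ⟨h1, h2, h3, h4, h5, h6⟩ => ⟨h1, h2, h4⟩
theorem C2_le_D1 : C2 K ≤ D1 K := fun _ ⟨h1, h2, h3, h4, h5, h6⟩ => ⟨h1, h2, h3⟩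
theorem C2_le_D3 : C2 K ≤ D3 K := fun _ ⟨h1, h2, h3, h4, h5, h6⟩ => ⟨h1, h2, h3, h4⟩
theorem C2_le_D2 : C2 K ≤ D2 K := fun _ ⟨h1, h2, h3, h4, h5, h6⟩ => ⟨h1, h2, h3, h4, h5⟩
theorem V2_le_Q1 : V2 K ≤ Q1 K := fun _ ⟨h1, h2, h3, h4, h5, h6, h7⟩ => h1
theorem V2_le_N8 : V2 K ≤ N8 K := fun _ ⟨h1, h2, h3, h4, h5, h6, h7⟩ => h2
theorem V2_le_Q2 : V2 K ≤ Q2 K := fun _ ⟨h1, h2, h3, h4, h5, h6, h7⟩ => ⟨h2, h4⟩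
theorem V2_le_Z7 : V2 K ≤ Z7 K := fun _ ⟨h1, h2, h3, h4, h5, h6, h7⟩ => ⟨h1, h2⟩
theorem V2_le_Q12 : V2 K ≤ Q12 K := fun _ ⟨h1, h2, h3, h4, h5, h6, h7⟩ => ⟨h1, h2, h4⟩
theorem V2_le_D1 : V2 K ≤ D1 K := fun _ ⟨h1, h2, h3, h4, h5, h6, h7⟩ => ⟨h1, h2, h3⟩
theorem V2_le_D3 : V2 K ≤ D3 K := fun _ ⟨h1, h2, h3, h4, h5, h6, h7⟩ => ⟨h1, h2, h3, h4⟩
theorem V2_le_D2 : V2 K ≤ D2 K := fun _ ⟨h1, h2, h3, h4, h5, h6, h7⟩ => ⟨h1, h2, h3, h4, h5⟩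
theorem V2_le_J0 : V2 K ≤ J0 K := fun _ ⟨h1, h2, h3, h4, h5, h6, h7⟩ => ⟨h1, h2, h3, h4, h5, h6⟩
theorem V2_le_C2 : V2 K ≤ C2 K := fun _ ⟨h1, h2, h3, h4, h5, h6, h7⟩ => ⟨h1, h2, h3, h4, h5, h7⟩
theorem A1_le_Q1 : A1 K ≤ Q1 K := fun _ ⟨h1, h2, h3, h4, h5, h6, h7⟩ => h1
theorem A1_le_N8 : A1 K ≤ N8 K := fun _ ⟨h1, h2, h3, h4, h5, h6, h7⟩ => h2
theorem A1_le_Q2 : A1 K ≤ Q2 K := fun _ ⟨h1, h2, h3, h4, h5, h6, h7⟩ => ⟨h2, h4⟩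
theorem A1_le_Z7 : A1 K ≤ Z7 K := fun _ ⟨h1, h2, h3, h4, h5, h6, h7⟩ => ⟨h1, h2⟩
theorem A1_le_Q12 : A1 K ≤ Q12 K := fun _ ⟨h1, h2, h3, h4, h5, h6, h7⟩ => ⟨h1, h2, h4⟩
theorem A1_le_D1 : A1 K ≤ D1 K := fun _ ⟨h1, h2, h3, h4, h5, h6, h7⟩ => ⟨h1, h2, h3⟩
theorem A1_le_D3 : A1 K ≤ D3 K := fun _ ⟨h1, h2, h3, h4, h5, h6, h7⟩ => ⟨h1, h2, h3, h4⟩
theorem A1_le_D2 : A1 K ≤ D2 K := fun _ ⟨h1, h2, h3, h4, h5, h6, h7⟩ => ⟨h1, h2, h3, h4, h5⟩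
theorem A1_le_J0 : A1 K ≤ J0 K := fun _ ⟨h1, h2, h3, h4, h5, h6, h7⟩ => ⟨h1, h2, h3, h4, h5, h6⟩
theorem U4_le_Q1 : U4 K ≤ Q1 K := fun _ ⟨h1, h2, h3, h4, h5, h6, h7, h8⟩ => h1
theorem U4_le_N8 : U4 K ≤ N8 K := fun _ ⟨h1, h2, h3, h4, h5, h6, h7, h8⟩ => h2
theorem U4_le_Q2 : U4 K ≤ Q2 K := fun _ ⟨h1, h2, h3, h4, h5, h6, h7, h8⟩ => ⟨h2, h4⟩
theorem U4_le_Z7 : U4 K ≤ Z7 K := fun _ ⟨h1, h2, h3, h4, h5, h6, h7, h8⟩ => ⟨h1, h2⟩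
theorem U4_le_Q12 : U4 K ≤ Q12 K := fun _ ⟨h1, h2, h3, h4, h5, h6, h7, h8⟩ => ⟨h1, h2, h4⟩
theorem U4_le_D1 : U4 K ≤ D1 K := fun _ ⟨h1, h2, h3, h4, h5, h6, h7, h8⟩ => ⟨h1, h2, h3⟩
theorem U4_le_D3 : U4 K ≤ D3 K := fun _ ⟨h1, h2, h3, h4, h5, h6, h7, h8⟩ => ⟨h1, h2, h3, h4⟩
theorem U4_le_D2 : U4 K ≤ D2 K := fun _ ⟨h1, h2, h3, h4, h5, h6, h7, h8⟩ => ⟨h1, h2, h3, h4, h5⟩
theorem U4_le_J0 : U4 K ≤ J0 K := fun _ ⟨h1, h2, h3, h4, h5, h6, h7, h8⟩ => ⟨h1, h2, h3, h4, h5, h6⟩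
theorem U4_le_C2 : U4 K ≤ C2 K := fun _ ⟨h1, h2, h3, h4, h5, h6, h7, h8⟩ => ⟨h1, h2, h3, h4, h5, h8⟩
theorem U4_le_V2 : U4 K ≤ V2 K := fun _ ⟨h1, h2, h3, h4, h5, h6, h7, h8⟩ => ⟨h1, h2, h3, h4, h5, h6, h8⟩
theorem U4_le_A1 : U4 K ≤ A1 K := fun _ ⟨h1, h2, h3, h4, h5, h6, h7, h8⟩ => ⟨h1, h2, h3, h4, h5, h6, h7⟩
theorem U3_le_Q1 : U3 K ≤ Q1 K := fun _ ⟨h1, h2, h3, h4, h5, h6, h7, h8, h9⟩ => h1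
theorem U3_le_N8 : U3 K ≤ N8 K := fun _ ⟨h1, h2, h3, h4, h5, h6, h7, h8, h9⟩ => h2
theorem U3_le_Q2 : U3 K ≤ Q2 K := fun _ ⟨h1, h2, h3, h4, h5, h6, h7, h8, h9⟩ => ⟨h2, h4⟩
theorem U3_le_Z7 : U3 K ≤ Z7 K := fun _ ⟨h1, h2, h3, h4, h5, h6, h7, h8, h9⟩ => ⟨h1, h2⟩
theorem U3_le_Q12 : U3 K ≤ Q12 K := fun _ ⟨h1, h2, h3, h4, h5, h6, h7, h8, h9⟩ => ⟨h1, h2, h4⟩
theorem U3_le_D1 : U3 K ≤ D1 K := fun _ ⟨h1, h2, h3, h4, h5, h6, h7, h8, h9⟩ => ⟨h1, h2, h3⟩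
theorem U3_le_D3 : U3 K ≤ D3 K := fun _ ⟨h1, h2, h3, h4, h5, h6, h7, h8, h9⟩ => ⟨h1, h2, h3, h4⟩
theorem U3_le_D2 : U3 K ≤ D2 K := fun _ ⟨h1, h2, h3, h4, h5, h6, h7, h8, h9⟩ => ⟨h1, h2, h3, h4, h5⟩
theorem U3_le_J0 : U3 K ≤ J0 K := fun _ ⟨h1, h2, h3, h4, h5, h6, h7, h8, h9⟩ => ⟨h1, h2, h3, h4, h5, h6⟩
theorem U3_le_C2 : U3 K ≤ C2 K := fun _ ⟨h1, h2, h3, h4, h5, h6, h7, h8, h9⟩ => ⟨h1, h2, h3, h4, h5, h8⟩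
theorem U3_le_V2 : U3 K ≤ V2 K := fun _ ⟨h1, h2, h3, h4, h5, h6, h7, h8, h9⟩ => ⟨h1, h2, h3, h4, h5, h6, h8⟩
theorem U3_le_A1 : U3 K ≤ A1 K := fun _ ⟨h1, h2, h3, h4, h5, h6, h7, h8, h9⟩ => ⟨h1, h2, h3, h4, h5, h6, h7⟩
theorem U3_le_U4 : U3 K ≤ U4 K := fun _ ⟨h1, h2, h3, h4, h5, h6, h7, h8, h9⟩ => ⟨h1, h2, h3, h4, h5, h6, h7, h8⟩
theorem V1_le_Q1 : V1 K ≤ Q1 K := fun _ ⟨h1, h2, h3, h4, h5, h6, h7, h8, h9, h10⟩ => h1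
theorem V1_le_N8 : V1 K ≤ N8 K := fun _ ⟨h1, h2, h3, h4, h5, h6, h7, h8, h9, h10⟩ => h2
theorem V1_le_Q2 : V1 K ≤ Q2 K := fun _ ⟨h1, h2, h3, h4, h5, h6, h7, h8, h9, h10⟩ => ⟨h2, h4⟩
theorem V1_le_Z7 : V1 K ≤ Z7 K := fun _ ⟨h1, h2, h3, h4, h5, h6, h7, h8, h9, h10⟩ => ⟨h1, h2⟩
theorem V1_le_Q12 : V1 K ≤ Q12 K := fun _ ⟨h1, h2, h3, h4, h5, h6, h7, h8, h9, h10⟩ => ⟨h1, h2, h4⟩
theorem V1_le_D1 : V1 K ≤ D1 K := fun _ ⟨h1, h2, h3, h4, h5, h6, h7, h8, h9, h10⟩ => ⟨h1, h2, h3⟩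
theorem V1_le_D3 : V1 K ≤ D3 K := fun _ ⟨h1, h2, h3, h4, h5, h6, h7, h8, h9, h10⟩ => ⟨h1, h2, h3, h4⟩
theorem V1_le_D2 : V1 K ≤ D2 K := fun _ ⟨h1, h2, h3, h4, h5, h6, h7, h8, h9, h10⟩ => ⟨h1, h2, h3, h4, h5⟩
theorem V1_le_J0 : V1 K ≤ J0 K := fun _ ⟨h1, h2, h3, h4, h5, h6, h7, h8, h9, h10⟩ => ⟨h1, h2, h3, h4, h5, h6⟩
theorem V1_le_C2 : V1 K ≤ C2 K := fun _ ⟨h1, h2, h3, h4, h5, h6, h7, h8, h9, h10⟩ => ⟨h1, h2, h3, h4, h5, h8⟩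
theorem V1_le_V2 : V1 K ≤ V2 K := fun _ ⟨h1, h2, h3, h4, h5, h6, h7, h8, h9, h10⟩ => ⟨h1, h2, h3, h4, h5, h6, h8⟩
theorem V1_le_A1 : V1 K ≤ A1 K := fun _ ⟨h1, h2, h3, h4, h5, h6, h7, h8, h9, h10⟩ => ⟨h1, h2, h3, h4, h5, h6, h7⟩
theorem V1_le_U4 : V1 K ≤ U4 K := fun _ ⟨h1, h2, h3, h4, h5, h6, h7, h8, h9, h10⟩ => ⟨h1, h2, h3, h4, h5, h6, h7, h8⟩
theorem V1_le_U3 : V1 K ≤ U3 K := fun _ ⟨h1, h2, h3, h4, h5, h6, h7, h8, h9, h10⟩ => ⟨h1, h2, h3, h4, h5, h6, h7, h8, h9⟩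
theorem Z_le_Q1 : Z K ≤ Q1 K := fun _ ⟨h1, h2, h3, h4, h5, h6, h7, h8, h9, h10, h11⟩ => h1
theorem Z_le_N8 : Z K ≤ N8 K := fun _ ⟨h1, h2, h3, h4, h5, h6, h7, h8, h9, h10, h11⟩ => h2
theorem Z_le_Q2 : Z K ≤ Q2 K := fun _ ⟨h1, h2, h3, h4, h5, h6, h7, h8, h9, h10, h11⟩ => ⟨h2, h4⟩
theorem Z_le_Z7 : Z K ≤ Z7 K := fun _ ⟨h1, h2, h3, h4, h5, h6, h7, h8, h9, h10, h11⟩ => ⟨h1, h2⟩
theorem Z_le_Q12 : Z K ≤ Q12 K := fun _ ⟨h1, h2, h3, h4, h5, h6, h7, h8, h9, h10, h11⟩ => ⟨h1, h2, h4⟩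
theorem Z_le_D1 : Z K ≤ D1 K := fun _ ⟨h1, h2, h3, h4, h5, h6, h7, h8, h9, h10, h11⟩ => ⟨h1, h2, h3⟩
theorem Z_le_D3 : Z K ≤ D3 K := fun _ ⟨h1, h2, h3, h4, h5, h6, h7, h8, h9, h10, h11⟩ => ⟨h1, h2, h3, h4⟩
theorem Z_le_D2 : Z K ≤ D2 K := fun _ ⟨h1, h2, h3, h4, h5, h6, h7, h8, h9, h10, h11⟩ => ⟨h1, h2, h3, h4, h5⟩
theorem Z_le_J0 : Z K ≤ J0 K := fun _ ⟨h1, h2, h3, h4, h5, h6, h7, h8, h9, h10, h11⟩ => ⟨h1, h2, h3, h4, h5, h6⟩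
theorem Z_le_C2 : Z K ≤ C2 K := fun _ ⟨h1, h2, h3, h4, h5, h6, h7, h8, h9, h10, h11⟩ => ⟨h1, h2, h3, h4, h5, h8⟩
theorem Z_le_V2 : Z K ≤ V2 K := fun _ ⟨h1, h2, h3, h4, h5, h6, h7, h8, h9, h10, h11⟩ => ⟨h1, h2, h3, h4, h5, h6, h8⟩
theorem Z_le_A1 : Z K ≤ A1 K := fun _ ⟨h1, h2, h3, h4, h5, h6, h7, h8, h9, h10, h11⟩ => ⟨h1, h2, h3, h4, h5, h6, h7⟩
theorem Z_le_U4 : Z K ≤ U4 K := fun _ ⟨h1, h2, h3, h4, h5, h6, h7, h8, h9, h10, h11⟩ => ⟨h1, h2, h3, h4, h5, h6, h7, h8⟩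
theorem Z_le_U3 : Z K ≤ U3 K := fun _ ⟨h1, h2, h3, h4, h5, h6, h7, h8, h9, h10, h11⟩ => ⟨h1, h2, h3, h4, h5, h6, h7, h8, h9⟩
theorem Z_le_V1 : Z K ≤ V1 K := fun _ ⟨h1, h2, h3, h4, h5, h6, h7, h8, h9, h10, h11⟩ => ⟨h1, h2, h3, h4, h5, h6, h7, h8, h9, h10⟩
theorem Z_le_Vm : Z K ≤ Vm K := fun _ ⟨h1, h2, h3, h4, h5, h6, h7, h8, h9, h10, h11⟩ => ⟨h1, h2, h3, h4, h5, h6, h8, h9, h10, h11⟩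
theorem Zm_le_Q1 : Zm K ≤ Q1 K := fun _ ⟨h1, h2, h3, h4, h5, h6, h7, h8, h9, h10, h11⟩ => h1
theorem Zm_le_N8 : Zm K ≤ N8 K := fun _ ⟨h1, h2, h3, h4, h5, h6, h7, h8, h9, h10, h11⟩ => h2
theorem Zm_le_Q2 : Zm K ≤ Q2 K := fun _ ⟨h1, h2, h3, h4, h5, h6, h7, h8, h9, h10, h11⟩ => ⟨h2, h4⟩
theorem Zm_le_Z7 : Zm K ≤ Z7 K := fun _ ⟨h1, h2, h3, h4, h5, h6, h7, h8, h9, h10, h11⟩ => ⟨h1, h2⟩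
theorem Zm_le_Q12 : Zm K ≤ Q12 K := fun _ ⟨h1, h2, h3, h4, h5, h6, h7, h8, h9, h10, h11⟩ => ⟨h1, h2, h4⟩
theorem Zm_le_D1 : Zm K ≤ D1 K := fun _ ⟨h1, h2, h3, h4, h5, h6, h7, h8, h9, h10, h11⟩ => ⟨h1, h2, h3⟩
theorem Zm_le_D3 : Zm K ≤ D3 K := fun _ ⟨h1, h2, h3, h4, h5, h6, h7, h8, h9, h10, h11⟩ => ⟨h1, h2, h3, h4⟩
theorem Zm_le_D2 : Zm K ≤ D2 K := fun _ ⟨h1, h2, h3, h4, h5, h6, h7, h8, h9, h10, h11⟩ => ⟨h1, h2, h3, h4, h5⟩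
theorem Zm_le_J0 : Zm K ≤ J0 K := fun _ ⟨h1, h2, h3, h4, h5, h6, h7, h8, h9, h10, h11⟩ => ⟨h1, h2, h3, h4, h5, h6⟩
theorem Zm_le_C2 : Zm K ≤ C2 K := fun _ ⟨h1, h2, h3, h4, h5, h6, h7, h8, h9, h10, h11⟩ => ⟨h1, h2, h3, h4, h5, h8⟩
theorem Zm_le_V2 : Zm K ≤ V2 K := fun _ ⟨h1, h2, h3, h4, h5, h6, h7, h8, h9, h10, h11⟩ => ⟨h1, h2, h3, h4, h5, h6, h8⟩
theorem Zm_le_A1 : Zm K ≤ A1 K := fun _ ⟨h1, h2, h3, h4, h5, h6, h7, h8, h9, h10, h11⟩ => ⟨h1, h2, h3, h4, h5, h6, h7⟩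
theorem Zm_le_U4 : Zm K ≤ U4 K := fun _ ⟨h1, h2, h3, h4, h5, h6, h7, h8, h9, h10, h11⟩ => ⟨h1, h2, h3, h4, h5, h6, h7, h8⟩
theorem Zm_le_U3 : Zm K ≤ U3 K := fun _ ⟨h1, h2, h3, h4, h5, h6, h7, h8, h9, h10, h11⟩ => ⟨h1, h2, h3, h4, h5, h6, h7, h8, h9⟩
theorem Zm_le_V1 : Zm K ≤ V1 K := fun _ ⟨h1, h2, h3, h4, h5, h6, h7, h8, h9, h10, h11⟩ => ⟨h1, h2, h3, h4, h5, h6, h7, h8, h9, h10⟩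
theorem Vm_le_Q1 : Vm K ≤ Q1 K := fun _ ⟨h1, h2, h3, h4, h5, h6, h7, h8, h9, h10⟩ => h1
theorem Vm_le_N8 : Vm K ≤ N8 K := fun _ ⟨h1, h2, h3, h4, h5, h6, h7, h8, h9, h10⟩ => h2
theorem Vm_le_Q2 : Vm K ≤ Q2 K := fun _ ⟨h1, h2, h3, h4, h5, h6, h7, h8, h9, h10⟩ => ⟨h2, h4⟩
theorem Vm_le_Z7 : Vm K ≤ Z7 K := fun _ ⟨h1, h2, h3, h4, h5, h6, h7, h8, h9, h10⟩ => ⟨h1, h2⟩
theorem Vm_le_Q12 : Vm K ≤ Q12 K := fun _ ⟨h1, h2, h3, h4, h5, h6, h7, h8, h9, h10⟩ => ⟨h1, h2, h4⟩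
theorem Vm_le_D1 : Vm K ≤ D1 K := fun _ ⟨h1, h2, h3, h4, h5, h6, h7, h8, h9, h10⟩ => ⟨h1, h2, h3⟩
theorem Vm_le_D3 : Vm K ≤ D3 K := fun _ ⟨h1, h2, h3, h4, h5, h6, h7, h8, h9, h10⟩ => ⟨h1, h2, h3, h4⟩
theorem Vm_le_D2 : Vm K ≤ D2 K := fun _ ⟨h1, h2, h3, h4, h5, h6, h7, h8, h9, h10⟩ => ⟨h1, h2, h3, h4, h5⟩
theorem Vm_le_J0 : Vm K ≤ J0 K := fun _ ⟨h1, h2, h3, h4, h5, h6, h7, h8, h9, h10⟩ => ⟨h1, h2, h3, h4, h5, h6⟩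
theorem Vm_le_C2 : Vm K ≤ C2 K := fun _ ⟨h1, h2, h3, h4, h5, h6, h7, h8, h9, h10⟩ => ⟨h1, h2, h3, h4, h5, h7⟩
theorem Vm_le_V2 : Vm K ≤ V2 K := fun _ ⟨h1, h2, h3, h4, h5, h6, h7, h8, h9, h10⟩ => ⟨h1, h2, h3, h4, h5, h6, h7⟩

end Cfsg.Agent.F4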