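import Cfsg.Agent.Lib.F4.Bas0

/-!
Commutators, centralisers and involutions in the Sylow subgroup of `²F₄(q)`.
-/

set_option autoImplicit false
set_option linter.unusedSectionVars false
set_option linter.unusedSimpArgs false
set_option linter.unusedVariables false
set_option linter.unnecessarySeqFocus false

namespace Cfsg.Agent.F4

open Subgroup

variable {K : Type} [Field K] [Rf K]

theorem icj_S_S (g : P K) (x : P K) :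
    x⁻¹ * (g * x * g⁻¹) ∈ Z7 K := by
  simp only [icj_Z7_iff, P.mul_x1, P.mul_y8, map_zero]
  refine ⟨?_, ?_⟩ <;> grind

theorem icj_S_Z7 (g : P K) {x : P K} (hx : x ∈ Z7 K) :
    x⁻¹ * (g * x * g⁻¹) ∈ D3 K := by
  obtain ⟨b1, b2⟩ := mem_Z7.1 hx
  simp only [icj_D3_iff, P.mul_x1, P.mul_y8, P.mul_y2, P.mul_z8, b1, b2, map_zero]
  refine ⟨?_, ?_, ?_, ?_⟩ <;> grind

theorem icj_Z7_S {g : P K} (hg : g ∈ Z7 K) (x : P K) :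
    x⁻¹ * (g * x * g⁻¹) ∈ D3 K := by
  obtain ⟨a1, a2⟩ := mem_Z7.1 hg
  simp only [icj_D3_iff, P.mul_x1, P.mul_y8, P.mul_y2, P.mul_z8, a1, a2, map_zero]
  refine ⟨?_, ?_, ?_, ?_⟩ <;> grind

theorem icj_S_D3 (g : P K) {x : P K} (hx : x ∈ D3 K) :
    x⁻¹ * (g * x * g⁻¹) ∈ J0 K := by
  obtain ⟨b1, b2, b3, b4⟩ := mem_D3.1 hx
  simp only [icj_J0_iff, P.mul_x1, P.mul_y8, P.mul_y2, P.mul_z8, P.mul_y6, P.mul_y4, b1, b2, b3, b4, map_zero]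
  refine ⟨?_, ?_, ?_, ?_, ?_, ?_⟩ <;> grind

theorem icj_D3_S {g : P K} (hg : g ∈ D3 K) (x : P K) :
    x⁻¹ * (g * x * g⁻¹) ∈ J0 K := by
  obtain ⟨a1, a2, a3, a4⟩ := mem_D3.1 hg
  simp only [icj_J0_iff, P.mul_x1, P.mul_y8, P.mul_y2, P.mul_z8, P.mul_y6, P.mul_y4, a1, a2, a3, a4, map_zero]
  refine ⟨?_, ?_, ?_, ?_, ?_, ?_⟩ <;> grind

theorem icj_S_D2 (g : P K) {x : P K} (hx : x ∈ D2 K) :
    x⁻¹ * (g * x * g⁻¹) ∈ V2 K := by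
  obtain ⟨b1, b2, b3, b4, b5⟩ := mem_D2.1 hx
  simp only [icj_V2_iff, P.mul_x1, P.mul_y8, P.mul_y2, P.mul_z8, P.mul_y6, P.mul_y4, P.mul_x7, b1, b2, b3, b4, b5, map_zero]
  refine ⟨?_, ?_, ?_, ?_, ?_, ?_, ?_⟩ <;> grind

theorem icj_D2_S {g : P K} (hg : g ∈ D2 K) (x : P K) :
    x⁻¹ * (g * x * g⁻¹) ∈ V2 K := by
  obtain ⟨a1, a2, a3, a4, a5⟩ := mem_D2.1 hg
  simp only [icj_V2_iff, P.mul_x1, P.mul_y8, P.mul_y2, P.mul_z8, P.mul_y6, P.mul_y4, P.mul_x7, a1, a2, a3, a4, a5, map_zero]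
  refine ⟨?_, ?_, ?_, ?_, ?_, ?_, ?_⟩ <;> grind

theorem icj_S_J0 (g : P K) {x : P K} (hx : x ∈ J0 K) :
    x⁻¹ * (g * x * g⁻¹) ∈ U4 K := by
  obtain ⟨b1, b2, b3, b4, b5, b6⟩ := mem_J0.1 hx
  simp only [icj_U4_iff, P.mul_x1, P.mul_y8, P.mul_y2, P.mul_z8, P.mul_y6, P.mul_y4, P.mul_z2, P.mul_x7, b1, b2, b3, b4, b5, b6, map_zero]
  refine ⟨?_, ?_, ?_, ?_, ?_, ?_, ?_, ?_⟩ <;> grind

theorem icj_J0_S {g : P K} (hg : g ∈ J0 K) (x : P K) :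
    x⁻¹ * (g * x * g⁻¹) ∈ U4 K := by
  obtain ⟨a1, a2, a3, a4, a5, a6⟩ := mem_J0.1 hg
  simp only [icj_U4_iff, P.mul_x1, P.mul_y8, P.mul_y2, P.mul_z8, P.mul_y6, P.mul_y4, P.mul_z2, P.mul_x7, a1, a2, a3, a4, a5, a6, map_zero]
  refine ⟨?_, ?_, ?_, ?_, ?_, ?_, ?_, ?_⟩ <;> grind

theorem icj_S_U4 (g : P K) {x : P K} (hx : x ∈ U4 K) :
    x⁻¹ * (g * x * g⁻¹) ∈ U3 K := by
  obtain ⟨b1, b2, b3, b4, b5, b6, b7, b8⟩ := mem_U4.1 hx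
  simp only [icj_U3_iff, P.mul_x1, P.mul_y8, P.mul_y2, P.mul_z8, P.mul_y6, P.mul_y4, P.mul_z2, P.mul_x7, P.mul_x3, b1, b2, b3, b4, b5, b6, b7, b8, map_zero]
  refine ⟨?_, ?_, ?_, ?_, ?_, ?_, ?_, ?_, ?_⟩ <;> grind

theorem icj_U4_S {g : P K} (hg : g ∈ U4 K) (x : P K) :
    x⁻¹ * (g * x * g⁻¹) ∈ U3 K := by
  obtain ⟨a1, a2, a3, a4, a5, a6, a7, a8⟩ := mem_U4.1 hg
  simp only [icj_U3_iff, P.mul_x1, P.mul_y8, P.mul_y2, P.mul_z8, P.mul_y6, P.mul_y4, P.mul_z2, P.mul_x7, P.mul_x3, a1, a2, a3, a4, a5, a6, a7, a8, map_zero]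
  refine ⟨?_, ?_, ?_, ?_, ?_, ?_, ?_, ?_, ?_⟩ <;> grind

theorem icj_S_U3 (g : P K) {x : P K} (hx : x ∈ U3 K) :
    x⁻¹ * (g * x * g⁻¹) ∈ V1 K := by
  obtain ⟨b1, b2, b3, b4, b5, b6, b7, b8, b9⟩ := mem_U3.1 hx
  simp only [icj_V1_iff, P.mul_x1, P.mul_y8, P.mul_y2, P.mul_z8, P.mul_y6, P.mul_y4, P.mul_z2, P.mul_x7, P.mul_x3, P.mul_x5, b1, b2, b3, b4, b5, b6, b7, b8, b9, map_zero]
  refine ⟨?_, ?_, ?_, ?_, ?_, ?_, ?_, ?_, ?_, ?_⟩ <;> grind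

theorem icj_U3_S {g : P K} (hg : g ∈ U3 K) (x : P K) :
    x⁻¹ * (g * x * g⁻¹) ∈ V1 K := by
  obtain ⟨a1, a2, a3, a4, a5, a6, a7, a8, a9⟩ := mem_U3.1 hg
  simp only [icj_V1_iff, P.mul_x1, P.mul_y8, P.mul_y2, P.mul_z8, P.mul_y6, P.mul_y4, P.mul_z2, P.mul_x7, P.mul_x3, P.mul_x5, a1, a2, a3, a4, a5, a6, a7, a8, a9, map_zero]
  refine ⟨?_, ?_, ?_, ?_, ?_, ?_, ?_, ?_, ?_, ?_⟩ <;> grind

theorem icj_S_V1 (g : P K) {x : P K} (hx : x ∈ V1 K) :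
    x⁻¹ * (g * x * g⁻¹) ∈ Z K := by
  obtain ⟨b1, b2, b3, b4, b5, b6, b7, b8, b9, b10⟩ := mem_V1.1 hx
  simp only [icj_Z_iff, P.mul_x1, P.mul_y8, P.mul_y2, P.mul_z8, P.mul_y6, P.mul_y4, P.mul_z2, P.mul_x7, P.mul_x3, P.mul_x5, P.mul_z6, b1, b2, b3, b4, b5, b6, b7, b8, b9, b10, map_zero]
  refine ⟨?_, ?_, ?_, ?_, ?_, ?_, ?_, ?_, ?_, ?_, ?_⟩ <;> grind

theorem icj_V1_S {g : P K} (hg : g ∈ V1 K) (x : P K) :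
    x⁻¹ * (g * x * g⁻¹) ∈ Z K := by
  obtain ⟨a1, a2, a3, a4, a5, a6, a7, a8, a9, a10⟩ := mem_V1.1 hg
  simp only [icj_Z_iff, P.mul_x1, P.mul_y8, P.mul_y2, P.mul_z8, P.mul_y6, P.mul_y4, P.mul_z2, P.mul_x7, P.mul_x3, P.mul_x5, P.mul_z6, a1, a2, a3, a4, a5, a6, a7, a8, a9, a10, map_zero]
  refine ⟨?_, ?_, ?_, ?_, ?_, ?_, ?_, ?_, ?_, ?_, ?_⟩ <;> grind

theorem icj_Q2_Q2 {g : P K} (hg : g ∈ Q2 K) {x : P K} (hx : x ∈ Q2 K) :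
    x⁻¹ * (g * x * g⁻¹) ∈ V2 K := by
  obtain ⟨a1, a2⟩ := mem_Q2.1 hg
  obtain ⟨b1, b2⟩ := mem_Q2.1 hx
  simp only [icj_V2_iff, P.mul_x1, P.mul_y8, P.mul_y2, P.mul_z8, P.mul_y6, P.mul_y4, P.mul_x7, a1, a2, b1, b2, map_zero]
  refine ⟨?_, ?_, ?_, ?_, ?_, ?_, ?_⟩ <;> grind

theorem icj_Q2_V2 {g : P K} (hg : g ∈ Q2 K) {x : P K} (hx : x ∈ V2 K) :
    x⁻¹ * (g * x * g⁻¹) ∈ Z K := by
  obtain ⟨a1, a2⟩ := mem_Q2.1 hg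
  obtain ⟨b1, b2, b3, b4, b5, b6, b7⟩ := mem_V2.1 hx
  simp only [icj_Z_iff, P.mul_x1, P.mul_y8, P.mul_y2, P.mul_z8, P.mul_y6, P.mul_y4, P.mul_z2, P.mul_x7, P.mul_x3, P.mul_x5, P.mul_z6, a1, a2, b1, b2, b3, b4, b5, b6, b7, map_zero]
  refine ⟨?_, ?_, ?_, ?_, ?_, ?_, ?_, ?_, ?_, ?_, ?_⟩ <;> grind

theorem icj_V2_Q2 {g : P K} (hg : g ∈ V2 K) {x : P K} (hx : x ∈ Q2 K) :
    x⁻¹ * (g * x * g⁻¹) ∈ Z K := by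
  obtain ⟨a1, a2, a3, a4, a5, a6, a7⟩ := mem_V2.1 hg
  obtain ⟨b1, b2⟩ := mem_Q2.1 hx
  simp only [icj_Z_iff, P.mul_x1, P.mul_y8, P.mul_y2, P.mul_z8, P.mul_y6, P.mul_y4, P.mul_z2, P.mul_x7, P.mul_x3, P.mul_x5, P.mul_z6, a1, a2, a3, a4, a5, a6, a7, b1, b2, map_zero]
  refine ⟨?_, ?_, ?_, ?_, ?_, ?_, ?_, ?_, ?_, ?_, ?_⟩ <;> grind

theorem icj_Q1_D1 {g : P K} (hg : g ∈ Q1 K) {x : P K} (hx : x ∈ D1 K) :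
    x⁻¹ * (g * x * g⁻¹) ∈ A1 K := by
  obtain a1 := mem_Q1.1 hg
  obtain ⟨b1, b2, b3⟩ := mem_D1.1 hx
  simp only [icj_A1_iff, P.mul_x1, P.mul_y8, P.mul_y2, P.mul_z8, P.mul_y6, P.mul_y4, P.mul_z2, a1, b1, b2, b3, map_zero]
  refine ⟨?_, ?_, ?_, ?_, ?_, ?_, ?_⟩ <;> grind

theorem icj_D1_Q1 {g : P K} (hg : g ∈ D1 K) {x : P K} (hx : x ∈ Q1 K) :
    x⁻¹ * (g * x * g⁻¹) ∈ A1 K := by
  obtain ⟨a1, a2, a3⟩ := mem_D1.1 hg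
  obtain b1 := mem_Q1.1 hx
  simp only [icj_A1_iff, P.mul_x1, P.mul_y8, P.mul_y2, P.mul_z8, P.mul_y6, P.mul_y4, P.mul_z2, a1, a2, a3, b1, map_zero]
  refine ⟨?_, ?_, ?_, ?_, ?_, ?_, ?_⟩ <;> grind

theorem icj_Q1_A1 {g : P K} (hg : g ∈ Q1 K) {x : P K} (hx : x ∈ A1 K) :
    x⁻¹ * (g * x * g⁻¹) ∈ U3 K := by
  obtain a1 := mem_Q1.1 hg
  obtain ⟨b1, b2, b3, b4, b5, b6, b7⟩ := mem_A1.1 hx
  simp only [icj_U3_iff, P.mul_x1, P.mul_y8, P.mul_y2, P.mul_z8, P.mul_y6, P.mul_y4, P.mul_z2, P.mul_x7, P.mul_x3, a1, b1, b2, b3, b4, b5, b6, b7, map_zero]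
  refine ⟨?_, ?_, ?_, ?_, ?_, ?_, ?_, ?_, ?_⟩ <;> grind

theorem icj_A1_Q1 {g : P K} (hg : g ∈ A1 K) {x : P K} (hx : x ∈ Q1 K) :
    x⁻¹ * (g * x * g⁻¹) ∈ U3 K := by
  obtain ⟨a1, a2, a3, a4, a5, a6, a7⟩ := mem_A1.1 hg
  obtain b1 := mem_Q1.1 hx
  simp only [icj_U3_iff, P.mul_x1, P.mul_y8, P.mul_y2, P.mul_z8, P.mul_y6, P.mul_y4, P.mul_z2, P.mul_x7, P.mul_x3, a1, a2, a3, a4, a5, a6, a7, b1, map_zero]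
  refine ⟨?_, ?_, ?_, ?_, ?_, ?_, ?_, ?_, ?_⟩ <;> grind

theorem icj_D1_D1 {g : P K} (hg : g ∈ D1 K) {x : P K} (hx : x ∈ D1 K) :
    x⁻¹ * (g * x * g⁻¹) ∈ U3 K := by
  obtain ⟨a1, a2, a3⟩ := mem_D1.1 hg
  obtain ⟨b1, b2, b3⟩ := mem_D1.1 hx
  simp only [icj_U3_iff, P.mul_x1, P.mul_y8, P.mul_y2, P.mul_z8, P.mul_y6, P.mul_y4, P.mul_z2, P.mul_x7, P.mul_x3, a1, a2, a3, b1, b2, b3, map_zero]
  refine ⟨?_, ?_, ?_, ?_, ?_, ?_, ?_, ?_, ?_⟩ <;> grind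

theorem icj_D1_A1 {g : P K} (hg : g ∈ D1 K) {x : P K} (hx : x ∈ A1 K) :
    x⁻¹ * (g * x * g⁻¹) ∈ V1 K := by
  obtain ⟨a1, a2, a3⟩ := mem_D1.1 hg
  obtain ⟨b1, b2, b3, b4, b5, b6, b7⟩ := mem_A1.1 hx
  simp only [icj_V1_iff, P.mul_x1, P.mul_y8, P.mul_y2, P.mul_z8, P.mul_y6, P.mul_y4, P.mul_z2, P.mul_x7, P.mul_x3, P.mul_x5, a1, a2, a3, b1, b2, b3, b4, b5, b6, b7, map_zero]
  refine ⟨?_, ?_, ?_, ?_, ?_, ?_, ?_, ?_, ?_, ?_⟩ <;> grind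

theorem icj_A1_D1 {g : P K} (hg : g ∈ A1 K) {x : P K} (hx : x ∈ D1 K) :
    x⁻¹ * (g * x * g⁻¹) ∈ V1 K := by
  obtain ⟨a1, a2, a3, a4, a5, a6, a7⟩ := mem_A1.1 hg
  obtain ⟨b1, b2, b3⟩ := mem_D1.1 hx
  simp only [icj_V1_iff, P.mul_x1, P.mul_y8, P.mul_y2, P.mul_z8, P.mul_y6, P.mul_y4, P.mul_z2, P.mul_x7, P.mul_x3, P.mul_x5, a1, a2, a3, a4, a5, a6, a7, b1, b2, b3, map_zero]
  refine ⟨?_, ?_, ?_, ?_, ?_, ?_, ?_, ?_, ?_, ?_⟩ <;> grind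

theorem icj_J0_J0 {g : P K} (hg : g ∈ J0 K) {x : P K} (hx : x ∈ J0 K) :
    x⁻¹ * (g * x * g⁻¹) ∈ Z K := by
  obtain ⟨a1, a2, a3, a4, a5, a6⟩ := mem_J0.1 hg
  obtain ⟨b1, b2, b3, b4, b5, b6⟩ := mem_J0.1 hx
  simp only [icj_Z_iff, P.mul_x1, P.mul_y8, P.mul_y2, P.mul_z8, P.mul_y6, P.mul_y4, P.mul_z2, P.mul_x7, P.mul_x3, P.mul_x5, P.mul_z6, a1, a2, a3, a4, a5, a6, b1, b2, b3, b4, b5, b6, map_zero]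
  refine ⟨?_, ?_, ?_, ?_, ?_, ?_, ?_, ?_, ?_, ?_, ?_⟩ <;> grind

theorem icj_N8_U3 {g : P K} (hg : g ∈ N8 K) {x : P K} (hx : x ∈ U3 K) :
    x⁻¹ * (g * x * g⁻¹) ∈ Z K := by
  obtain a1 := mem_N8.1 hg
  obtain ⟨b1, b2, b3, b4, b5, b6, b7, b8, b9⟩ := mem_U3.1 hx
  simp only [icj_Z_iff, P.mul_x1, P.mul_y8, P.mul_y2, P.mul_z8, P.mul_y6, P.mul_y4, P.mul_z2, P.mul_x7, P.mul_x3, P.mul_x5, P.mul_z6, a1, b1, b2, b3, b4, b5, b6, b7, b8, b9, map_zero]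
  refine ⟨?_, ?_, ?_, ?_, ?_, ?_, ?_, ?_, ?_, ?_, ?_⟩ <;> grind

theorem icj_U3_N8 {g : P K} (hg : g ∈ U3 K) {x : P K} (hx : x ∈ N8 K) :
    x⁻¹ * (g * x * g⁻¹) ∈ Z K := by
  obtain ⟨a1, a2, a3, a4, a5, a6, a7, a8, a9⟩ := mem_U3.1 hg
  obtain b1 := mem_N8.1 hx
  simp only [icj_Z_iff, P.mul_x1, P.mul_y8, P.mul_y2, P.mul_z8, P.mul_y6, P.mul_y4, P.mul_z2, P.mul_x7, P.mul_x3, P.mul_x5, P.mul_z6, a1, a2, a3, a4, a5, a6, a7, a8, a9, b1, map_zero]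
  refine ⟨?_, ?_, ?_, ?_, ?_, ?_, ?_, ?_, ?_, ?_, ?_⟩ <;> grind

theorem icj_D3_U4 {g : P K} (hg : g ∈ D3 K) {x : P K} (hx : x ∈ U4 K) :
    x⁻¹ * (g * x * g⁻¹) ∈ Z K := by
  obtain ⟨a1, a2, a3, a4⟩ := mem_D3.1 hg
  obtain ⟨b1, b2, b3, b4, b5, b6, b7, b8⟩ := mem_U4.1 hx
  simp only [icj_Z_iff, P.mul_x1, P.mul_y8, P.mul_y2, P.mul_z8, P.mul_y6, P.mul_y4, P.mul_z2, P.mul_x7, P.mul_x3, P.mul_x5, P.mul_z6, a1, a2, a3, a4, b1, b2, b3, b4, b5, b6, b7, b8, map_zero]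
  refine ⟨?_, ?_, ?_, ?_, ?_, ?_, ?_, ?_, ?_, ?_, ?_⟩ <;> grind

theorem icj_U4_D3 {g : P K} (hg : g ∈ U4 K) {x : P K} (hx : x ∈ D3 K) :
    x⁻¹ * (g * x * g⁻¹) ∈ Z K := by
  obtain ⟨a1, a2, a3, a4, a5, a6, a7, a8⟩ := mem_U4.1 hg
  obtain ⟨b1, b2, b3, b4⟩ := mem_D3.1 hx
  simp only [icj_Z_iff, P.mul_x1, P.mul_y8, P.mul_y2, P.mul_z8, P.mul_y6, P.mul_y4, P.mul_z2, P.mul_x7, P.mul_x3, P.mul_x5, P.mul_z6, a1, a2, a3, a4, a5, a6, a7, a8, b1, b2, b3, b4, map_zero]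
  refine ⟨?_, ?_, ?_, ?_, ?_, ?_, ?_, ?_, ?_, ?_, ?_⟩ <;> grind

theorem icj_D3_J0 {g : P K} (hg : g ∈ D3 K) {x : P K} (hx : x ∈ J0 K) :
    x⁻¹ * (g * x * g⁻¹) ∈ V1 K := by
  obtain ⟨a1, a2, a3, a4⟩ := mem_D3.1 hg
  obtain ⟨b1, b2, b3, b4, b5, b6⟩ := mem_J0.1 hx
  simp only [icj_V1_iff, P.mul_x1, P.mul_y8, P.mul_y2, P.mul_z8, P.mul_y6, P.mul_y4, P.mul_z2, P.mul_x7, P.mul_x3, P.mul_x5, a1, a2, a3, a4, b1, b2, b3, b4, b5, b6, map_zero]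
  refine ⟨?_, ?_, ?_, ?_, ?_, ?_, ?_, ?_, ?_, ?_⟩ <;> grind

theorem icj_J0_D3 {g : P K} (hg : g ∈ J0 K) {x : P K} (hx : x ∈ D3 K) :
    x⁻¹ * (g * x * g⁻¹) ∈ V1 K := by
  obtain ⟨a1, a2, a3, a4, a5, a6⟩ := mem_J0.1 hg
  obtain ⟨b1, b2, b3, b4⟩ := mem_D3.1 hx
  simp only [icj_V1_iff, P.mul_x1, P.mul_y8, P.mul_y2, P.mul_z8, P.mul_y6, P.mul_y4, P.mul_z2, P.mul_x7, P.mul_x3, P.mul_x5, a1, a2, a3, a4, a5, a6, b1, b2, b3, b4, map_zero]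
  refine ⟨?_, ?_, ?_, ?_, ?_, ?_, ?_, ?_, ?_, ?_⟩ <;> grind

theorem icj_Z7_U4 {g : P K} (hg : g ∈ Z7 K) {x : P K} (hx : x ∈ U4 K) :
    x⁻¹ * (g * x * g⁻¹) ∈ V1 K := by
  obtain ⟨a1, a2⟩ := mem_Z7.1 hg
  obtain ⟨b1, b2, b3, b4, b5, b6, b7, b8⟩ := mem_U4.1 hx
  simp only [icj_V1_iff, P.mul_x1, P.mul_y8, P.mul_y2, P.mul_z8, P.mul_y6, P.mul_y4, P.mul_z2, P.mul_x7, P.mul_x3, P.mul_x5, a1, a2, b1, b2, b3, b4, b5, b6, b7, b8, map_zero]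
  refine ⟨?_, ?_, ?_, ?_, ?_, ?_, ?_, ?_, ?_, ?_⟩ <;> grind

theorem icj_U4_Z7 {g : P K} (hg : g ∈ U4 K) {x : P K} (hx : x ∈ Z7 K) :
    x⁻¹ * (g * x * g⁻¹) ∈ V1 K := by
  obtain ⟨a1, a2, a3, a4, a5, a6, a7, a8⟩ := mem_U4.1 hg
  obtain ⟨b1, b2⟩ := mem_Z7.1 hx
  simp only [icj_V1_iff, P.mul_x1, P.mul_y8, P.mul_y2, P.mul_z8, P.mul_y6, P.mul_y4, P.mul_z2, P.mul_x7, P.mul_x3, P.mul_x5, a1, a2, a3, a4, a5, a6, a7, a8, b1, b2, map_zero]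
  refine ⟨?_, ?_, ?_, ?_, ?_, ?_, ?_, ?_, ?_, ?_⟩ <;> grind

theorem icj_N8_U4 {g : P K} (hg : g ∈ N8 K) {x : P K} (hx : x ∈ U4 K) :
    x⁻¹ * (g * x * g⁻¹) ∈ V1 K := by
  obtain a1 := mem_N8.1 hg
  obtain ⟨b1, b2, b3, b4, b5, b6, b7, b8⟩ := mem_U4.1 hx
  simp only [icj_V1_iff, P.mul_x1, P.mul_y8, P.mul_y2, P.mul_z8, P.mul_y6, P.mul_y4, P.mul_z2, P.mul_x7, P.mul_x3, P.mul_x5, a1, b1, b2, b3, b4, b5, b6, b7, b8, map_zero]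
  refine ⟨?_, ?_, ?_, ?_, ?_, ?_, ?_, ?_, ?_, ?_⟩ <;> grind

theorem icj_U4_N8 {g : P K} (hg : g ∈ U4 K) {x : P K} (hx : x ∈ N8 K) :
    x⁻¹ * (g * x * g⁻¹) ∈ V1 K := by
  obtain ⟨a1, a2, a3, a4, a5, a6, a7, a8⟩ := mem_U4.1 hg
  obtain b1 := mem_N8.1 hx
  simp only [icj_V1_iff, P.mul_x1, P.mul_y8, P.mul_y2, P.mul_z8, P.mul_y6, P.mul_y4, P.mul_z2, P.mul_x7, P.mul_x3, P.mul_x5, a1, a2, a3, a4, a5, a6, a7, a8, b1, map_zero]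
  refine ⟨?_, ?_, ?_, ?_, ?_, ?_, ?_, ?_, ?_, ?_⟩ <;> grind

theorem comm_Z {x : P K} (hx : x ∈ Z K) (y : P K) : x * y = y * x := by
  obtain ⟨a1, a2, a3, a4, a5, a6, a7, a8, a9, a10, a11⟩ := mem_Z.1 hx
  ext <;> simp [a1, a2, a3, a4, a5, a6, a7, a8, a9, a10, a11] <;> ring

theorem comm_V1 {x : P K} (hx : x ∈ V1 K) {y : P K} (hy : y ∈ Q1 K) : x * y = y * x := by
  obtain ⟨a1, a2, a3, a4, a5, a6, a7, a8, a9, a10⟩ := mem_V1.1 hx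
  obtain b1 := mem_Q1.1 hy
  ext <;> simp [a1, a2, a3, a4, a5, a6, a7, a8, a9, a10, b1] <;> ring

theorem comm_U3 {x : P K} (hx : x ∈ U3 K) {y : P K} (hy : y ∈ D1 K) : x * y = y * x := by
  obtain ⟨a1, a2, a3, a4, a5, a6, a7, a8, a9⟩ := mem_U3.1 hx
  obtain ⟨b1, b2, b3⟩ := mem_D1.1 hy
  ext <;> simp [a1, a2, a3, a4, a5, a6, a7, a8, a9, b1, b2, b3] <;> ring

theorem comm_U4 {x : P K} (hx : x ∈ U4 K) {y : P K} (hy : y ∈ D2 K) : x * y = y * x := by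
  obtain ⟨a1, a2, a3, a4, a5, a6, a7, a8⟩ := mem_U4.1 hx
  obtain ⟨b1, b2, b3, b4, b5⟩ := mem_D2.1 hy
  ext <;> simp [a1, a2, a3, a4, a5, a6, a7, a8, b1, b2, b3, b4, b5] <;> ring

theorem comm_V2 {x : P K} (hx : x ∈ V2 K) {y : P K} (hy : y ∈ C2 K) : x * y = y * x := by
  obtain ⟨a1, a2, a3, a4, a5, a6, a7⟩ := mem_V2.1 hx
  obtain ⟨b1, b2, b3, b4, b5, b6⟩ := mem_C2.1 hy
  ext <;> simp [a1, a2, a3, a4, a5, a6, a7, b1, b2, b3, b4, b5, b6] <;> ring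

theorem comm_A1 {x : P K} (hx : x ∈ A1 K) {y : P K} (hy : y ∈ A1 K) : x * y = y * x := by
  obtain ⟨a1, a2, a3, a4, a5, a6, a7⟩ := mem_A1.1 hx
  obtain ⟨b1, b2, b3, b4, b5, b6, b7⟩ := mem_A1.1 hy
  ext <;> simp [a1, a2, a3, a4, a5, a6, a7, b1, b2, b3, b4, b5, b6, b7] <;> ring

theorem comm_Zm {x : P K} (hx : x ∈ Zm K) {y : P K} (hy : y ∈ Q1 K) : x * y = y * x := by
  obtain ⟨a1, a2, a3, a4, a5, a6, a7, a8, a9, a10, a11⟩ := mem_Zm.1 hx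
  obtain b1 := mem_Q1.1 hy
  ext <;> simp [a1, a2, a3, a4, a5, a6, a7, a8, a9, a10, a11, b1] <;> ring

theorem mem_Q1_of_comm {g : P K} {u : K} (hu : u ≠ 0) (h : g * rz6 u = rz6 u * g) : g ∈ Q1 K := by
  have := congrArg P.z4 h
  simp at this
  exact mul_right_cancel₀ hu (by grind)

theorem y_of_comm {g : P K} {u : K} (hu : u ≠ 0) (h : g * rx5 u = rx5 u * g) :
    g.y8 = 0 ∧ g.y2 = 0 := by
  have h₁ := congrArg P.z6 h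
  have h₂ := congrArg P.z4 h
  simp at h₁ h₂
  have : g.y8 = 0 := mul_right_cancel₀ hu (by grind)
  exact ⟨this, mul_right_cancel₀ hu (by grind)⟩

theorem mem_D1_of_comm {g : P K} (h : ∀ u ∈ U3 K, g * u = u * g) : g ∈ D1 K :=
  ⟨mem_Q1_of_comm one_ne_zero (h _ (by simp [mem_U3])),
    y_of_comm one_ne_zero (h _ (by simp [mem_U3]))⟩

theorem z_of_comm {g : P K} (hg : g ∈ D1 K) {u : K} (hu : u ≠ 0) (h : g * rx3 u = rx3 u * g) :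
    g ∈ D2 K := by
  obtain ⟨a1, a2, a3⟩ := hg
  have h₁ := congrArg P.z6 h
  have h₂ := congrArg P.z4 h
  simp [a1, a2, a3] at h₁ h₂
  exact ⟨a1, a2, a3, mul_right_cancel₀ hu (by grind), mul_right_cancel₀ hu (by grind)⟩

theorem mem_D2_of_comm {g : P K} (h : ∀ u ∈ U4 K, g * u = u * g) : g ∈ D2 K :=
  z_of_comm (mem_D1_of_comm fun u hu => h u (U3_le_U4 hu)) one_ne_zero (h _ (by simp [mem_U4]))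

theorem mem_C2_of_comm {g : P K} (h : ∀ u ∈ V2 K, g * u = u * g) : g ∈ C2 K := by
  obtain ⟨a1, a2, a3, a4, a5⟩ := mem_D2_of_comm fun u hu => h u (U4_le_V2 hu)
  have h₂ := congrArg P.z4 (h (rz2 1) (by simp [mem_V2]))
  simp [a1, a2, a3, a4, a5] at h₂
  exact ⟨a1, a2, a3, a4, a5, h₂⟩

theorem mem_A1_of_comm {g : P K} (h : ∀ u ∈ A1 K, g * u = u * g) : g ∈ A1 K := by
  obtain ⟨a1, a2, a3, a4, a5⟩ := mem_D2_of_comm fun u hu => h u (U4_le_A1 hu)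
  have h₁ := congrArg P.z6 (h (rx7 1) (by simp [mem_A1]))
  have h₂ := congrArg P.z4 (h (rx7 1) (by simp [mem_A1]))
  simp [a1, a2, a3, a4, a5] at h₁ h₂
  exact ⟨a1, a2, a3, a4, a5, h₁, h₂⟩

theorem mem_U4_of_comm {g : P K} (h : ∀ u ∈ J0 K, g * u = u * g) : g ∈ U4 K := by
  obtain ⟨a1, a2, a3, a4, a5, a6, a7⟩ := mem_A1_of_comm fun u hu => h u (A1_le_J0 hu)
  exact ⟨a1, a2, a3, a4, a5, a6, a7, (mem_C2_of_comm fun u hu => h u (V2_le_J0 hu)).2.2.2.2.2⟩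

theorem mem_N8_of_icj {g : P K} {u : K} (hu : u ≠ 0) (h : (rx5 u)⁻¹ * (g * rx5 u * g⁻¹) ∈ Z K) :
    g ∈ N8 K := by
  have := (icj_Z_iff.1 h).2.2.2.2.2.2.2.2.2.2
  simp at this
  exact mul_right_cancel₀ hu (by grind)

theorem mem_Q2_of_icj {g : P K} {u : K} (hu : u ≠ 0) (h : (rz2 u)⁻¹ * (g * rz2 u * g⁻¹) ∈ V1 K) :
    g ∈ Q2 K := by
  obtain ⟨-, -, -, -, -, -, -, -, h₁, h₂⟩ := icj_V1_iff.1 h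
  simp at h₁ h₂
  have : g.y8 = 0 := mul_right_cancel₀ hu (by grind)
  exact ⟨this, mul_right_cancel₀ hu (by grind)⟩

theorem sq_V2 {g : P K} (hg : g ∈ V2 K) : g * g = 1 := by
  obtain ⟨a1, a2, a3, a4, a5, a6, a7⟩ := hg
  ext <;> simp [a1, a2, a3, a4, a5, a6, a7, CharTwo.add_self_eq_zero]

theorem sq_A1 {g : P K} (hg : g ∈ A1 K) : g * g = 1 := by
  obtain ⟨a1, a2, a3, a4, a5, a6, a7⟩ := hg
  ext <;> simp [a1, a2, a3, a4, a5, a6, a7, CharTwo.add_self_eq_zero]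

theorem sq_C2 {g : P K} (hg : g ∈ C2 K) : g * g = rz4 (g.y4 * σ g.y4) := by
  obtain ⟨a1, a2, a3, a4, a5, a6⟩ := hg
  ext <;> simp [a1, a2, a3, a4, a5, a6, CharTwo.add_self_eq_zero]

theorem sq_J0 {g : P K} (hg : g ∈ J0 K) : g * g = rz4 (g.z2 * g.x7) := by
  obtain ⟨a1, a2, a3, a4, a5, a6⟩ := hg
  ext <;> simp [a1, a2, a3, a4, a5, a6, CharTwo.add_self_eq_zero] <;> grind

theorem eq_rz4 {g : P K} (hg : g ∈ Z K) : g = rz4 g.z4 := by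
  obtain ⟨a1, a2, a3, a4, a5, a6, a7, a8, a9, a10, a11⟩ := hg
  ext <;> simp [*]

theorem eq_rz6 {g : P K} (hg : g ∈ Zm K) : g = rz6 g.z6 := by
  obtain ⟨a1, a2, a3, a4, a5, a6, a7, a8, a9, a10, a11⟩ := hg
  ext <;> simp [*]

theorem rz4_mem (u : K) : rz4 u ∈ Z K := by simp [mem_Z]

theorem rz6_mem (u : K) : rz6 u ∈ Zm K := by simp [mem_Zm]

theorem eq_one_of_Z_Zm {g : P K} (h : g ∈ Z K) (h' : g ∈ Zm K) : g = 1 := by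
  rw [eq_rz4 h, h'.2.2.2.2.2.2.2.2.2.2]; rfl

/-- Involutions have `y₈ = 0`. -/
theorem inv_y8 {g : P K} (h : g * g = 1) : g.y8 = 0 := by
  have := congrArg P.z8 h
  simp at this
  have e : g.y8 * σ g.y8 = 0 := by grind
  simpa using e

/-- Involutions of type A have `z₈ = 0`. -/
theorem invA_z8 {g : P K} (h : g * g = 1) (h₁ : g.x1 ≠ 0) : g ∈ Q2 K := by
  have h₈ := inv_y8 h
  have := congrArg P.y6 h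
  simp [h₈] at this
  exact ⟨h₈, mul_left_cancel₀ h₁ (by grind)⟩

/-- Involutions of type A are conjugate into `x₁(t) V₂`. -/
theorem invA {g : P K} (h : g * g = 1) (h₁ : g.x1 ≠ 0) : ∃ s : P K, (s * g * s⁻¹).x1 = g.x1 ∧
    (s * g * s⁻¹).y8 = 0 ∧ (s * g * s⁻¹).z8 = 0 ∧ (s * g * s⁻¹).y2 = 0 ∧ (s * g * s⁻¹).y6 = 0 ∧
    (s * g * s⁻¹).y4 = 0 ∧ (s * g * s⁻¹).x7 = 0 := by
  obtain ⟨a1, a2⟩ := invA_z8 h h₁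
  obtain ⟨u, hu⟩ : ∃ u, g.y2 = u * g.x1 := ⟨g.y2 / g.x1, by field_simp⟩
  obtain ⟨v, hv⟩ : ∃ v, g.y6 = v * g.x1 := ⟨g.y6 / g.x1, by field_simp⟩
  obtain ⟨w, hw, b1, b2, b3, b4, b5⟩ : ∃ w, w = rz8 v * ry8 u * g * (rz8 v * ry8 u)⁻¹ ∧
      w.x1 = g.x1 ∧ w.y8 = 0 ∧ w.z8 = 0 ∧ w.y2 = 0 ∧ w.y6 = 0 := by
    refine ⟨_, rfl, ?_, ?_, ?_, ?_, ?_⟩ <;> simp [a1, a2, hu, hv] <;> grind
  have e : w * w = 1 := by rw [hw, conj_mul, h]; simp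
  have e₁ := congrArg P.z2 e
  have e₂ := congrArg P.x3 e
  simp [b2, b3, b4, b5] at e₁ e₂
  refine ⟨rz8 v * ry8 u, hw ▸ ⟨b1, b2, b3, b4, b5, ?_, ?_⟩⟩
  · exact mul_left_cancel₀ h₁ (by grind)
  · exact mul_left_cancel₀ (s_ne h₁) (by grind)

/-- Involutions of `Q₁` lie in `D₁`. -/
theorem inv_D1 {g : P K} (h : g * g = 1) (h₁ : g ∈ Q1 K) : g ∈ D1 K := by
  have h₈ := inv_y8 h
  have := congrArg P.z2 h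
  simp [h₈, mem_Q1.1 h₁] at this
  have e : g.y2 * σ g.y2 = 0 := by grind
  exact ⟨h₁, h₈, by simpa using e⟩

/-- Involutions of type C. -/
theorem invC {g : P K} (h : g * g = 1) (h₁ : g ∈ Q1 K) (h₂ : g.z8 = 0) :
    g ∈ J0 K ∧ g.z2 * g.x7 = 0 := by
  obtain ⟨a1, a2, a3⟩ := inv_D1 h h₁
  have e₁ := congrArg P.x5 h
  have e₂ := congrArg P.z6 h
  have e₃ := congrArg P.z4 h
  simp [a1, a2, a3, h₂] at e₁ e₂ e₃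
  have e₄ : g.y6 * (g.y6 * σ g.y6) = 0 := by grind
  have a5 : g.y6 = 0 := by simpa using e₄
  have e₅ : g.y4 * (g.y4 * σ g.y4) = 0 := by grind
  have a6 : g.y4 = 0 := by simpa using e₅
  exact ⟨⟨a1, a2, a3, h₂, a5, a6⟩, by grind⟩

theorem invC' {g : P K} (h : g * g = 1) (h₁ : g ∈ Q1 K) (h₂ : g.z8 = 0) : g ∈ V2 K ∨ g ∈ A1 K := by
  obtain ⟨⟨a1, a2, a3, a4, a5, a6⟩, e⟩ := invC h h₁ h₂
  rcases mul_eq_zero.1 e with e | e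
  exacts [.inr ⟨a1, a2, a3, a4, a5, a6, e⟩, .inl ⟨a1, a2, a3, a4, a5, a6, e⟩]

/-- Involutions of type B with `y₆ = 0`. -/
theorem invB₀ {g : P K} (h : g * g = 1) (h₁ : g ∈ Q1 K) (h₂ : g.z8 ≠ 0) (h₆ : g.y6 = 0) :
    g.z2 = 0 ∧ g.x3 = 0 ∧ g.y4 = 0 := by
  obtain ⟨a1, a2, a3⟩ := inv_D1 h h₁
  have e₁ := congrArg P.x5 h
  have e₂ := congrArg P.z6 h
  have e₃ := congrArg P.z4 h
  simp [a1, a2, a3, h₆] at e₁ e₂ e₃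
  have b1 : g.z2 = 0 := mul_right_cancel₀ h₂ (by grind)
  simp [b1] at e₂ e₃
  have e₅ : g.y4 * σ g.y4 = 0 := by grind
  have b3 : g.y4 = 0 := by simpa using e₅
  exact ⟨b1, mul_right_cancel₀ h₂ (by grind), b3⟩

/-- Involutions of type B are conjugate into `z₄ x₅ z₆ x₇ z₈`. -/
theorem invB {g : P K} (h : g * g = 1) (h₁ : g ∈ Q1 K) (h₂ : g.z8 ≠ 0) : ∃ t : K,
    rx1 t * g * (rx1 t)⁻¹ ∈ D1 K ∧ (rx1 t * g * (rx1 t)⁻¹).z8 = g.z8 ∧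
    (rx1 t * g * (rx1 t)⁻¹).y6 = 0 ∧ (rx1 t * g * (rx1 t)⁻¹).z2 = 0 ∧
    (rx1 t * g * (rx1 t)⁻¹).x3 = 0 ∧ (rx1 t * g * (rx1 t)⁻¹).y4 = 0 := by
  have hD := inv_D1 h h₁
  obtain ⟨t, ht⟩ : ∃ t, g.y6 = t * g.z8 := ⟨g.y6 / g.z8, by field_simp⟩
  have hw := Normal.conj_mem inferInstance g hD (rx1 t)
  obtain ⟨a1, a2, a3⟩ := hD
  have b1 : (rx1 t * g * (rx1 t)⁻¹).z8 = g.z8 := by simp
  have b2 : (rx1 t * g * (rx1 t)⁻¹).y6 = 0 := by simp [a1, a2, a3, ht]; grind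
  exact ⟨t, hw, b1, b2, invB₀ (by rw [conj_mul, h]; simp) hw.1 (b1 ▸ h₂) b2⟩

/-- An involution of type A whose commutator with `e` is an involution forces `e ∈ Q₂`. -/
theorem elA {w e : P K} (h : w * w = 1) (h₁ : w.x1 ≠ 0)
    (hc : w⁻¹ * (e * w * e⁻¹) * (w⁻¹ * (e * w * e⁻¹)) = 1) : e ∈ Q2 K := by
  obtain ⟨a1, a2⟩ := invA_z8 h h₁
  have h₂ : w⁻¹ * (e * w * e⁻¹) ∈ J0 K :=
    (invC hc (Z7_le_Q1 (icj_S_S e w)) (by simp [a1, a2]; grind)).1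
  obtain ⟨-, -, b1, -, b2, -⟩ := icj_J0_iff.1 h₂
  simp [a1, a2] at b1 b2
  have : e.y8 = 0 := mul_right_cancel₀ h₁ (by grind)
  simp [this] at b2
  exact ⟨this, mul_right_cancel₀ h₁ (by grind)⟩

/-- An involution of type B whose commutator with `e` is an involution forces `e ∈ Q₁`. -/
theorem elB {w e : P K} (h : w * w = 1) (h₁ : w ∈ Q1 K) (h₂ : w.z8 ≠ 0)
    (hc : w⁻¹ * (e * w * e⁻¹) * (w⁻¹ * (e * w * e⁻¹)) = 1) : e ∈ Q1 K := by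
  obtain ⟨a1, a2, a3⟩ := inv_D1 h h₁
  have h₃ : w⁻¹ * (e * w * e⁻¹) ∈ J0 K :=
    (invC hc (Z7_le_Q1 (icj_S_S e w)) (icj_S_Z7 e ⟨a1, a2⟩).2.2.2).1
  obtain ⟨-, -, -, -, b2, -⟩ := icj_J0_iff.1 h₃
  simp [a1, a2, a3] at b2
  exact mul_right_cancel₀ h₂ (by grind)

end Cfsg.Agent.F4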