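import Cfsg.Agent.Lib.F4.Basic

/-!
Bit-sliced arithmetic in the Sylow subgroup of `²F₄(2)`.
-/

set_option autoImplicit false
set_option linter.unusedSectionVars false
set_option linter.unusedVariables false
set_option linter.unusedSimpArgs false
set_option linter.unnecessarySeqFocus false
set_option linter.unusedTactic false
set_option linter.unreachableTactic false

namespace Cfsg.Agent.F4.Bit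

/-- Families of elements: bit `i` of every coordinate describes the `i`-th member. -/
structure V where
  x1 : ℕ
  y2 : ℕ
  z2 : ℕ
  x3 : ℕ
  y4 : ℕ
  z4 : ℕ
  x5 : ℕ
  y6 : ℕ
  z6 : ℕ
  x7 : ℕ
  y8 : ℕ
  z8 : ℕ

instance : Mul V := ⟨fun g h =>
  { x1 := g.x1 ^^^ h.x1
    y2 := g.y2 ^^^ (g.y8 &&& h.x1) ^^^ h.y2
    z2 := (h.x1 &&& ((g.y8 &&& (g.y2 ^^^ h.y2)) ^^^ g.y4 ^^^ g.y6 ^^^ g.z8)) ^^^ (g.y2 &&&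
      h.y2) ^^^ g.z2 ^^^ h.z2
    x3 := (h.x1 &&& (g.y8 ^^^ (g.y8 &&& (g.y4 ^^^ g.z8)) ^^^ g.z8 ^^^ (g.z8 &&& (h.y2)) ^^^
      g.y6 ^^^ g.x7)) ^^^ (g.y8 &&& (h.y2 ^^^ h.z2)) ^^^ g.x3 ^^^ (g.y4 &&& h.y2) ^^^ h.x3
    y4 := g.y4 ^^^ (g.y8 &&& h.y2) ^^^ (g.z8 &&& h.x1) ^^^ h.y4
    z4 := (h.x1 &&& (g.z8 ^^^ (g.z8 &&& (g.y6 ^^^ (g.y6 &&& (g.y8 ^^^ h.y2)) ^^^ g.y4 ^^^ g.x7
      ^^^ h.z2 ^^^ h.x3 ^^^ h.y4)) ^^^ g.y8 ^^^ (g.y8 &&& (h.y2 ^^^ (h.y2 &&& (g.x7)) ^^^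
      g.x5 ^^^ g.y6 ^^^ h.x3)) ^^^ (g.x7 &&& (g.y6 ^^^ h.y2)) ^^^ g.z6)) ^^^ (h.y2 &&&
      (g.y8 ^^^ (g.y8 &&& (g.y4 ^^^ g.y6 ^^^ h.z2 ^^^ h.x3 ^^^ h.y4)) ^^^ g.z8 ^^^ (g.z8
      &&& (h.z2)) ^^^ g.x5 ^^^ g.x7)) ^^^ (h.z2 &&& ((g.y6 &&& g.y8) ^^^ g.x7 ^^^ g.z8))
      ^^^ (h.x3 &&& (g.y6 ^^^ g.y8)) ^^^ (g.y4 &&& h.y4) ^^^ g.z4 ^^^ h.z4
    x5 := (h.x1 &&& (g.z8 ^^^ (g.z8 &&& (g.y6 ^^^ g.y8 ^^^ h.y2 ^^^ h.y4)) ^^^ g.y8 ^^^ (g.y8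
      &&& (g.x7 ^^^ h.y4)) ^^^ g.x7)) ^^^ (g.y8 &&& ((h.y2 &&& (g.y6 ^^^ h.y4)) ^^^ h.z2
      ^^^ h.x3)) ^^^ g.x5 ^^^ (g.y6 &&& h.y4) ^^^ (g.x7 &&& h.y2) ^^^ (g.z8 &&& h.z2) ^^^
      h.x5
    y6 := (g.y8 &&& (h.x1 ^^^ h.y2)) ^^^ g.y6 ^^^ (g.z8 &&& h.x1) ^^^ h.y6
    z6 := (g.y8 &&& (h.x1 ^^^ (h.x1 &&& (h.y4 ^^^ (h.y4 &&& (g.z8)) ^^^ g.y6 ^^^ g.x7 ^^^ h.y2
      ^^^ h.y6)) ^^^ (h.y2 &&& (g.y6 ^^^ g.x7 ^^^ h.y6)) ^^^ h.z2 ^^^ (h.z2 &&& (g.z8))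
      ^^^ h.x5)) ^^^ (g.z8 &&& ((h.x1 &&& (g.y6 ^^^ g.x7 ^^^ h.y2 ^^^ h.y4 ^^^ h.y6)) ^^^
      h.y2 ^^^ (h.y2 &&& (h.y4)) ^^^ h.z2 ^^^ h.x3)) ^^^ (g.x7 &&& (h.y2 ^^^ h.y4)) ^^^
      (g.y6 &&& h.y6) ^^^ g.z6 ^^^ h.z6
    x7 := (g.y8 &&& (h.x1 ^^^ (h.x1 &&& (g.z8)) ^^^ h.y6)) ^^^ (g.z8 &&& (h.x1 ^^^ h.y2)) ^^^
      g.x7 ^^^ h.x7
    y8 := g.y8 ^^^ h.y8
    z8 := (g.y8 &&& h.y8) ^^^ g.z8 ^^^ h.z8 }⟩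

instance : Inv V := ⟨fun g =>
  { x1 := g.x1
    y2 := (g.x1 &&& g.y8) ^^^ g.y2
    z2 := (g.x1 &&& (g.y8 ^^^ (g.y8 &&& (g.y2)) ^^^ g.y4 ^^^ g.y6 ^^^ g.z8)) ^^^ g.y2 ^^^ g.z2
    x3 := (g.x1 &&& (g.y8 ^^^ (g.y8 &&& (g.y2 ^^^ g.y4 ^^^ g.y6 ^^^ g.z8)) ^^^ g.z8 ^^^ (g.z8
      &&& (g.y2)) ^^^ g.y6 ^^^ g.x7)) ^^^ (g.y2 &&& g.y4) ^^^ (g.z2 &&& g.y8) ^^^ g.x3
    y4 := (g.x1 &&& (g.y8 ^^^ g.z8)) ^^^ (g.y2 &&& g.y8) ^^^ g.y4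
    z4 := (g.x1 &&& (g.z8 ^^^ (g.z8 &&& (g.y2 ^^^ (g.y2 &&& (g.y6)) ^^^ g.z2 ^^^ g.x3 ^^^ g.y4
      ^^^ g.y6 ^^^ g.x7)) ^^^ (g.y8 &&& ((g.y2 &&& (g.y6 ^^^ g.x7)) ^^^ g.z2 ^^^ g.y4 ^^^
      g.y6 ^^^ g.x7)) ^^^ (g.x7 &&& (g.y2 ^^^ g.y4 ^^^ g.y6)) ^^^ g.y6 ^^^ g.z6)) ^^^
      (g.y2 &&& (g.y8 ^^^ (g.y8 &&& (g.x3 ^^^ g.y4)) ^^^ g.z8 ^^^ (g.z8 &&& (g.z2)) ^^^
      (g.y4 &&& g.y6) ^^^ g.x5)) ^^^ (g.z2 &&& (g.x7 ^^^ g.y8 ^^^ g.z8)) ^^^ (g.x3 &&&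
      (g.y6 ^^^ g.y8)) ^^^ g.y4 ^^^ g.z4
    x5 := (g.x1 &&& (g.y8 ^^^ (g.y8 &&& (g.y2 ^^^ g.y6 ^^^ g.x7 ^^^ g.z8)) ^^^ g.z8 ^^^ (g.z8
      &&& (g.y2 ^^^ g.y6)) ^^^ g.x7)) ^^^ (g.y2 &&& (g.x7 ^^^ g.z8)) ^^^ (g.z2 &&& g.z8)
      ^^^ (g.x3 &&& g.y8) ^^^ (g.y4 &&& g.y6) ^^^ g.x5
    y6 := (g.x1 &&& g.z8) ^^^ (g.y2 &&& g.y8) ^^^ g.y6
    z6 := (g.y8 &&& ((g.y2 &&& (g.y6 ^^^ g.x7 ^^^ g.z8)) ^^^ g.x1 ^^^ (g.x1 &&& ((g.y6 &&&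
      g.z8))) ^^^ g.z2 ^^^ (g.z2 &&& (g.z8)) ^^^ g.x3 ^^^ (g.y4 &&& g.y6) ^^^ g.x5)) ^^^
      (g.z8 &&& ((g.x1 &&& (g.y2 ^^^ g.y6 ^^^ g.x7)) ^^^ g.z2 ^^^ g.x3)) ^^^ (g.x7 &&&
      (g.y2 ^^^ g.y4)) ^^^ g.y6 ^^^ g.z6
    x7 := (g.y8 &&& (g.x1 ^^^ (g.x1 &&& (g.z8)) ^^^ g.y2 ^^^ g.y6)) ^^^ (g.z8 &&& (g.x1 ^^^
      g.y2)) ^^^ g.x7
    y8 := g.y8
    z8 := g.y8 ^^^ g.z8 }⟩

/-- The power with exponent the bit `m`. -/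
def V.pw (g : V) (m : ℕ) : V :=
  ⟨g.x1 &&& m, g.y2 &&& m, g.z2 &&& m, g.x3 &&& m, g.y4 &&& m, g.z4 &&& m,
    g.x5 &&& m, g.y6 &&& m, g.z6 &&& m, g.x7 &&& m, g.y8 &&& m, g.z8 &&& m⟩

/-- The positions where two families differ. -/
def V.df (g h : V) : ℕ :=
  (g.x1 ^^^ h.x1) ||| (g.y2 ^^^ h.y2) ||| (g.z2 ^^^ h.z2) ||| (g.x3 ^^^ h.x3) |||
  (g.y4 ^^^ h.y4) ||| (g.z4 ^^^ h.z4) ||| (g.x5 ^^^ h.x5) ||| (g.y6 ^^^ h.y6) |||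
  (g.z6 ^^^ h.z6) ||| (g.x7 ^^^ h.x7) ||| (g.y8 ^^^ h.y8) ||| (g.z8 ^^^ h.z8)

/-- All positions below `2 ^ k`. -/
def ones (k : ℕ) : ℕ := 2 ^ 2 ^ k - 1

/-- The `j`-th variable among `k`. -/
def var : ℕ → ℕ → ℕ
  | 0, _ => 0
  | k + 1, j => if j = k then ones k <<< 2 ^ k else var k j ||| var k j <<< 2 ^ k

theorem testBit_ones {k i : ℕ} (h : i < 2 ^ k) : (ones k).testBit i = true := by
  simp [ones, h]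

theorem var_lt (k j : ℕ) : var k j < 2 ^ 2 ^ k := by
  induction k with
  | zero => simp [var]
  | succ k ih =>
    have h : ∀ n < 2 ^ 2 ^ k, n <<< 2 ^ k < 2 ^ 2 ^ (k + 1) := fun n hn => by
      rw [Nat.shiftLeft_eq, pow_succ 2 k, mul_two, pow_add]
      exact Nat.mul_lt_mul_of_pos_right hn (by positivity)
    rw [var]
    split_ifs
    · exact h _ (by simp [ones])
    · exact Nat.or_lt_two_pow (ih.trans_le (Nat.pow_le_pow_right two_pos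
        (Nat.pow_le_pow_right two_pos k.le_succ))) (h _ ih)

theorem exists_pos (k : ℕ) (f : ℕ → Bool) :
    ∃ i < 2 ^ k, ∀ j < k, (var k j).testBit i = f j := by
  induction k with
  | zero => exact ⟨0, by simp, by simp⟩
  | succ k ih =>
    obtain ⟨i, hi, h⟩ := ih
    cases hf : f k
    · refine ⟨i, by omega, fun j hj => ?_⟩
      rw [var]
      split_ifs with e
      · simp [e, hf, hi.not_ge]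
      · simp [hi.not_ge, h j (by omega)]
    · refine ⟨2 ^ k + i, by omega, fun j hj => ?_⟩
      rw [var]
      split_ifs with e
      · simp [e, hf, testBit_ones hi]
      · have := Nat.testBit_lt_two_pow ((var_lt k j).trans_le
          (Nat.pow_le_pow_right two_pos (Nat.le_add_right (2 ^ k) i)))
        simp [this, h j (by omega)]

variable (K : Type) [Field K] [Rf K]

/-- The value of a bit. -/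
def bt (i n : ℕ) : K := if n.testBit i then 1 else 0

/-- The member at position `i`. -/
@[simps] def ev (i : ℕ) (g : V) : P K :=
  ⟨bt K i g.x1, bt K i g.y2, bt K i g.z2, bt K i g.x3, bt K i g.y4, bt K i g.z4,
    bt K i g.x5, bt K i g.y6, bt K i g.z6, bt K i g.x7, bt K i g.y8, bt K i g.z8⟩

variable {K}

theorem bt_and (i m n : ℕ) : bt K i (m &&& n) = bt K i m * bt K i n := by
  simp only [bt, Nat.testBit_and]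
  cases m.testBit i <;> cases n.testBit i <;> simp

theorem bt_xor (i m n : ℕ) : bt K i (m ^^^ n) = bt K i m + bt K i n := by
  simp only [bt, Nat.testBit_xor]
  cases m.testBit i <;> cases n.testBit i <;> simp [CharTwo.add_self_eq_zero]

theorem bt_zero (i : ℕ) : bt K i 0 = 0 := by simp [bt]

theorem bt_ones {k i : ℕ} (h : i < 2 ^ k) : bt K i (ones k) = 1 := by simp [bt, testBit_ones h]

theorem bt_sq (i m : ℕ) : bt K i m * bt K i m = bt K i m := by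
  unfold bt; split_ifs <;> simp

theorem s_bt (i m : ℕ) : σ (bt K i m) = bt K i m := by
  unfold bt; split_ifs <;> simp

theorem bt_eq_zero {i m : ℕ} : bt K i m = 0 ↔ m.testBit i = false := by
  unfold bt; split_ifs with h <;> simp [h]

theorem bt_or_eq_zero {i m n : ℕ} : bt K i (m ||| n) = 0 ↔ bt K i m = 0 ∧ bt K i n = 0 := by
  simp [bt_eq_zero]

theorem ev_mul (i : ℕ) (g h : V) : ev K i (g * h) = ev K i g * ev K i h := by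
  have := bt_sq (K := K) i g.x1
  have := bt_sq (K := K) i g.y2
  have := bt_sq (K := K) i g.z2
  have := bt_sq (K := K) i g.x3
  have := bt_sq (K := K) i g.y4
  have := bt_sq (K := K) i g.z4
  have := bt_sq (K := K) i g.x5
  have := bt_sq (K := K) i g.y6
  have := bt_sq (K := K) i g.z6
  have := bt_sq (K := K) i g.x7
  have := bt_sq (K := K) i g.y8
  have := bt_sq (K := K) i g.z8
  have := bt_sq (K := K) i h.x1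
  have := bt_sq (K := K) i h.y2
  have := bt_sq (K := K) i h.z2
  have := bt_sq (K := K) i h.x3
  have := bt_sq (K := K) i h.y4
  have := bt_sq (K := K) i h.z4
  have := bt_sq (K := K) i h.x5
  have := bt_sq (K := K) i h.y6
  have := bt_sq (K := K) i h.z6
  have := bt_sq (K := K) i h.x7
  have := bt_sq (K := K) i h.y8
  have := bt_sq (K := K) i h.z8
  ext
  · change bt K i (g.x1 ^^^ h.x1) = _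
    simp only [P.mul_x1, ev, bt_and, bt_xor, s_bt] <;> grind
  · change bt K i (g.y2 ^^^ (g.y8 &&& h.x1) ^^^ h.y2) = _
    simp only [P.mul_y2, ev, bt_and, bt_xor, s_bt] <;> grind
  · change bt K i ((h.x1 &&& ((g.y8 &&& (g.y2 ^^^ h.y2)) ^^^ g.y4 ^^^ g.y6 ^^^ g.z8)) ^^^ (g.y2 &&&
      h.y2) ^^^ g.z2 ^^^ h.z2) = _
    simp only [P.mul_z2, ev, bt_and, bt_xor, s_bt] <;> grind
  · change bt K i ((h.x1 &&& (g.y8 ^^^ (g.y8 &&& (g.y4 ^^^ g.z8)) ^^^ g.z8 ^^^ (g.z8 &&& (h.y2)) ^^^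
      g.y6 ^^^ g.x7)) ^^^ (g.y8 &&& (h.y2 ^^^ h.z2)) ^^^ g.x3 ^^^ (g.y4 &&& h.y2) ^^^ h.x3) = _
    simp only [P.mul_x3, ev, bt_and, bt_xor, s_bt] <;> grind
  · change bt K i (g.y4 ^^^ (g.y8 &&& h.y2) ^^^ (g.z8 &&& h.x1) ^^^ h.y4) = _
    simp only [P.mul_y4, ev, bt_and, bt_xor, s_bt] <;> grind
  · change bt K i ((h.x1 &&& (g.z8 ^^^ (g.z8 &&& (g.y6 ^^^ (g.y6 &&& (g.y8 ^^^ h.y2)) ^^^ g.y4 ^^^ g.x7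
      ^^^ h.z2 ^^^ h.x3 ^^^ h.y4)) ^^^ g.y8 ^^^ (g.y8 &&& (h.y2 ^^^ (h.y2 &&& (g.x7)) ^^^
      g.x5 ^^^ g.y6 ^^^ h.x3)) ^^^ (g.x7 &&& (g.y6 ^^^ h.y2)) ^^^ g.z6)) ^^^ (h.y2 &&&
      (g.y8 ^^^ (g.y8 &&& (g.y4 ^^^ g.y6 ^^^ h.z2 ^^^ h.x3 ^^^ h.y4)) ^^^ g.z8 ^^^ (g.z8
      &&& (h.z2)) ^^^ g.x5 ^^^ g.x7)) ^^^ (h.z2 &&& ((g.y6 &&& g.y8) ^^^ g.x7 ^^^ g.z8))
      ^^^ (h.x3 &&& (g.y6 ^^^ g.y8)) ^^^ (g.y4 &&& h.y4) ^^^ g.z4 ^^^ h.z4) = _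
    simp only [P.mul_z4, ev, bt_and, bt_xor, s_bt] <;> grind
  · change bt K i ((h.x1 &&& (g.z8 ^^^ (g.z8 &&& (g.y6 ^^^ g.y8 ^^^ h.y2 ^^^ h.y4)) ^^^ g.y8 ^^^ (g.y8
      &&& (g.x7 ^^^ h.y4)) ^^^ g.x7)) ^^^ (g.y8 &&& ((h.y2 &&& (g.y6 ^^^ h.y4)) ^^^ h.z2
      ^^^ h.x3)) ^^^ g.x5 ^^^ (g.y6 &&& h.y4) ^^^ (g.x7 &&& h.y2) ^^^ (g.z8 &&& h.z2) ^^^
      h.x5) = _
    simp only [P.mul_x5, ev, bt_and, bt_xor, s_bt] <;> grind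
  · change bt K i ((g.y8 &&& (h.x1 ^^^ h.y2)) ^^^ g.y6 ^^^ (g.z8 &&& h.x1) ^^^ h.y6) = _
    simp only [P.mul_y6, ev, bt_and, bt_xor, s_bt] <;> grind
  · change bt K i ((g.y8 &&& (h.x1 ^^^ (h.x1 &&& (h.y4 ^^^ (h.y4 &&& (g.z8)) ^^^ g.y6 ^^^ g.x7 ^^^ h.y2
      ^^^ h.y6)) ^^^ (h.y2 &&& (g.y6 ^^^ g.x7 ^^^ h.y6)) ^^^ h.z2 ^^^ (h.z2 &&& (g.z8))
      ^^^ h.x5)) ^^^ (g.z8 &&& ((h.x1 &&& (g.y6 ^^^ g.x7 ^^^ h.y2 ^^^ h.y4 ^^^ h.y6)) ^^^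
      h.y2 ^^^ (h.y2 &&& (h.y4)) ^^^ h.z2 ^^^ h.x3)) ^^^ (g.x7 &&& (h.y2 ^^^ h.y4)) ^^^
      (g.y6 &&& h.y6) ^^^ g.z6 ^^^ h.z6) = _
    simp only [P.mul_z6, ev, bt_and, bt_xor, s_bt] <;> grind
  · change bt K i ((g.y8 &&& (h.x1 ^^^ (h.x1 &&& (g.z8)) ^^^ h.y6)) ^^^ (g.z8 &&& (h.x1 ^^^ h.y2)) ^^^
      g.x7 ^^^ h.x7) = _
    simp only [P.mul_x7, ev, bt_and, bt_xor, s_bt] <;> grind
  · change bt K i (g.y8 ^^^ h.y8) = _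
    simp only [P.mul_y8, ev, bt_and, bt_xor, s_bt] <;> grind
  · change bt K i ((g.y8 &&& h.y8) ^^^ g.z8 ^^^ h.z8) = _
    simp only [P.mul_z8, ev, bt_and, bt_xor, s_bt] <;> grind

theorem ev_inv (i : ℕ) (g : V) : ev K i g⁻¹ = (ev K i g)⁻¹ := by
  have := bt_sq (K := K) i g.x1
  have := bt_sq (K := K) i g.y2
  have := bt_sq (K := K) i g.z2
  have := bt_sq (K := K) i g.x3
  have := bt_sq (K := K) i g.y4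
  have := bt_sq (K := K) i g.z4
  have := bt_sq (K := K) i g.x5
  have := bt_sq (K := K) i g.y6
  have := bt_sq (K := K) i g.z6
  have := bt_sq (K := K) i g.x7
  have := bt_sq (K := K) i g.y8
  have := bt_sq (K := K) i g.z8
  ext
  · change bt K i (g.x1) = _
    simp only [P.inv_x1, ev, bt_and, bt_xor, s_bt] <;> grind
  · change bt K i ((g.x1 &&& g.y8) ^^^ g.y2) = _
    simp only [P.inv_y2, ev, bt_and, bt_xor, s_bt] <;> grind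
  · change bt K i ((g.x1 &&& (g.y8 ^^^ (g.y8 &&& (g.y2)) ^^^ g.y4 ^^^ g.y6 ^^^ g.z8)) ^^^ g.y2 ^^^ g.z2) = _
    simp only [P.inv_z2, ev, bt_and, bt_xor, s_bt] <;> grind
  · change bt K i ((g.x1 &&& (g.y8 ^^^ (g.y8 &&& (g.y2 ^^^ g.y4 ^^^ g.y6 ^^^ g.z8)) ^^^ g.z8 ^^^ (g.z8
      &&& (g.y2)) ^^^ g.y6 ^^^ g.x7)) ^^^ (g.y2 &&& g.y4) ^^^ (g.z2 &&& g.y8) ^^^ g.x3) = _
    simp only [P.inv_x3, ev, bt_and, bt_xor, s_bt] <;> grind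
  · change bt K i ((g.x1 &&& (g.y8 ^^^ g.z8)) ^^^ (g.y2 &&& g.y8) ^^^ g.y4) = _
    simp only [P.inv_y4, ev, bt_and, bt_xor, s_bt] <;> grind
  · change bt K i ((g.x1 &&& (g.z8 ^^^ (g.z8 &&& (g.y2 ^^^ (g.y2 &&& (g.y6)) ^^^ g.z2 ^^^ g.x3 ^^^ g.y4
      ^^^ g.y6 ^^^ g.x7)) ^^^ (g.y8 &&& ((g.y2 &&& (g.y6 ^^^ g.x7)) ^^^ g.z2 ^^^ g.y4 ^^^
      g.y6 ^^^ g.x7)) ^^^ (g.x7 &&& (g.y2 ^^^ g.y4 ^^^ g.y6)) ^^^ g.y6 ^^^ g.z6)) ^^^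
      (g.y2 &&& (g.y8 ^^^ (g.y8 &&& (g.x3 ^^^ g.y4)) ^^^ g.z8 ^^^ (g.z8 &&& (g.z2)) ^^^
      (g.y4 &&& g.y6) ^^^ g.x5)) ^^^ (g.z2 &&& (g.x7 ^^^ g.y8 ^^^ g.z8)) ^^^ (g.x3 &&&
      (g.y6 ^^^ g.y8)) ^^^ g.y4 ^^^ g.z4) = _
    simp only [P.inv_z4, ev, bt_and, bt_xor, s_bt] <;> grind
  · change bt K i ((g.x1 &&& (g.y8 ^^^ (g.y8 &&& (g.y2 ^^^ g.y6 ^^^ g.x7 ^^^ g.z8)) ^^^ g.z8 ^^^ (g.z8
      &&& (g.y2 ^^^ g.y6)) ^^^ g.x7)) ^^^ (g.y2 &&& (g.x7 ^^^ g.z8)) ^^^ (g.z2 &&& g.z8)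
      ^^^ (g.x3 &&& g.y8) ^^^ (g.y4 &&& g.y6) ^^^ g.x5) = _
    simp only [P.inv_x5, ev, bt_and, bt_xor, s_bt] <;> grind
  · change bt K i ((g.x1 &&& g.z8) ^^^ (g.y2 &&& g.y8) ^^^ g.y6) = _
    simp only [P.inv_y6, ev, bt_and, bt_xor, s_bt] <;> grind
  · change bt K i ((g.y8 &&& ((g.y2 &&& (g.y6 ^^^ g.x7 ^^^ g.z8)) ^^^ g.x1 ^^^ (g.x1 &&& ((g.y6 &&&
      g.z8))) ^^^ g.z2 ^^^ (g.z2 &&& (g.z8)) ^^^ g.x3 ^^^ (g.y4 &&& g.y6) ^^^ g.x5)) ^^^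
      (g.z8 &&& ((g.x1 &&& (g.y2 ^^^ g.y6 ^^^ g.x7)) ^^^ g.z2 ^^^ g.x3)) ^^^ (g.x7 &&&
      (g.y2 ^^^ g.y4)) ^^^ g.y6 ^^^ g.z6) = _
    simp only [P.inv_z6, ev, bt_and, bt_xor, s_bt] <;> grind
  · change bt K i ((g.y8 &&& (g.x1 ^^^ (g.x1 &&& (g.z8)) ^^^ g.y2 ^^^ g.y6)) ^^^ (g.z8 &&& (g.x1 ^^^
      g.y2)) ^^^ g.x7) = _
    simp only [P.inv_x7, ev, bt_and, bt_xor, s_bt] <;> grind
  · change bt K i (g.y8) = _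
    simp only [P.inv_y8, ev, bt_and, bt_xor, s_bt] <;> grind
  · change bt K i (g.y8 ^^^ g.z8) = _
    simp only [P.inv_z8, ev, bt_and, bt_xor, s_bt] <;> grind

open Classical in
/-- The power with exponent `t ∈ {0, 1}`. -/
noncomputable def pw (g : P K) (t : K) : P K := if t = 0 then 1 else g

theorem ev_pw (i : ℕ) (g : V) (m : ℕ) : ev K i (g.pw m) = pw (ev K i g) (bt K i m) := by
  unfold pw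
  split_ifs with h
  · ext <;> simp [V.pw, bt_and, h]
  · have : bt K i m = 1 := by unfold bt at h ⊢; split_ifs at h ⊢ <;> simp_all
    ext <;> simp [V.pw, bt_and, this]

theorem df_iff {i : ℕ} {g h : V} : bt K i (g.df h) = 0 ↔ ev K i g = ev K i h := by
  simp only [V.df, bt_or_eq_zero, bt_xor, P.ext_iff, ev, CharTwo.add_eq_zero, and_assoc]

theorem exists_bt (hK : ∀ μ : K, μ = 0 ∨ μ = 1) (k : ℕ) (f : ℕ → K) :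
    ∃ i < 2 ^ k, ∀ j < k, bt K i (var k j) = f j := by
  classical
  obtain ⟨i, hi, h⟩ := exists_pos k fun j => decide (f j = 1)
  refine ⟨i, hi, fun j hj => ?_⟩
  rcases hK (f j) with e | e <;> simp [bt, h j hj, e]

end Cfsg.Agent.F4.Bit
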