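import Cfsg.Agent.Lib.F4.Nrm

/-!
Row CEN: for `q > 2` the torus is self-centralising in `Aut(Q₁)` and `Aut(Q₂)`.
-/

set_option autoImplicit false
set_option linter.unusedSectionVars false
set_option linter.unusedSimpArgs false
set_option linter.unnecessarySeqFocus false

namespace Cfsg.Agent.F4

open Cfsg.Agent.Fus Cfsg.Agent.Fus2 Subgroup Nr

namespace Cn

variable {K : Type} [Field K] [Rf K]

/-- The monomial `μ ^ (a + b s)`. -/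
def Ee (μ : K) (a b : ℤ) : K := μ ^ a * σ μ ^ b

/-- The norm of `a + b s` is a power of two. -/
def Ok (a b : ℤ) : Prop := ∃ k < 5, (a ^ 2 - 2 * b ^ 2).natAbs = 2 ^ k

instance (a b : ℤ) : Decidable (Ok a b) := by unfold Ok; infer_instance

section Weights

variable {μ : K} (h₀ : μ ≠ 0)
include h₀

theorem Ee_ne (a b : ℤ) : Ee μ a b ≠ 0 := mul_ne_zero (zpow_ne_zero _ h₀) (zpow_ne_zero _ (s_ne h₀))

theorem mul_Ee (a b c d : ℤ) : Ee μ a b * Ee μ c d = Ee μ (a + c) (b + d) := by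
  simp only [Ee, zpow_add₀ h₀, zpow_add₀ (s_ne h₀)]; ring

omit h₀ in
theorem s_Ee (a b : ℤ) : σ (Ee μ a b) = Ee μ (2 * b) a := by
  simp only [Ee, map_mul, map_zpow₀, Rf.s_s, zpow_mul]
  rw [mul_comm, zpow_ofNat]

theorem zero_of (h₁ : μ ≠ 1) {a b : ℤ} (o : Ok a b) {x : K} (h : Ee μ a b * x = x) : x = 0 := by
  by_contra hx
  have e₁ : Ee μ a b = 1 := mul_right_cancel₀ hx (h.trans (one_mul x).symm)
  have e₂ : Ee μ (2 * b) a = 1 := by rw [← s_Ee, e₁, map_one]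
  have e₃ : μ ^ (a ^ 2 - 2 * b ^ 2) = 1 := by
    have : Ee μ a b ^ a * Ee μ (2 * b) a ^ (-b) = μ ^ (a ^ 2 - 2 * b ^ 2) := by
      simp only [Ee, mul_zpow, ← zpow_mul]
      rw [mul_mul_mul_comm, ← zpow_add₀ h₀, ← zpow_add₀ (s_ne h₀), show b * a + a * -b = 0 by ring,
        zpow_zero, mul_one]
      congr 1
      ring
    rw [← this, e₁, e₂]; simp
  obtain ⟨k, -, hk⟩ := o
  rw [← zpow_natAbs_eq_one_iff', hk] at e₃
  exact h₁ (sub_eq_zero.1 (pow_eq_zero_iff (n := 2 ^ k) (by positivity) |>.1 (by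
    rw [sub_pow_char_pow, e₃]; simp)))
where
  zpow_natAbs_eq_one_iff' {n : ℤ} : μ ^ n.natAbs = 1 ↔ μ ^ n = 1 := by
    obtain ⟨m, rfl | rfl⟩ := Int.eq_nat_or_neg n <;> simp

theorem fix (h₁ : μ ≠ 1) {a b c d : ℤ} {g : P K} (h : dg (Units.mk0 _ (Ee_ne h₀ a b))
    (Units.mk0 _ (Ee_ne h₀ c d)) (RingEquiv.refl K) g = g) :
    (Ok a b → g.x1 = 0) ∧ (Ok (a + c) (b + d) → g.y2 = 0) ∧
    (Ok (a + 2 * b + c + 2 * d) (b + a + d + c) → g.z2 = 0) ∧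
    (Ok (a + 2 * b + (c + c) + 2 * d) (b + a + (d + d) + c) → g.x3 = 0) ∧
    (Ok (2 * b + c + 2 * d) (a + d + c) → g.y4 = 0) ∧
    (Ok (a + a + 2 * b + (c + c + c) + (2 * d + 2 * d)) (b + b + a + (d + d + d) + (c + c)) →
      g.z4 = 0) ∧
    (Ok (a + 2 * b + (c + c) + (2 * d + 2 * d)) (b + a + (d + d) + (c + c)) → g.x5 = 0) ∧
    (Ok (a + c + 2 * d) (b + d + c) → g.y6 = 0) ∧
    (Ok (a + 2 * b + (c + c + c) + (2 * d + 2 * d)) (b + a + (d + d + d) + (c + c)) → g.z6 = 0) ∧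
    (Ok (a + (c + c) + 2 * d) (b + (d + d) + c) → g.x7 = 0) ∧ (Ok c d → g.y8 = 0) ∧
    (Ok (c + 2 * d) (d + c) → g.z8 = 0) := by
  rw [P.ext_iff] at h
  simp only [dg_x1, dg_y2, dg_z2, dg_x3, dg_y4, dg_z4, dg_x5, dg_y6, dg_z6, dg_x7, dg_y8, dg_z8,
    Units.val_mk0, s_Ee, pow_succ, pow_zero, one_mul, mul_Ee h₀, RingEquiv.refl_apply] at h
  obtain ⟨e1, e2, e3, e4, e5, e6, e7, e8, e9, e10, e11, e12⟩ := h
  exact ⟨(zero_of h₀ h₁ · e1), (zero_of h₀ h₁ · e2), (zero_of h₀ h₁ · e3), (zero_of h₀ h₁ · e4),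
    (zero_of h₀ h₁ · e5), (zero_of h₀ h₁ · e6), (zero_of h₀ h₁ · e7), (zero_of h₀ h₁ · e8),
    (zero_of h₀ h₁ · e9), (zero_of h₀ h₁ · e10), (zero_of h₀ h₁ · e11), (zero_of h₀ h₁ · e12)⟩

end Weights

variable [Finite K] {Q : Subgroup (P K)} {n : P K → P K} (hn : IsAut Q n)

include hn in
/-- An automorphism of a Suzuki root group that scales the coordinates. -/
theorem suz {μ : K} (h₀ : μ ≠ 0) (h₁ : μ ≠ 1) (y : K → K → P K) (hy : ∀ a b, y a b ∈ Q)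
    (mul : ∀ a b c d, y a b * y c d = y (a + c) (b + d + a * σ c))
    (inj : ∀ a b c d, y a b = y c d → b = d) {c g : K}
    (h : ∀ t, n (y t 0) = y (c * t) (g * (t * σ t))) : g = 0 := by
  obtain ⟨t, ht⟩ := exists_N (σ μ)
  have e₁ : y 1 0 * y μ 0 = y (1 + μ) 0 * (y t 0 * y t 0) := by
    rw [mul, mul, mul, CharTwo.add_self_eq_zero t, ht]; simp
  have e₂ := congrArg n e₁
  rw [hn.hom.map_mul (hy ..) (hy ..), hn.hom.map_mul (hy ..) (mul_mem (hy ..) (hy ..)),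
    hn.hom.map_mul (hy ..) (hy ..), h, h, h, h, mul, mul, mul, CharTwo.add_self_eq_zero (c * t)] at e₂
  have e₃ := inj _ _ _ _ e₂
  simp only [map_add, map_mul, map_one, map_zero] at e₃
  refine mul_right_cancel₀ (sub_ne_zero.2 (s_ne_self h₀ h₁)) ?_
  grind

variable {μ : K} (h₀ : μ ≠ 0) (h₁ : μ ≠ 1)
  (hc : ∀ l m, ∀ x ∈ Q, n (dg l m (RingEquiv.refl K) x) = dg l m (RingEquiv.refl K) (n x))
include hn h₀ h₁ hc

theorem fixed {x : P K} (hx : x ∈ Q) (a b c d : ℤ) (h : dg (Units.mk0 _ (Ee_ne h₀ a b))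
    (Units.mk0 _ (Ee_ne h₀ c d)) (RingEquiv.refl K) x = x) : dg (Units.mk0 _ (Ee_ne h₀ a b))
    (Units.mk0 _ (Ee_ne h₀ c d)) (RingEquiv.refl K) (n x) = n x := by rw [← hc _ _ x hx, h]

omit h₀ h₁ in
theorem spread {r : K → P K} {r' : K → P K} (h0 : r 0 = 1) (h0' : r' 0 = 1) (hr : r 1 ∈ Q)
    (e : n (r 1) = r' 1) (h : ∀ t : Kˣ, ∃ l m, dg l m (RingEquiv.refl K) (r 1) = r t ∧
      dg l m (RingEquiv.refl K) (r' 1) = r' t) (t : K) : n (r t) = r' t := by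
  by_cases ht : t = 0
  · rw [ht, h0, h0', hn.hom.map_one]
  obtain ⟨l, m, e₁, e₂⟩ := h (Units.mk0 t ht)
  exact e₁.symm ▸ (hc l m _ hr).trans (e ▸ e₂)

omit h₀ h₁ hc in
theorem ne_zero {r : K → P K} {c : K} (h0 : r 0 = 1) (hr : r 1 ∈ Q) (h1 : r 1 ≠ 1)
    (e : ∀ t, n (r t) = r (c * t)) : c ≠ 0 := fun h =>
  h1 (hn.inj hr (one_mem _) (by rw [e, h, zero_mul, h0, hn.hom.map_one]))

theorem root1 (hx : rx1 1 ∈ Q) : ∃ c, ∀ t, n (rx1 t) = rx1 (c * t) := by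
  obtain ⟨-, a2, a3, a4, a5, a6, a7, a8, a9, a10, a11, a12⟩ :=
    fix h₀ h₁ (fixed hn h₀ h₁ hc hx 0 0 1 0 (by ext <;> simp [Ee]))
  refine ⟨(n (rx1 1)).x1, spread hn hc (r' := fun t => rx1 (_ * t)) rfl (by simp; rfl) hx ?_
    fun t => ⟨t, 1, by ext <;> simp, by ext <;> simp [mul_comm]⟩⟩
  ext <;> simp [a2 (by decide), a3 (by decide), a4 (by decide), a5 (by decide), a6 (by decide),
    a7 (by decide), a8 (by decide), a9 (by decide), a10 (by decide), a11 (by decide), a12 (by decide)]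

theorem root7 (hx : rx7 1 ∈ Q) : ∃ c, ∀ t, n (rx7 t) = rx7 (c * t) := by
  obtain ⟨a1, a2, a3, a4, a5, a6, a7, a8, a9, -, a11, a12⟩ :=
    fix h₀ h₁ (fixed hn h₀ h₁ hc hx 2 1 (-1) 0 (by
      ext <;> simp [s_Ee, sq, mul_Ee h₀] <;> simp [Ee]))
  refine ⟨(n (rx7 1)).x7, spread hn hc (r' := fun t => rx7 (_ * t)) rfl (by simp; rfl) hx ?_
    fun t => ⟨t, 1, by ext <;> simp, by ext <;> simp [mul_comm]⟩⟩
  ext <;> simp [a1 (by decide), a2 (by decide), a3 (by decide), a4 (by decide), a5 (by decide),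
    a6 (by decide), a7 (by decide), a8 (by decide), a9 (by decide), a11 (by decide), a12 (by decide)]

theorem root2 (hx : ∀ a b, (⟨0, a, b, 0, 0, 0, 0, 0, 0, 0, 0, 0⟩ : P K) ∈ Q) :
    ∃ c, ∀ t, n (ry2 t) = ry2 (c * t) := by
  obtain ⟨a1, -, -, a4, a5, a6, a7, a8, a9, a10, a11, a12⟩ :=
    fix h₀ h₁ (fixed hn h₀ h₁ hc (hx 1 0) 1 0 (-1) 0 (by
      ext <;> simp [s_Ee, sq, mul_Ee h₀] <;> simp [Ee]))
  have e := spread hn hc (r := ry2) (r' := fun t => ⟨0, (n (ry2 1)).y2 * t,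
    (n (ry2 1)).z2 * (t * σ t), 0, 0, 0, 0, 0, 0, 0, 0, 0⟩) rfl (by simp; rfl) (hx 1 0) (by
      ext <;> simp [ry2, a1 (by decide), a4 (by decide), a5 (by decide), a6 (by decide),
        a7 (by decide), a8 (by decide), a9 (by decide), a10 (by decide), a11 (by decide),
        a12 (by decide)])
    fun t => ⟨t, 1, by ext <;> simp, by ext <;> simp [mul_comm]⟩
  refine ⟨(n (ry2 1)).y2, fun t => (e t).trans ?_⟩
  rw [suz hn h₀ h₁ _ hx (fun a b c d => by ext <;> simp) (fun a b c d h => congrArg P.z2 h) e,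
    zero_mul]
  rfl

theorem root4 (hx : ∀ a b, (⟨0, 0, 0, 0, a, b, 0, 0, 0, 0, 0, 0⟩ : P K) ∈ Q) :
    ∃ c, ∀ t, n (ry4 t) = ry4 (c * t) := by
  obtain ⟨a1, a2, a3, a4, -, -, a7, a8, a9, a10, a11, a12⟩ :=
    fix h₀ h₁ (fixed hn h₀ h₁ hc (hx 1 0) 1 1 0 (-1) (by
      ext <;> simp [s_Ee, sq, mul_Ee h₀] <;> simp [Ee]))
  have e := spread hn hc (r := ry4) (r' := fun t => ⟨0, 0, 0, 0, (n (ry4 1)).y4 * t,
    (n (ry4 1)).z4 * (t * σ t), 0, 0, 0, 0, 0, 0⟩) rfl (by simp; rfl) (hx 1 0) (by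
      ext <;> simp [ry4, a1 (by decide), a2 (by decide), a3 (by decide), a4 (by decide),
        a7 (by decide), a8 (by decide), a9 (by decide), a10 (by decide), a11 (by decide),
        a12 (by decide)])
    fun t => by
      obtain ⟨l, hl⟩ := exists_s (t : K)
      exact ⟨Units.mk0 l fun e => t.ne_zero (by rw [← hl, e, map_zero]), 1, by ext <;> simp [hl],
        by ext <;> simp [← hl, Rf.s_s] <;> ring⟩
  refine ⟨(n (ry4 1)).y4, fun t => (e t).trans ?_⟩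
  rw [suz hn h₀ h₁ _ hx (fun a b c d => by ext <;> simp) (fun a b c d h => congrArg P.z4 h) e,
    zero_mul]
  rfl

theorem root6 (hx : ∀ a b, (⟨0, 0, 0, 0, 0, 0, 0, a, b, 0, 0, 0⟩ : P K) ∈ Q) :
    ∃ c, ∀ t, n (ry6 t) = ry6 (c * t) := by
  obtain ⟨a1, a2, a3, a4, a5, a6, a7, -, -, a10, a11, a12⟩ :=
    fix h₀ h₁ (fixed hn h₀ h₁ hc (hx 1 0) 1 1 (-1) 0 (by
      ext <;> simp [s_Ee, sq, mul_Ee h₀] <;> simp [Ee]))
  have e := spread hn hc (r := ry6) (r' := fun t => ⟨0, 0, 0, 0, 0, 0, 0, (n (ry6 1)).y6 * t,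
    (n (ry6 1)).z6 * (t * σ t), 0, 0, 0⟩) rfl (by simp; rfl) (hx 1 0) (by
      ext <;> simp [ry6, a1 (by decide), a2 (by decide), a3 (by decide), a4 (by decide),
        a5 (by decide), a6 (by decide), a7 (by decide), a10 (by decide), a11 (by decide),
        a12 (by decide)])
    fun t => ⟨t, 1, by ext <;> simp, by ext <;> simp [mul_comm]⟩
  refine ⟨(n (ry6 1)).y6, fun t => (e t).trans ?_⟩
  rw [suz hn h₀ h₁ _ hx (fun a b c d => by ext <;> simp) (fun a b c d h => congrArg P.z6 h) e,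
    zero_mul]
  rfl

theorem root8 (hx : ∀ a b, (⟨0, 0, 0, 0, 0, 0, 0, 0, 0, 0, a, b⟩ : P K) ∈ Q) :
    ∃ c, ∀ t, n (ry8 t) = ry8 (c * t) := by
  obtain ⟨a1, a2, a3, a4, a5, a6, a7, a8, a9, a10, -, -⟩ :=
    fix h₀ h₁ (fixed hn h₀ h₁ hc (hx 1 0) 1 0 0 0 (by ext <;> simp [Ee]))
  have e := spread hn hc (r := ry8) (r' := fun t => ⟨0, 0, 0, 0, 0, 0, 0, 0, 0, 0,
    (n (ry8 1)).y8 * t, (n (ry8 1)).z8 * (t * σ t)⟩) rfl (by simp; rfl) (hx 1 0) (by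
      ext <;> simp [ry8, a1 (by decide), a2 (by decide), a3 (by decide), a4 (by decide),
        a5 (by decide), a6 (by decide), a7 (by decide), a8 (by decide), a9 (by decide),
        a10 (by decide)])
    fun t => ⟨1, t, by ext <;> simp, by ext <;> simp [mul_comm]⟩
  refine ⟨(n (ry8 1)).y8, fun t => (e t).trans ?_⟩
  rw [suz hn h₀ h₁ _ hx (fun a b c d => by ext <;> simp) (fun a b c d h => congrArg P.z8 h) e,
    zero_mul]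
  rfl

omit hn h₀ h₁ hc

/-- Every value of the coordinate `c` is taken on `M ∩ H`. -/
def Hit (H M : Subgroup (P K)) (c : P K → K) : Prop := ∀ t, ∃ m ∈ M, m ∈ H ∧ c m = t

theorem sub {H M N : Subgroup (P K)} {c : P K → K} (h : Hit H M c)
    (hc : ∀ a ∈ M, ∀ b ∈ M, c a = c b → a⁻¹ * b ∈ N) (hN : N ≤ H) : M ≤ H := fun x hx => by
  obtain ⟨m, hm, hm', e⟩ := h (c x)
  simpa using mul_mem hm' (hN (hc m hm x hx e))

theorem low {H : Subgroup (P K)} (h₁ : Hit H (D3 K) P.y6) (h₂ : Hit H (D2 K) P.y4)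
    (h₃ : Hit H (J0 K) P.x7) (h₄ : Hit H (V2 K) P.z2) (h₅ : Hit H (U4 K) P.x3)
    (h₆ : Hit H (U3 K) P.x5) (h₇ : Hit H (V1 K) P.z6) (h₈ : Hit H (Z K) P.z4) : D3 K ≤ H :=
  sub h₁ (fun a ⟨a1, a2, a3, a4⟩ b ⟨b1, b2, b3, b4⟩ e => mod_D2.2 (by simp [*])) <|
  sub h₂ (fun a ⟨a1, a2, a3, a4, a5⟩ b ⟨b1, b2, b3, b4, b5⟩ e => mod_J0.2 (by simp [*])) <|
  sub h₃ (fun a ⟨a1, a2, a3, a4, a5, a6⟩ b ⟨b1, b2, b3, b4, b5, b6⟩ e => mod_V2.2 (by simp [*])) <|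
  sub h₄ (fun a ⟨a1, a2, a3, a4, a5, a6, a7⟩ b ⟨b1, b2, b3, b4, b5, b6, b7⟩ e =>
    mod_U4.2 (by simp [*])) <|
  sub h₅ (fun a ⟨a1, a2, a3, a4, a5, a6, a7, a8⟩ b ⟨b1, b2, b3, b4, b5, b6, b7, b8⟩ e =>
    mod_U3.2 (by simp [*])) <|
  sub h₆ (fun a ⟨a1, a2, a3, a4, a5, a6, a7, a8, a9⟩ b ⟨b1, b2, b3, b4, b5, b6, b7, b8, b9⟩ e =>
    mod_V1.2 (by simp [*])) <|
  sub h₇ (fun a ⟨a1, a2, a3, a4, a5, a6, a7, a8, a9, a10⟩ b
    ⟨b1, b2, b3, b4, b5, b6, b7, b8, b9, b10⟩ e => mod_Z.2 (by simp [*])) <|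
  sub h₈ (fun a ha b hb e => by rw [eq_rz4 ha, eq_rz4 hb, e, inv_mul_cancel]; exact one_mem _) bot_le

theorem icj_mem {H : Subgroup (P K)} {g x : P K} (hg : g ∈ H) (hx : x ∈ H) :
    x⁻¹ * (g * x * g⁻¹) ∈ H := mul_mem (inv_mem hx) (mul_mem (mul_mem hg hx) (inv_mem hg))

theorem sq_mem {H : Subgroup (P K)} {y z : K → P K} (h : ∀ t, y t ∈ H)
    (e : ∀ t, y t * y t = z (t * σ t)) (t : K) : z t ∈ H := by
  obtain ⟨c, rfl⟩ := exists_N t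
  exact e c ▸ mul_mem (h c) (h c)

theorem gen1 (h₀ : μ ≠ 0) (h₁ : μ ≠ 1) {H : Subgroup (P K)} (h2 : ∀ t, ry2 t ∈ H)
    (h8 : ∀ t, ry8 t ∈ H) : Q1 K ≤ H := by
  have z2 := sq_mem (z := rz2) h2 fun t => by ext <;> simp [CharTwo.add_self_eq_zero]
  have z8 := sq_mem (z := rz8) h8 fun t => by ext <;> simp [CharTwo.add_self_eq_zero]
  have k : ∀ t u : K, ((ry2 t)⁻¹ * (ry8 u * ry2 t * (ry8 u)⁻¹)).y6 = σ u * t ∧
      ((ry2 t)⁻¹ * (ry8 u * ry2 t * (ry8 u)⁻¹)).y4 = u * σ t := fun t u => by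
    constructor <;> simp [CharTwo.add_self_eq_zero]
  have m : ∀ t u : K, (ry2 t)⁻¹ * (ry8 u * ry2 t * (ry8 u)⁻¹) ∈ D3 K := fun t u =>
    icj_S_Z7 _ ⟨rfl, rfl⟩
  have x5 : Hit H (U3 K) P.x5 := fun t => ⟨_, icj_D1_D1 (by simp [mem_D1]) (by simp [mem_D1]),
    icj_mem (z8 1) (z2 t), by simp [CharTwo.add_self_eq_zero]⟩
  refine sub (c := P.y8) (fun t => ⟨_, rfl, h8 t, rfl⟩) (fun a ha b hb e =>
    mod_Z7.2 ⟨ha.trans hb.symm, e⟩) <| sub (c := P.y2) (fun t => ⟨_, ⟨rfl, rfl⟩, h2 t, rfl⟩)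
    (fun a ha b hb e => mod_D1.2 ⟨ha.1.trans hb.1.symm, ha.2.trans hb.2.symm, e⟩) <|
    sub (c := P.z8) (fun t => ⟨_, ⟨rfl, rfl, rfl⟩, z8 t, rfl⟩)
    (fun a ⟨a1, a2, a3⟩ b ⟨b1, b2, b3⟩ e => mod_D3.2 (by simp [*])) <|
    low (fun t => ⟨_, m t 1, icj_mem (h8 1) (h2 t), by rw [(k t 1).1]; simp⟩) (fun t => ?_)
      (fun t => ⟨_, ?_, icj_mem (z8 1) (h2 t), ?_⟩) (fun t => ⟨_, by simp [mem_V2], z2 t, rfl⟩)
      (fun t => ⟨_, icj_S_J0 _ (by simp [mem_J0]), icj_mem (h8 1) (z2 t), ?_⟩) x5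
      (fun t => ?_) fun t => ?_
  · have hμ : μ + 1 ≠ 0 := fun e => h₁ (by grind)
    obtain ⟨a, ha⟩ := exists_s (t * μ / (μ + 1))
    obtain ⟨a1, a2, a3, a4⟩ := m a 1
    obtain ⟨b1, b2, b3, b4⟩ := m (a / σ μ) μ
    have := s_ne h₀
    refine ⟨_, ⟨?_, ?_, ?_, ?_, ?_⟩,
      mul_mem (icj_mem (h8 1) (h2 a)) (icj_mem (h8 μ) (h2 (a / σ μ))), ?_⟩
    · rw [P.mul_x1, a1, b1, add_zero]
    · rw [P.mul_y8, a2, b2, add_zero]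
    · rw [P.mul_y2, a2, a3, b3]; simp
    · rw [P.mul_z8, a2, a4, b4]; simp
    · rw [P.mul_y6, a2, a4, (k _ _).1, (k _ _).1]; field_simp; simp [CharTwo.add_self_eq_zero]
    · rw [P.mul_y4, a2, a4, (k _ _).2, (k _ _).2, map_div₀, Rf.s_s, ha]; field_simp; ring
  · simp [mem_J0, CharTwo.add_self_eq_zero]
  · simp [CharTwo.add_self_eq_zero]
  · simp [CharTwo.add_self_eq_zero]
  · obtain ⟨x, hx, hx', rfl⟩ := x5 t
    exact ⟨_, icj_S_U3 _ hx, icj_mem (h8 1) hx', by rw [f_z6 _ hx]; simp⟩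
  · obtain ⟨x, hx, hx', rfl⟩ := x5 t
    refine ⟨_, icj_N8_U3 rfl hx, icj_mem (h2 1) hx', ?_⟩
    obtain ⟨a1, a2, a3, a4, a5, a6, a7, a8, a9⟩ := hx
    simp [a1, a2, a3, a4, a5, a6, a7, a8, a9]
    grind

theorem gen2 {H : Subgroup (P K)} (h1 : ∀ t, rx1 t ∈ H) (h2 : ∀ t, ry2 t ∈ H) (h4 : ∀ t, ry4 t ∈ H)
    (h6 : ∀ t, ry6 t ∈ H) (h7 : ∀ t, rx7 t ∈ H) : Q2 K ≤ H :=
  sub (c := P.x1) (fun t => ⟨_, ⟨rfl, rfl⟩, h1 t, rfl⟩)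
    (fun a ⟨a1, a2⟩ b ⟨b1, b2⟩ e => mod_Q12.2 (by simp [*])) <|
  sub (c := P.y2) (fun t => ⟨_, ⟨rfl, rfl, rfl⟩, h2 t, rfl⟩)
    (fun a ⟨a1, a2, a3⟩ b ⟨b1, b2, b3⟩ e => mod_D3.2 (by simp [*])) <|
  low (fun t => ⟨_, by simp [mem_D3], h6 t, rfl⟩) (fun t => ⟨_, by simp [mem_D2], h4 t, rfl⟩)
    (fun t => ⟨_, by simp [mem_J0], h7 t, rfl⟩)
    (fun t => ⟨_, by simp [mem_V2], sq_mem (z := rz2) h2
      (fun t => by ext <;> simp [CharTwo.add_self_eq_zero]) t, rfl⟩)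
    (fun t => ⟨_, by simp [mem_U4, CharTwo.add_self_eq_zero], icj_mem (h4 1) (h2 t),
      by simp [CharTwo.add_self_eq_zero]⟩)
    (fun t => ⟨_, by simp [mem_U3, CharTwo.add_self_eq_zero], icj_mem (h6 1) (h4 t),
      by simp [CharTwo.add_self_eq_zero]⟩)
    (fun t => ⟨_, by simp [mem_V1], sq_mem (z := rz6) h6
      (fun t => by ext <;> simp [CharTwo.add_self_eq_zero]) t, rfl⟩)
    fun t => ⟨_, rz4_mem t, sq_mem (z := rz4) h4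
      (fun t => by ext <;> simp [CharTwo.add_self_eq_zero]) t, rfl⟩

/-- The elements on which `n` agrees with `α`. -/
def eqOn (hn : IsAut Q n) (α : MulAut (P K)) : Subgroup (P K) where
  carrier := {x | x ∈ Q ∧ n x = α x}
  one_mem' := ⟨one_mem _, by rw [hn.hom.map_one, map_one]⟩
  mul_mem' := fun {x y} hx hy =>
    ⟨mul_mem hx.1 hy.1, by rw [hn.hom.map_mul hx.1 hy.1, hx.2, hy.2, map_mul]⟩
  inv_mem' := fun {x} hx => ⟨inv_mem hx.1, by rw [hn.hom.map_inv hx.1, hx.2, map_inv]⟩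

theorem map_icj (hn : IsAut Q n) {g x : P K} (hg : g ∈ Q) (hx : x ∈ Q) :
    n (x⁻¹ * (g * x * g⁻¹)) = (n x)⁻¹ * (n g * n x * (n g)⁻¹) := by
  rw [hn.hom.map_mul (inv_mem hx) (icj_mem' hg hx), hn.hom.map_inv hx, hn.hom.map_conj hg hx]
where icj_mem' {g x : P K} (hg : g ∈ Q) (hx : x ∈ Q) : g * x * g⁻¹ ∈ Q :=
  mul_mem (mul_mem hg hx) (inv_mem hg)

end Cn

open Cn in
theorem cen : CenStmt := by
  rintro K _ _ _ ⟨μ, h₀, h₁⟩ Q (rfl | rfl) n hn hc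
  · obtain ⟨c₂, e₂⟩ := root2 hn h₀ h₁ hc fun _ _ => rfl
    obtain ⟨c₈, e₈⟩ := root8 hn h₀ h₁ hc fun _ _ => rfl
    have n₂ := ne_zero hn (r := ry2) rfl rfl (fun e => by simpa using congrArg P.y2 e) e₂
    have n₈ := ne_zero hn (r := ry8) rfl rfl (fun e => by simpa using congrArg P.y8 e) e₈
    exact ⟨Units.mk0 _ (div_ne_zero n₂ n₈), Units.mk0 _ n₈, fun x hx =>
      (gen1 h₀ h₁ (H := eqOn hn _) (fun t => ⟨rfl, by rw [e₂]; ext <;> simp [n₈]⟩)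
        (fun t => ⟨rfl, by rw [e₈]; ext <;> simp⟩) hx).2⟩
  obtain ⟨c₁, e₁⟩ := root1 hn h₀ h₁ hc ⟨rfl, rfl⟩
  obtain ⟨c₂, e₂⟩ := root2 hn h₀ h₁ hc fun _ _ => ⟨rfl, rfl⟩
  obtain ⟨c₄, e₄⟩ := root4 hn h₀ h₁ hc fun _ _ => ⟨rfl, rfl⟩
  obtain ⟨c₆, e₆⟩ := root6 hn h₀ h₁ hc fun _ _ => ⟨rfl, rfl⟩
  obtain ⟨c₇, e₇⟩ := root7 hn h₀ h₁ hc ⟨rfl, rfl⟩
  have n₁ := ne_zero hn (r := rx1) rfl ⟨rfl, rfl⟩ (fun e => by simpa using congrArg P.x1 e) e₁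
  have n₂ := ne_zero hn (r := ry2) rfl ⟨rfl, rfl⟩ (fun e => by simpa using congrArg P.y2 e) e₂
  have m₁ : rx1 (1 : K) ∈ Q2 K := ⟨rfl, rfl⟩
  have m₂ : ry2 (1 : K) ∈ Q2 K := ⟨rfl, rfl⟩
  have m₄ : ry4 (1 : K) ∈ Q2 K := ⟨rfl, rfl⟩
  have m₆ : ry6 (1 : K) ∈ Q2 K := ⟨rfl, rfl⟩
  have m₇ : rx7 (1 : K) ∈ Q2 K := ⟨rfl, rfl⟩
  have r₁ : (rx1 (1 : K))⁻¹ * (ry4 1 * rx1 1 * (ry4 1)⁻¹) = ry2 1 * ry2 1 := by
    ext <;> simp [CharTwo.add_self_eq_zero]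
  have r₀ : ∀ a b : K, (ry4 a)⁻¹ * (ry6 b * ry4 a * (ry6 b)⁻¹) = rx5 (b * a) := fun a b => by
    ext <;> simp [CharTwo.add_self_eq_zero]
  have r₂ : (ry2 (1 : K))⁻¹ * ((ry4 1)⁻¹ * (ry6 1 * ry4 1 * (ry6 1)⁻¹) * ry2 1 *
      ((ry4 1)⁻¹ * (ry6 1 * ry4 1 * (ry6 1)⁻¹))⁻¹) = ry4 1 * ry4 1 := by
    rw [r₀]
    ext <;> simp [CharTwo.add_self_eq_zero]
  have r₃ : (ry4 (1 : K))⁻¹ * (rx7 1 * ry4 1 * (rx7 1)⁻¹) = ry6 1 * ry6 1 := by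
    ext <;> simp [CharTwo.add_self_eq_zero]
  have s₁ := congrArg (fun x => (n x).z2) r₁
  have s₂ := congrArg (fun x => (n x).z4) r₂
  have s₃ := congrArg (fun x => (n x).z6) r₃
  simp only [Cn.map_icj hn m₄ m₁, Cn.map_icj hn (icj_mem m₆ m₄) m₂, Cn.map_icj hn m₆ m₄,
    Cn.map_icj hn m₇ m₄, hn.hom.map_mul m₂ m₂, hn.hom.map_mul m₄ m₄, hn.hom.map_mul m₆ m₆,
    e₁, e₂, e₄, e₆, e₇] at s₁ s₂ s₃
  rw [r₀] at s₂
  simp [CharTwo.add_self_eq_zero] at s₁ s₂ s₃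
  obtain ⟨m, rfl⟩ : ∃ m, c₂ = c₁ * m := ⟨c₂ / c₁, by field_simp⟩
  have n₃ := right_ne_zero_of_mul n₂
  have a₄ : c₄ = σ c₁ * m * σ m := mul_left_cancel₀ n₁ (by grind)
  have n₄ : c₄ ≠ 0 := a₄ ▸ mul_ne_zero (mul_ne_zero (s_ne n₁) n₃) (s_ne n₃)
  have a₆ : c₆ = c₁ * m * σ m := mul_left_cancel₀ (mul_ne_zero n₂ n₄) (by
    have := congrArg σ a₄
    simp only [map_mul, Rf.s_s] at this
    grind)
  have a₇ : c₇ = c₁ * m ^ 2 * σ m := mul_left_cancel₀ n₄ (by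
    have := congrArg σ a₆
    simp only [map_mul, Rf.s_s] at this
    grind)
  exact ⟨Units.mk0 _ n₁, Units.mk0 _ n₃, fun x hx => (gen2 (H := eqOn hn _)
    (fun t => ⟨⟨rfl, rfl⟩, by rw [e₁]; ext <;> simp⟩) (fun t => ⟨⟨rfl, rfl⟩, by rw [e₂]; ext <;> simp⟩)
    (fun t => ⟨⟨rfl, rfl⟩, by rw [e₄, a₄]; ext <;> simp⟩)
    (fun t => ⟨⟨rfl, rfl⟩, by rw [e₆, a₆]; ext <;> simp⟩)
    (fun t => ⟨⟨rfl, rfl⟩, by rw [e₇, a₇]; ext <;> simp⟩) hx).2⟩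

end Cfsg.Agent.F4
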