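import Cfsg.Agent.Lib.F4.Basic

/-!
Row CH1: automorphisms of `Q₁`.
-/

set_option autoImplicit false
set_option linter.unnecessarySeqFocus false
set_option linter.unusedSimpArgs false

namespace Cfsg.Agent.F4

open Cfsg.Agent.Fus2 Subgroup

variable {K : Type} [Field K] [Rf K] {Q : Subgroup (P K)} {f : P K → P K}

namespace IsAut

theorem icj (hf : IsAut Q f) {g y : P K} (hg : g ∈ Q) (hy : y ∈ Q) :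
    f (y⁻¹ * (g * y * g⁻¹)) = (f y)⁻¹ * (f g * f y * (f g)⁻¹) := by
  rw [hf.hom.map_mul (inv_mem hy) (mul_mem (mul_mem hg hy) (inv_mem hg)), hf.hom.map_inv hy,
    hf.hom.map_conj hg hy]

theorem comm (hf : IsAut Q f) {x y : P K} (hx : x ∈ Q) (hy : y ∈ Q) (h : x * y = y * x) :
    f x * f y = f y * f x := by
  rw [← hf.hom.map_mul hx hy, h, hf.hom.map_mul hy hx]

variable [Finite K]

theorem surj (hf : IsAut Q f) {R : Subgroup (P K)} (hR : R ≤ Q) (h : Mp f R R) {y : P K}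
    (hy : y ∈ R) : ∃ x ∈ R, f x = y := by
  obtain ⟨x, hx⟩ := Finite.surjective_of_injective (f := fun x : R => (⟨_, h x x.2⟩ : R))
    (fun x x' e => Subtype.ext (hf.inj (hR x.2) (hR x'.2) (congrArg Subtype.val e))) ⟨y, hy⟩
  exact ⟨x, x.2, congrArg Subtype.val hx⟩

theorem of_mem (hf : IsAut Q f) {R : Subgroup (P K)} (hR : R ≤ Q) (h : Mp f R R) {x : P K}
    (hx : x ∈ Q) (hy : f x ∈ R) : x ∈ R := by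
  obtain ⟨x', h₁, h₂⟩ := hf.surj hR h hy
  rwa [← hf.inj (hR h₁) hx h₂]

theorem mp_icj (hf : IsAut Q f) {Y D B C : Subgroup (P K)} (hD : D ≤ Q) (hB : B ≤ Q) (hY : Y ≤ D)
    (mD : Mp f D D) (mB : Mp f B B) (mC : Mp f C C)
    (h₁ : ∀ g ∈ Y, ∀ b ∈ B, b⁻¹ * (g * b * g⁻¹) ∈ C)
    (h₂ : ∀ g ∈ D, (∀ b ∈ B, b⁻¹ * (g * b * g⁻¹) ∈ C) → g ∈ Y) : Mp f Y Y := fun g hg =>
  h₂ _ (mD g (hY hg)) fun b hb => by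
    obtain ⟨b', hb', rfl⟩ := hf.surj hB mB hb
    rw [← hf.icj (hD (hY hg)) (hB hb')]
    exact mC _ (h₁ g hg b' hb')

theorem mp_comm (hf : IsAut Q f) {Y D B : Subgroup (P K)} (hD : D ≤ Q) (hB : B ≤ Q) (hY : Y ≤ D)
    (mD : Mp f D D) (mB : Mp f B B) (h₁ : ∀ g ∈ Y, ∀ b ∈ B, g * b = b * g)
    (h₂ : ∀ g ∈ D, (∀ b ∈ B, g * b = b * g) → g ∈ Y) : Mp f Y Y := fun g hg =>
  h₂ _ (mD g (hY hg)) fun b hb => by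
    obtain ⟨b', hb', rfl⟩ := hf.surj hB mB hb
    exact hf.comm (hD (hY hg)) (hB hb') (h₁ g hg b' hb')

end IsAut

namespace C1

theorem mem_U3_of {g : P K} (hg : g ∈ Q1 K) (h : ∀ b ∈ Q1 K, b⁻¹ * (g * b * g⁻¹) ∈ V1 K) :
    g ∈ U3 K := by
  have a1 := mem_Q1.1 hg
  obtain ⟨-, -, -, -, -, -, -, h₁, -⟩ := icj_V1_iff.1 (h (ry6 1) rfl)
  obtain ⟨-, -, -, -, -, -, -, h₂, -⟩ := icj_V1_iff.1 (h (rz8 1) rfl)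
  obtain ⟨-, -, -, -, -, -, -, h₃, h₄, h₅⟩ := icj_V1_iff.1 (h (ry2 1) rfl)
  obtain ⟨-, -, -, -, -, -, -, h₆, h₇, h₈⟩ := icj_V1_iff.1 (h (ry8 1) rfl)
  simp [a1] at h₁ h₂
  simp [a1, h₁, h₂] at h₃ h₆
  simp [a1, h₁, h₂, h₃, h₆] at h₄ h₅ h₇
  simp [a1, h₁, h₂, h₃, h₆, h₄, h₅, h₇] at h₈
  exact ⟨a1, h₁, h₂, h₃, h₆, h₄, h₇, h₅, h₈⟩

theorem mem_V1_of {g : P K} (hg : g ∈ Q1 K) (h : ∀ b ∈ Q1 K, g * b = b * g) : g ∈ V1 K := by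
  obtain ⟨a1, a2, a3, a4, a5, a6, a7, a8, a9⟩ := mem_U3_of hg fun b hb => by
    rw [h b hb]; simp [one_mem]
  have := congrArg P.z6 (h (ry8 1) rfl)
  simp [a1, a2, a3, a4, a5, a6, a7, a8, a9] at this
  exact ⟨a1, a2, a3, a4, a5, a6, a7, a8, a9, this⟩

theorem mem_A1_of {g : P K} (hg : g ∈ D1 K) (h : ∀ b ∈ D1 K, b⁻¹ * (g * b * g⁻¹) ∈ V1 K) :
    g ∈ A1 K := by
  obtain ⟨a1, a2, a3⟩ := hg
  have h₁ := (icj_V1_iff.1 (h (rz2 1) ⟨rfl, rfl, rfl⟩)).2.2.2.2.2.2.2.2.2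
  have h₂ := (icj_V1_iff.1 (h (ry4 1) ⟨rfl, rfl, rfl⟩)).2.2.2.2.2.2.2.2.2
  have h₃ := (icj_V1_iff.1 (h (ry6 1) ⟨rfl, rfl, rfl⟩)).2.2.2.2.2.2.2.2.2
  have h₄ := (icj_V1_iff.1 (h (rz8 1) ⟨rfl, rfl, rfl⟩)).2.2.2.2.2.2.2.2.2
  simp [a1, a2, a3] at h₁ h₂ h₃ h₄
  exact ⟨a1, a2, a3, h₁, h₂, h₃, h₄⟩

theorem mem_U4_of {g : P K} (hg : g ∈ A1 K) (h : ∀ b ∈ Z7 K, b⁻¹ * (g * b * g⁻¹) ∈ V1 K) :
    g ∈ U4 K := by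
  obtain ⟨a1, a2, a3, a4, a5, a6, a7⟩ := hg
  have h₁ := (icj_V1_iff.1 (h (ry2 1) ⟨rfl, rfl⟩)).2.2.2.2.2.2.2.2.2
  simp [a1, a2, a3, a4, a5, a6, a7] at h₁
  exact ⟨a1, a2, a3, a4, a5, a6, a7, h₁⟩

theorem mem_D3_of {g : P K} (hg : g ∈ D1 K) (h : ∀ b ∈ U4 K, b⁻¹ * (g * b * g⁻¹) ∈ Z K) :
    g ∈ D3 K := by
  obtain ⟨a1, a2, a3⟩ := hg
  have h₁ := (icj_Z_iff.1 (h (rx3 1) (by simp [mem_U4]))).2.2.2.2.2.2.2.2.2.2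
  simp [a1, a2, a3] at h₁
  exact ⟨a1, a2, a3, h₁⟩

theorem mem_J0_of {g : P K} (hg : g ∈ D3 K) (h : ∀ b ∈ D3 K, b⁻¹ * (g * b * g⁻¹) ∈ V1 K) :
    g ∈ J0 K := by
  obtain ⟨a1, a2, a3, a4⟩ := hg
  have h₂ := (icj_V1_iff.1 (h (ry4 1) ⟨rfl, rfl, rfl, rfl⟩)).2.2.2.2.2.2.2.2.2
  have h₃ := (icj_V1_iff.1 (h (ry6 1) ⟨rfl, rfl, rfl, rfl⟩)).2.2.2.2.2.2.2.2.2
  simp [a1, a2, a3, a4] at h₂ h₃
  exact ⟨a1, a2, a3, a4, h₂, h₃⟩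

theorem icj_Zm {g v : P K} (hg : g ∈ Q1 K) (h : g.y2 = 0) (hv : v ∈ U3 K) :
    v⁻¹ * (g * v * g⁻¹) ∈ Zm K := by
  obtain ⟨b1, b2, b3, b4, b5, b6, b7, b8, b9, b10⟩ := icj_S_U3 g hv
  refine ⟨b1, b2, b3, b4, b5, b6, b7, b8, b9, b10, ?_⟩
  have e : v * g * (v⁻¹ * (g * v * g⁻¹)) = g * v := by
    rw [mul_assoc, ← comm_V1 (icj_S_U3 g hv) hg]; group
  obtain ⟨a1, a2, a3, a4, a5, a6, a7, a8, a9⟩ := hv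
  have := congrArg P.z4 e
  clear e
  generalize v⁻¹ * (g * v * g⁻¹) = c at *
  simp [a1, a2, a3, a4, a5, a6, a7, a8, a9, b1, b2, b3, b4, b5, b6, b7, b8, b9, b10, h,
    mem_Q1.1 hg] at this
  grind

theorem rz4_eq (u : K) : (rx5 u)⁻¹ * (ry2 1 * rx5 u * (ry2 1)⁻¹) = rz4 u := by
  ext <;> simp [CharTwo.add_self_eq_zero]

end C1

open C1 in
theorem ch1 : Ch1Stmt := by
  intro K _ _ _ f hf
  have v₁ := hf.mp_comm le_rfl le_rfl V1_le_Q1 hf.mem hf.mem (fun g hg b hb => comm_V1 hg hb)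
    fun g => mem_V1_of
  have u₃ := hf.mp_icj le_rfl le_rfl U3_le_Q1 hf.mem hf.mem v₁ (fun g hg b _ => icj_U3_S hg b)
    fun g => mem_U3_of
  have d₁ := hf.mp_comm le_rfl U3_le_Q1 D1_le_Q1 hf.mem u₃ (fun g hg b hb => (comm_U3 hb hg).symm)
    fun g _ => mem_D1_of_comm
  have a₁ := hf.mp_icj D1_le_Q1 D1_le_Q1 A1_le_D1 d₁ d₁ v₁ (fun g hg b => icj_A1_D1 hg)
    fun g => mem_A1_of
  refine ⟨⟨v₁, u₃, a₁, d₁⟩, fun z => ?_, ?_⟩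
  · have z₇ := hf.mp_icj le_rfl U3_le_Q1 Z7_le_Q1 hf.mem u₃ z (fun g hg b => icj_N8_U3 hg.2)
      fun g hg h => ⟨hg, mem_N8_of_icj one_ne_zero (h _ (by simp [mem_U3]))⟩
    have u₄ := hf.mp_icj A1_le_Q1 Z7_le_Q1 U4_le_A1 a₁ z₇ v₁ (fun g hg b => icj_U4_Z7 hg)
      fun g => mem_U4_of
    have d₃ := hf.mp_icj D1_le_Q1 U4_le_Q1 D3_le_D1 d₁ u₄ z (fun g hg b => icj_D3_U4 hg)
      fun g => mem_D3_of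
    exact ⟨u₄, hf.mp_icj D3_le_Q1 D3_le_Q1 J0_le_D3 d₃ d₃ v₁ (fun g hg b => icj_J0_D3 hg)
      fun g => mem_J0_of, d₃, z₇⟩
  have m : ∀ u : K, rx5 u ∈ U3 K := fun u => by simp [mem_U3]
  have e : ∀ z ∈ Z K, f z = (f (rx5 z.z4))⁻¹ * (f (ry2 1) * f (rx5 z.z4) * (f (ry2 1))⁻¹) :=
    fun z hz => by rw [← hf.icj rfl rfl, rz4_eq, ← eq_rz4 hz]
  by_cases h : (f (ry2 1)).y8 = 0
  · exact Or.inl fun z hz => e z hz ▸ icj_N8_U3 h (u₃ _ (m _))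
  refine Or.inr ⟨(f (ry2 1)).y2 / (f (ry2 1)).y8, fun z hz => ?_⟩
  have := icj_Zm (g := rx1 ((f (ry2 1)).y2 / (f (ry2 1)).y8) * f (ry2 1) * (rx1 _)⁻¹)
    (Normal.conj_mem inferInstance _ (hf.mem _ rfl) _) (by simp; field_simp; grind)
    (Normal.conj_mem inferInstance _ (u₃ _ (m z.z4)) (rx1 ((f (ry2 1)).y2 / (f (ry2 1)).y8)))
  dsimp only
  rw [e z hz]
  simpa [mul_assoc] using this

end Cfsg.Agent.F4
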