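import Cfsg.Agent.Lib.F4.Ch1

/-!
Row CH2: automorphisms of `Q₂`.
-/

set_option autoImplicit false
set_option linter.unnecessarySeqFocus false
set_option linter.unusedSimpArgs false

namespace Cfsg.Agent.F4

open Cfsg.Agent.Fus2 Subgroup

variable {K : Type} [Field K] [Rf K] {Q : Subgroup (P K)} {f : P K → P K}

theorem IsAut.mp_sq (hf : IsAut Q f) {Y D C B : Subgroup (P K)} (hD : D ≤ Q) (hC : C ≤ Q)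
    (hY : Y ≤ D) (mD : Mp f D D) (mC : Mp f C C) (mB : Mp f B B)
    (h₁ : ∀ g ∈ Y, ∃ c ∈ C, g * c * (g * c) ∈ B)
    (h₂ : ∀ g ∈ D, ∀ c ∈ C, g * c * (g * c) ∈ B → g ∈ Y) : Mp f Y Y := fun g hg => by
  obtain ⟨c, hc, h⟩ := h₁ g hg
  have m := mul_mem (hD (hY hg)) (hC hc)
  refine h₂ _ (mD g (hY hg)) _ (mC c hc) ?_
  rw [← hf.hom.map_mul (hD (hY hg)) (hC hc), ← hf.hom.map_mul m m]
  exact mB _ h

namespace C2'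

theorem mem_V2_of {g : P K} (hg : g ∈ Q2 K) (h : ∀ b ∈ Q2 K, b⁻¹ * (g * b * g⁻¹) ∈ Z K) :
    g ∈ V2 K := by
  obtain ⟨a1, a2⟩ := hg
  obtain ⟨-, -, -, -, -, -, h₁, -, h₂, h₃, -⟩ := icj_Z_iff.1 (h (rx1 1) ⟨rfl, rfl⟩)
  obtain ⟨-, -, -, -, -, -, -, -, h₄, h₅, -⟩ := icj_Z_iff.1 (h (rx7 1) ⟨rfl, rfl⟩)
  simp [a1, a2] at h₃ h₄ h₅
  simp [a1, a2, h₃] at h₂
  simp [a1, a2, h₃, h₂] at h₁
  simp [h₄] at h₅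
  exact ⟨h₄, a1, h₅, a2, h₂, h₁, h₃⟩

theorem mem_U4_of {g : P K} (hg : g ∈ V2 K) (h : g * rx7 1 = rx7 1 * g) : g ∈ U4 K := by
  obtain ⟨a1, a2, a3, a4, a5, a6, a7⟩ := hg
  have h₁ := congrArg P.z4 h
  simp [a1, a2, a3, a4, a5, a6, a7] at h₁
  exact ⟨a1, a2, a3, a4, a5, a6, h₁, a7⟩

theorem mem_U3_of {g : P K} (hg : g ∈ U4 K) (h : g * ry6 1 = ry6 1 * g) : g ∈ U3 K := by
  obtain ⟨a1, a2, a3, a4, a5, a6, a7, a8⟩ := hg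
  have h₁ := congrArg P.z4 h
  simp [a1, a2, a3, a4, a5, a6, a7, a8] at h₁
  exact ⟨a1, a2, a3, a4, a5, a6, a7, a8, h₁⟩

theorem mem_Z_of {g : P K} (hg : g ∈ Q2 K) (h : ∀ b ∈ Q2 K, g * b = b * g) : g ∈ Z K := by
  obtain ⟨a1, a2, a3, a4, a5, a6, a7, a8, a9⟩ := mem_U3_of (mem_U4_of (mem_V2_of hg fun b hb => by
    rw [h b hb]; simp [one_mem]) (h _ ⟨rfl, rfl⟩)) (h _ ⟨rfl, rfl⟩)
  have h₁ := congrArg P.z4 (h (ry2 1) ⟨rfl, rfl⟩)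
  have h₂ := congrArg P.z4 (h (rx1 1) ⟨rfl, rfl⟩)
  simp [a1, a2, a3, a4, a5, a6, a7, a8, a9] at h₁ h₂
  exact ⟨a1, a2, a3, a4, a5, a6, a7, a8, a9, h₁, h₂⟩

theorem sq_D3 {g : P K} (hg : g ∈ D3 K) : ∃ c ∈ C2 K, g * c * (g * c) ∈ V1 K := by
  obtain ⟨a1, a2, a3, a4⟩ := hg
  refine ⟨ry4 g.y4, by simp [mem_C2], ?_⟩
  simp [mem_V1, a1, a2, a3, a4, CharTwo.add_self_eq_zero]

theorem sq_D2 {g : P K} (hg : g ∈ D2 K) : ∃ c ∈ C2 K, g * c * (g * c) ∈ Z K := by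
  obtain ⟨a1, a2, a3, a4, a5⟩ := hg
  refine ⟨ry4 g.y4, by simp [mem_C2], ?_⟩
  simp [mem_Z, a1, a2, a3, a4, a5, CharTwo.add_self_eq_zero]

theorem D3_of_sq {g : P K} (hg : g ∈ Q12 K) (h : g * g ∈ V1 K) : g ∈ D3 K := by
  obtain ⟨a1, a2, a3⟩ := hg
  have h₁ := h.2.2.2.2.2.2.1
  simp [a1, a2, a3, CharTwo.add_self_eq_zero] at h₁
  exact ⟨a1, a2, h₁, a3⟩

theorem D2_of_sq {g : P K} (hg : g ∈ D3 K) (h : g * g ∈ Z K) : g ∈ D2 K := by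
  obtain ⟨a1, a2, a3, a4⟩ := hg
  obtain ⟨-, -, -, -, -, -, -, -, -, h₁, h₂⟩ := h
  simp [a1, a2, a3, a4, CharTwo.add_self_eq_zero] at h₁ h₂
  refine ⟨a1, a2, a3, a4, h₁.elim id fun h => ?_⟩
  simpa [h] using h₂

theorem icj_Vm {g c : P K} (hc : c ∈ C2 K) (h₁ : g.y8 = 0) (h₂ : g.z8 = 0) (h₃ : g.y2 = 0)
    (h₄ : g.y6 = 0) (h₅ : g.y4 = 0) (h₆ : g.x7 = 0) : c⁻¹ * (g * c * g⁻¹) ∈ Vm K := by
  obtain ⟨b1, b2, b3, b4, b5, b6, b7⟩ := icj_Q2_Q2 (g := g) ⟨h₁, h₂⟩ (C2_le_Q2 hc)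
  have e : c * (c⁻¹ * (g * c * g⁻¹)) * g = g * c := by group
  obtain ⟨a1, a2, a3, a4, a5, a6⟩ := hc
  have e₁ := congrArg P.x3 e
  have e₂ := congrArg P.x5 e
  have e₃ := congrArg P.z6 e
  clear e
  rw [mem_Vm]
  generalize c⁻¹ * (g * c * g⁻¹) = d at *
  simp [a1, a2, a3, a4, a5, a6, b1, b2, b3, b4, b5, b6, b7, h₁, h₂, h₃, h₄, h₅, h₆] at e₁ e₂ e₃
  refine ⟨b1, b2, b3, b4, b5, b6, b7, ?_, ?_, ?_⟩ <;> grind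

theorem exists_z {v : P K} (hv : v ∈ V1 K) :
    ∃ z ∈ Z K, v = (ry4 v.z6)⁻¹ * (rx7 1 * ry4 v.z6 * (rx7 1)⁻¹) * z := by
  refine ⟨_, ?_, (mul_inv_cancel_left _ _).symm⟩
  obtain ⟨a1, a2, a3, a4, a5, a6, a7, a8, a9, a10⟩ := hv
  rw [mod_Z]
  simp [a1, a2, a3, a4, a5, a6, a7, a8, a9, a10, CharTwo.add_self_eq_zero]

end C2'

open C2' in
theorem ch2 : Ch2Stmt := by
  intro K _ _ _ f hf
  have z := hf.mp_comm le_rfl le_rfl Z_le_Q2 hf.mem hf.mem (fun g hg b _ => comm_Z hg b)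
    fun g => mem_Z_of
  have v₂ := hf.mp_icj le_rfl le_rfl V2_le_Q2 hf.mem hf.mem z (fun g hg b => icj_V2_Q2 hg)
    fun g => mem_V2_of
  have c₂ := hf.mp_comm le_rfl V2_le_Q2 C2_le_Q2 hf.mem v₂ (fun g hg b hb => (comm_V2 hb hg).symm)
    fun g _ => mem_C2_of_comm
  refine ⟨⟨z, v₂, c₂⟩, fun v₁ => ?_, ?_⟩
  · have q := hf.mp_comm le_rfl V1_le_Q2 Q12_le_Q2 hf.mem v₁
      (fun g hg b hb => (comm_V1 hb (Q12_le_Q1 hg)).symm) fun g hg h =>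
        ⟨mem_Q1_of_comm one_ne_zero (h _ (Zm_le_V1 (rz6_mem 1))), hg⟩
    have d₃ := hf.mp_sq Q12_le_Q2 C2_le_Q2 D3_le_Q12 q c₂ v₁ (fun g => sq_D3) fun g hg c hc h =>
      (mul_mem_cancel_right (C2_le_D3 hc)).1 (D3_of_sq (mul_mem hg (C2_le_Q12 hc)) h)
    have d₂ := hf.mp_sq D3_le_Q2 C2_le_Q2 D2_le_D3 d₃ c₂ z (fun g => sq_D2) fun g hg c hc h =>
      (mul_mem_cancel_right (C2_le_D2 hc)).1 (D2_of_sq (mul_mem hg (C2_le_D3 hc)) h)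
    have u₄ := hf.mp_comm V2_le_Q2 D2_le_Q2 U4_le_V2 v₂ d₂ (fun g hg b hb => comm_U4 hg hb)
      fun g hg h => mem_U4_of hg (h _ ⟨rfl, rfl, rfl, rfl, rfl⟩)
    exact ⟨hf.mp_comm U4_le_Q2 D3_le_Q2 U3_le_U4 u₄ d₃
      (fun g hg b hb => comm_U3 hg (D3_le_D1 hb))
      fun g hg h => mem_U3_of hg (h _ ⟨rfl, rfl, rfl, rfl⟩), u₄, d₂, d₃, q⟩
  have m : rx7 (1 : K) ∈ Q2 K := ⟨rfl, rfl⟩
  have m' : ∀ u : K, ry4 u ∈ C2 K := fun u => by simp [mem_C2]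
  have hg : f (rx7 1) * f (rx7 1) = 1 := by
    rw [← hf.hom.map_mul m m, sq_A1 (by simp [mem_A1]), hf.hom.map_one]
  have e : ∀ v ∈ V1 K, ∃ z ∈ Z K, ∃ c ∈ C2 K,
      f v = c⁻¹ * (f (rx7 1) * c * (f (rx7 1))⁻¹) * z := fun v hv => by
    obtain ⟨y, hy, e⟩ := exists_z hv
    refine ⟨_, z y hy, _, c₂ _ (m' v.z6), ?_⟩
    rw [← hf.icj m (C2_le_Q2 (m' _)), ← hf.hom.map_mul
      (V2_le_Q2 (icj_Q2_Q2 m (C2_le_Q2 (m' _)))) (Z_le_Q2 hy), ← e]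
  by_cases h : (f (rx7 1)).x1 = 0
  · refine Or.inl fun v hv => ?_
    obtain ⟨y, hy, c, hc, e⟩ := e v hv
    rcases invC' hg h (hf.mem _ m).2 with h' | h'
    · simpa [mem_V2] using hf.of_mem V2_le_Q2 v₂ m h'
    · exact e ▸ mul_mem (icj_A1_D1 h' (C2_le_D1 hc)) (Z_le_V1 hy)
  obtain ⟨s, -, h₁, h₂, h₃, h₄, h₅, h₆⟩ := invA hg h
  refine Or.inr ⟨s, fun v hv => ?_⟩
  obtain ⟨y, hy, c, hc, e⟩ := e v hv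
  have := mul_mem (icj_Vm (Normal.conj_mem inferInstance _ hc s) h₁ h₂ h₃ h₄ h₅ h₆)
    (Z_le_Vm (Normal.conj_mem inferInstance _ hy s))
  dsimp only
  rw [e]
  simpa [mul_assoc] using this

end Cfsg.Agent.F4
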