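import Cfsg.Agent.Lib.F4.Nrm
import Cfsg.Agent.Lib.U5.CmpG

/-!
Row CMP: the automizers of `Q₁`, `Q₂` are determined by `Aut_F(S)` (`q > 2`).
-/

set_option autoImplicit false
set_option linter.unusedSimpArgs false

namespace Cfsg.Agent.F4

open Cfsg.Agent.Fus Cfsg.Agent.Fus2 Subgroup

namespace Cm

/-- Two Weyl elements acting in the same way on the torus differ by an element of `F'`. -/
theorem side {G : Type*} [Group G] [Finite G] {p : ℕ} [hp : Fact p.Prime] (hG : IsPGroup p G)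
    {D : Type*} [Group D] {F F' : FusionSystem (⊤ : Subgroup G)} (δ : D →* MulAut G)
    (hD : ¬ p ∣ Nat.card D) {A U W : Subgroup G} [A.Normal]
    (hQ : ∀ d, ∀ y ∈ A, δ d y ∈ A)
    (hE : ∀ f, (M F A f ∧ ∀ x ∈ A, f x ∈ A) → (∀ x ∈ U, f x ∈ U) → M F' A f)
    (hC : ∀ n : MulAut A, (∀ d, ∀ x ∈ A, afn n (δ d x) = δ d (afn n x)) → M F' A (afn n))
    {w w' : G → G} (hw : M F A w ∧ ∀ x ∈ A, w x ∈ A) (hw' : M F' A w' ∧ ∀ x ∈ A, w' x ∈ A)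
    (hτ : ∀ d, ∃ d', (∃ e ∈ A, ∀ x ∈ A, w (δ d x) = e * δ d' (w x) * e⁻¹) ∧
      ∃ e ∈ A, ∀ x ∈ A, w' (δ d x) = e * δ d' (w' x) * e⁻¹)
    (hW : ∀ x ∈ W, w x ∈ U) {f : G → G} (hf : M F A f ∧ ∀ x ∈ A, f x ∈ A)
    (hB : (∀ x ∈ U, f x ∈ U) ∨ ∃ s, ∀ x ∈ U, s * f x * s⁻¹ ∈ W) : M F' A f := by
  obtain ⟨α, hα, eα⟩ := hw.1.exists_aut' hw.2
  obtain ⟨α', hα', eα'⟩ := hw'.1.exists_aut' hw'.2
  have hαF : α ∈ F'.autGroup A := by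
    have : Finite (MulAut A) := Finite.of_injective (fun α : MulAut A => (α : A → A))
      DFunLike.coe_injective
    have hIp : IsPGroup p (Inn A) :=
      (hG.to_subgroup A).of_surjective _ (MonoidHom.rangeRestrict_surjective _)
    have := hIp.isNilpotent
    have hn := innNormal A
    obtain ⟨k, hk⟩ := IsPGroup.iff_card.1 hIp
    obtain ⟨i, hi, hc⟩ := Solv.exists_mul_mem_centralizer (A := (CmpG.res δ A hQ).range)
      (N := Inn A) le_normalizer_of_normal (hk ▸ (((Nat.Prime.coprime_iff_not_dvd hp.out).2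
        fun h => hD (h.trans (card_range_dvd _))).symm.pow_right k)) (.inr inferInstance)
      (α'⁻¹ * α) (by
        rintro _ ⟨d, rfl⟩
        obtain ⟨d', ⟨e, he, h₁⟩, e', he', h₂⟩ := hτ d⁻¹
        have key : ∀ (β : MulAut A) (v : G → G), (∀ x ∈ A, afn β x = v x) → ∀ c ∈ A,
            (∀ x ∈ A, v (δ d⁻¹ x) = c * δ d' (v x) * c⁻¹) →
            β * CmpG.res δ A hQ d⁻¹ * β⁻¹ * (CmpG.res δ A hQ d')⁻¹ ∈ Inn A :=
          fun β v ev c hc h => Fus2.mem_Inn_iff.2 ⟨c, hc, fun x hx => by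
            have hy := afn_mem β⁻¹ (hQ d'⁻¹ x hx)
            rw [← map_inv, afn_mul, afn_mul, afn_mul, CmpG.afn_res hQ _ hx, CmpG.afn_res hQ _ hy,
              ev _ (hQ _ _ hy), h _ hy, ← ev _ hy, afn_afn_inv]
            simp⟩
        have := hn.conj_mem _ (mul_mem (key α w eα e he h₁) (inv_mem (key α' w' eα' e' he' h₂)))
          (CmpG.res δ A hQ d * α'⁻¹)
        rw [map_inv] at this
        convert this using 1
        group)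
    have := (hC (i * (α'⁻¹ * α)) fun d x hx => by
      rw [← CmpG.afn_res hQ d hx, ← CmpG.afn_res hQ d (afn_mem _ hx), ← afn_mul, ← afn_mul,
        hc _ ⟨d, rfl⟩]).mem_autGroup fun _ _ => rfl
    rw [show α = α' * i⁻¹ * (i * (α'⁻¹ * α)) by group]
    exact mul_mem (mul_mem hα' (inv_mem (Inn_le_autGroup le_top hi))) this
  rcases hB with h | ⟨s, h⟩
  · exact hE f hf h
  have hs : ∀ s : G, ∀ x ∈ A, s * x * s⁻¹ ∈ A := fun s x hx => ‹A.Normal›.conj_mem x hx s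
  have h₁ := hE (fun x => w (s * f x * s⁻¹)) ⟨(hf.1.comp (M_conj F le_top (mem_top s)) hf.2).comp
    hw.1 fun x hx => hs s _ (hf.2 x hx), fun x hx => hw.2 _ (hs s _ (hf.2 x hx))⟩
    fun x hx => hW _ (h x hx)
  refine ((h₁.comp (M_afn le_top (inv_mem hαF)) fun x hx => hw.2 _ (hs s _ (hf.2 x hx))).comp
    (M_conj F' le_top (mem_top s⁻¹)) fun x hx => afn_mem _ (hw.2 _ (hs s _ (hf.2 x hx)))).congr
    fun x hx => ?_
  rw [← eα _ (hs s _ (hf.2 x hx)), afn_inv_afn]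
  group

variable {K : Type} [Field K] [Finite K] [Rf K] {F : FusionSystem (⊤ : Subgroup (P K))}
  {w : P K → P K}

omit [Finite K] in
theorem isAut {Q : Subgroup (P K)} (hw : Au F Q w) : IsAut Q w :=
  ⟨hw.1.homOn, fun x hx y hy e => hw.1.inj x hx y hy e, hw.2⟩

theorem exists_tw (hN : NF F) {Q U : Subgroup (P K)} (hU : U ≤ Q)
    (hE : ∀ f, Au F Q f → Mp f U U → ∃ g, M F ⊤ g ∧ ∀ x ∈ Q, g x = f x) (hw : Au F Q w)
    {h : P K → P K} (hh : Au F Q h) (hm : ∀ y ∈ Q, w y ∈ U → w (h y) ∈ U) :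
    ∃ x l m φ, ∀ y ∈ Q, w (h y) = x * dg l m φ (w y) * x⁻¹ := by
  obtain ⟨v, h₁, -, h₂, h₃, h₄⟩ := hw.1.inv' (hw.1.img_eq_self hw.2)
  obtain ⟨g, hg, e⟩ := hE (fun y => w (h (v y))) ⟨(h₁.comp hh.1 h₃).comp hw.1
    fun y hy => hh.2 _ (h₃ y hy), fun y hy => hw.2 _ (hh.2 _ (h₃ y hy))⟩
    fun y hy => hm _ (h₃ y (hU hy)) (by rwa [h₄ y (hU hy)])
  obtain ⟨x, l, m, φ, e'⟩ := hN g hg
  exact ⟨x, l, m, φ, fun y hy => by rw [← e', e _ (hw.2 y hy), h₂ y hy]⟩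

omit [Finite K] in
theorem lin1 (hw : Sw1 F w) : ∃ β : K, β ≠ 0 ∧ ∀ u, w (rz6 u) = rz4 (β * u) := by
  have h₀ : ∀ u : K, rx5 u ∈ U3 K := fun u => by simp [mem_U3]
  have h₈ : ry8 1 ∈ Q1 K := rfl
  have e : ∀ u, w (rz6 u) = rz4 ((w (ry8 1)).y2 * u) := fun u => by
    have h₁ : ry8 1 * rx5 u = rz6 u * (rx5 u * ry8 1) := by ext <;> simp
    have h₂ := congrArg w h₁
    rw [hw.1.1.map_mul h₈ (U3_le_Q1 (h₀ u)), hw.1.1.map_mul (show rz6 u ∈ Q1 K from rfl)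
      (mul_mem (U3_le_Q1 (h₀ u)) h₈), hw.1.1.map_mul (U3_le_Q1 (h₀ u)) h₈,
      eq_rz4 (hw.2.2.2 _ (rz6_mem u))] at h₂
    obtain ⟨a1, a2, a3, a4, a5, a6, a7, a8, a9, a10⟩ := mod_V1.1 (hw.2.1 _ (h₀ u))
    have b1 : (w (ry8 1)).x1 = 0 := hw.1.2 _ h₈
    have := congrArg P.z4 h₂
    rw [eq_rz4 (hw.2.2.2 _ (rz6_mem u))]
    generalize w (rx5 u) = a at *
    simp only [rx5] at a1 a2 a3 a4 a5 a6 a7 a8 a9 a10
    simp [← a1, ← a2, ← a3, ← a4, ← a5, ← a6, ← a7, ← a8, ← a9, ← a10, b1] at this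
    congr 1
    grind
  refine ⟨_, fun h => ?_, e⟩
  have := hw.1.1.inj _ (show rz6 1 ∈ Q1 K from rfl) _ (one_mem _) (by
    rw [e, h, hw.1.1.map_one]; ext <;> simp)
  simpa using congrArg P.z6 this

theorem tw1 (hN : NF F) (hE : ∀ f, Au F (Q1 K) f → Mp f (Z K) (Z K) →
    ∃ g, M F ⊤ g ∧ ∀ x ∈ Q1 K, g x = f x) (hw : Sw1 F w) (l m : Kˣ)
    (hh : M F ⊤ (dg l m (RingEquiv.refl K))) : ∃ e ∈ Q1 K, ∀ y ∈ Q1 K,
      w (dg l m (RingEquiv.refl K) y) = e * dg l⁻¹ (l * m) (RingEquiv.refl K) (w y) * e⁻¹ := by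
  obtain ⟨β, hβ, eβ⟩ := lin1 hw
  have d₆ : ∀ (l m : Kˣ) φ (u : K), dg l m φ (rz6 u) = rz6 (dg l m φ (rz6 u)).z6 := fun l m φ u => by
    ext <;> simp
  have d₄ : ∀ (l m : Kˣ) φ (u : K), dg l m φ (rz4 u) = rz4 (dg l m φ (rz4 u)).z4 := fun l m φ u => by
    ext <;> simp
  obtain ⟨x, l', m', φ, e⟩ := exists_tw hN Z_le_Q1 hE hw.1 (h := dg l m (RingEquiv.refl K))
    ⟨hh.mono le_top, fun _ => Nr.inv_Q1 _⟩ fun y hy hy' => by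
      rw [hw.1.1.inj y hy (rz6 ((w y).z4 / β)) rfl (by
        rw [eβ, mul_div_cancel₀ _ hβ, ← eq_rz4 hy']), d₆, eβ]
      exact rz4_mem _
  have hl := l.ne_zero
  have hm := m.ne_zero
  have hl' := s_ne hl
  have hm' := s_ne hm
  have e₁ : ∀ u, (l : K) * σ (l : K) * m ^ 3 * σ (m : K) ^ 2 * u =
      l' ^ 2 * σ (l' : K) * m' ^ 3 * σ (m' : K) ^ 2 * φ u := fun u => by
    have := e (rz6 (u / β)) rfl
    rw [d₆, eβ, eβ, d₄, ← comm_Z (rz4_mem _), mul_inv_cancel_right, mul_div_cancel₀ _ hβ] at this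
    have := congrArg P.z4 this
    simp only [rz4_z4, dg_z6, dg_z4, rz6_z6, RingEquiv.refl_apply] at this
    rw [← this]
    field_simp
  have e₂ := e₁ 1
  rw [map_one, mul_one, mul_one] at e₂
  obtain rfl : φ = RingEquiv.refl K := RingEquiv.ext fun u => mul_left_cancel₀
    (show (l : K) * σ (l : K) * m ^ 3 * σ (m : K) ^ 2 ≠ 0 by simp [hl', hm']) (by
      rw [RingEquiv.refl_apply, e₁ u, ← e₂])
  have e₃ : (l : K) * m ^ 2 = l' * m' ^ 2 := N_inj (by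
    have h₀ : ∀ u : K, rx5 u ∈ U3 K := fun u => by simp [mem_U3]
    have h₁ : w (rx5 1) ∈ U3 K := by simpa using mul_mem (h₀ 1) (V1_le_U3 (hw.2.1 _ (h₀ 1)))
    have h₂ := (mod_V1.1 (icj_S_U3 x (Nr.inv_U3 (dg l' m' (RingEquiv.refl K)) h₁))).2.2.2.2.2.2.2.2.2
    rw [← e _ rfl, ← (mod_V1.1 (hw.2.1 _ (Nr.inv_U3 _ (h₀ 1)))).2.2.2.2.2.2.2.2.2, dg_x5, dg_x5,
      ← (mod_V1.1 (hw.2.1 _ (h₀ 1))).2.2.2.2.2.2.2.2.2] at h₂
    simp only [map_mul, map_pow]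
    simp only [rx5_x5, map_one] at h₂
    linear_combination -h₂)
  have e₄ : (m : K) = l' * m' := mul_left_cancel₀ (mul_ne_zero (mul_ne_zero hl (pow_ne_zero 2 hm))
    (s_ne (mul_ne_zero hl (pow_ne_zero 2 hm)))) (by
      conv_rhs => rw [e₃]
      simp only [map_mul, map_pow]
      linear_combination e₂)
  obtain rfl : m' = l * m := Units.ext (mul_left_cancel₀ hm (by
    rw [Units.val_mul]; linear_combination (m' : K) * e₄ - e₃))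
  obtain rfl : l' = l⁻¹ := eq_inv_of_mul_eq_one_left (Units.ext (mul_right_cancel₀ hm (by
    simpa [mul_assoc] using e₄.symm)))
  refine ⟨x, ?_, e⟩
  have h₁ := hw.2.2.1 _ (rz4_mem 1)
  have h₂ : dg l⁻¹ (l * m) (RingEquiv.refl K) (w (rz4 1)) ∈ Zm K := by
    rw [eq_rz6 h₁, d₆]; exact rz6_mem _
  have h₃ := Nr.f_z4 x (Zm_le_V1 h₂)
  rw [← e _ rfl, (mul_mem (inv_mem h₂) (hw.2.2.1 _ (Nr.inv_Z _ (rz4_mem 1)))).2.2.2.2.2.2.2.2.2.2,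
    eq_comm, mul_eq_zero] at h₃
  refine h₃.resolve_right fun h₄ => ?_
  have h₅ : (w (rz4 1)).z6 = 0 := by simpa [hl, hm, hl', hm'] using h₄
  have := hw.1.1.inj _ (show rz4 1 ∈ Q1 K from rfl) _ (one_mem _) (by
    rw [eq_rz6 h₁, h₅, hw.1.1.map_one]; rfl)
  simpa using congrArg P.z4 this

omit [Finite K] in
theorem lin2 (hw : Sw2 F w) (hC : Mp w (C2 K) (C2 K)) :
    ∃ β : K, β ≠ 0 ∧ ∀ u, (w (rz2 u)).z6 = β * u := by
  have h₂ : ∀ u : K, rz2 u ∈ Vm K := fun u => by simp [mem_Vm]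
  have h₄ : ∀ u : K, ry4 u ∈ C2 K := fun u => by simp [mem_C2]
  have h₁ : rx1 1 ∈ Q2 K := ⟨rfl, rfl⟩
  have e : ∀ u, (w (rz2 u)).z6 = (w (rx1 1)).x7 * u := fun u => by
    have b₀ : (w (ry4 u)).y4 = u := N_inj (by
      have := hw.1.1.map_mul (C2_le_Q2 (h₄ u)) (C2_le_Q2 (h₄ u))
      rw [sq_C2 (h₄ u), sq_C2 (hC _ (h₄ u)), hw.2.1 _ (rz4_mem _)] at this
      simpa using (congrArg P.z4 this).symm)
    have h₅ : ry4 u * rx1 1 = rz2 u * (rx1 1 * ry4 u) := by ext <;> simp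
    have h₆ := congrArg w h₅
    rw [hw.1.1.map_mul (C2_le_Q2 (h₄ u)) h₁, hw.1.1.map_mul (show rz2 u ∈ Q2 K from ⟨rfl, rfl⟩)
      (mul_mem h₁ (C2_le_Q2 (h₄ u))), hw.1.1.map_mul h₁ (C2_le_Q2 (h₄ u))] at h₆
    obtain ⟨a1, a2, a3, a4, a5, a6, a7, a8, a9, a10⟩ := hw.2.2.2 _ (h₂ u)
    obtain ⟨b1, b2⟩ := hw.1.2 _ h₁
    obtain ⟨c1, c2, c3, c4, c5, c6⟩ := hC _ (h₄ u)
    have := congrArg P.z6 h₆
    simp [a1, a2, a3, a4, a5, a6, a7, a8, a9, a10, b1, b2, c1, c2, c3, c4, c5, c6, b₀] at this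
    grind
  refine ⟨_, fun h => ?_, e⟩
  obtain ⟨a1, a2, a3, a4, a5, a6, a7, a8, a9, a10⟩ := hw.2.2.2 _ (h₂ 1)
  have hz : w (rz2 1) ∈ Z K := ⟨a1, a2, a3, a4, a5, a6, a7, a8, a9, a10, by rw [e, h, zero_mul]⟩
  have := hw.1.1.inj _ (show rz2 1 ∈ Q2 K from ⟨rfl, rfl⟩) _ (Z_le_Q2 hz) (hw.2.1 _ hz).symm
  simpa [a7] using congrArg P.z2 this

theorem tw2 (hN : NF F) (hE : ∀ f, Au F (Q2 K) f → Mp f (V1 K) (V1 K) →
    ∃ g, M F ⊤ g ∧ ∀ x ∈ Q2 K, g x = f x) (hw : Sw2 F w) (hC : Mp w (C2 K) (C2 K)) (l m : Kˣ)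
    (hh : M F ⊤ (dg l m (RingEquiv.refl K))) : ∃ e ∈ Q2 K, ∀ y ∈ Q2 K,
      w (dg l m (RingEquiv.refl K) y) =
        e * dg (l * m ^ 2 * Units.map (σ : K →+* K) m) m⁻¹ (RingEquiv.refl K) (w y) * e⁻¹ := by
  obtain ⟨β, hβ, eβ⟩ := lin2 hw hC
  have h₂ : ∀ u : K, rz2 u ∈ Vm K := fun u => by simp [mem_Vm]
  have dm : ∀ (l m : Kˣ) φ, ∀ y ∈ Vm K, dg l m φ y ∈ Vm K :=
    fun l m φ y ⟨a1, a2, a3, a4, a5, a6, a7, a8, a9, a10⟩ => by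
      simp [mem_Vm, a1, a2, a3, a4, a5, a6, a7, a8, a9, a10]
  have dQ : ∀ (l m : Kˣ) φ, ∀ y ∈ Q2 K, dg l m φ y ∈ Q2 K := fun l m φ y ⟨a1, a2⟩ => by
    simp [mem_Q2, a1, a2]
  obtain ⟨x, l', m', φ, e⟩ := exists_tw hN V1_le_Q2 hE hw.1 (h := dg l m (RingEquiv.refl K))
    ⟨hh.mono le_top, dQ _ _ _⟩ fun y hy hy' => hw.2.2.2 _ (dm _ _ _ _ (by
      obtain ⟨a1, a2, a3, a4, a5, a6, a7, a8, a9, a10⟩ := hw.2.2.2 _ (h₂ ((w y).z6 / β))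
      obtain ⟨b1, b2, b3, b4, b5, b6, b7, b8, b9, b10⟩ := hy'
      have hz : (w (rz2 ((w y).z6 / β)))⁻¹ * w y ∈ Z K := mod_Z.2 (by
        simp [a1, a2, a3, a4, a5, a6, a7, a8, a9, a10, b1, b2, b3, b4, b5, b6, b7, b8, b9, b10, eβ,
          mul_div_cancel₀ _ hβ])
      rw [hw.1.1.inj y hy _ (mul_mem (Vm_le_Q2 (h₂ ((w y).z6 / β))) (Z_le_Q2 hz)) (by
        rw [hw.1.1.map_mul (Vm_le_Q2 (h₂ _)) (Z_le_Q2 hz), hw.2.1 _ hz, mul_inv_cancel_left])]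
      exact mul_mem (h₂ _) (Z_le_Vm hz)))
  have hl := l.ne_zero
  have hm := m.ne_zero
  have hl' := s_ne hl
  have hm' := s_ne hm
  have e₁ : ∀ u, (l : K) ^ 2 * σ (l : K) * m ^ 3 * σ (m : K) ^ 2 * u =
      l' ^ 2 * σ (l' : K) * m' ^ 3 * σ (m' : K) ^ 2 * φ u := fun u => by
    have := e (rz4 u) ⟨rfl, rfl⟩
    rw [hw.2.1 _ (Nr.inv_Z _ (rz4_mem u)), hw.2.1 _ (rz4_mem u),
      ← comm_Z (Nr.inv_Z _ (rz4_mem u)), mul_inv_cancel_right] at this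
    simpa using congrArg P.z4 this
  have e₂ := e₁ 1
  rw [map_one, mul_one, mul_one] at e₂
  obtain rfl : φ = RingEquiv.refl K := RingEquiv.ext fun u => mul_left_cancel₀
    (show (l : K) ^ 2 * σ (l : K) * m ^ 3 * σ (m : K) ^ 2 ≠ 0 by simp [hl', hm']) (by
      rw [RingEquiv.refl_apply, e₁ u, ← e₂])
  have e₃ : (l' : K) * σ (l' : K) * m' ^ 3 * σ (m' : K) ^ 2 = l * σ (l : K) * m * σ (m : K) := by
    have h₃ := (mod_Z.1 (icj_S_V1 x (Nr.inv_V1 (dg l' m' (RingEquiv.refl K))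
      (hw.2.2.2 _ (h₂ 1))))).2.2.2.2.2.2.2.2.2.2
    rw [← e _ ⟨rfl, rfl⟩, show dg l m (RingEquiv.refl K) (rz2 1) =
      rz2 (l * σ (l : K) * m * σ (m : K)) by ext <;> simp, eβ, dg_z6, eβ] at h₃
    exact mul_left_cancel₀ hβ (by simpa [mul_comm] using h₃)
  have e₄ : (l' : K) = l * m ^ 2 * σ (m : K) := mul_left_cancel₀
    (show (l : K) * σ (l : K) * m * σ (m : K) ≠ 0 by simp [hl', hm']) (by
      linear_combination -e₂ - (l' : K) * e₃)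
  obtain rfl : l' = l * m ^ 2 * Units.map (σ : K →+* K) m := Units.ext (by simpa using e₄)
  obtain rfl : m' = m⁻¹ := eq_inv_of_mul_eq_one_left (Units.ext (N_inj (N_inj (by
    rw [e₄] at e₃
    simp only [map_mul, map_pow, Rf.s_s, Units.val_mul, Units.val_one, map_one] at e₃ ⊢
    refine mul_left_cancel₀
      (show (l : K) * σ (l : K) * m * σ (m : K) ≠ 0 by simp [hl', hm']) ?_
    linear_combination e₃))))
  refine ⟨x, ?_, e⟩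
  have h₃ := hw.2.2.1 _ (Zm_le_V1 (rz6_mem 1))
  have h₄ := dm (l * m ^ 2 * Units.map (σ : K →+* K) m) m⁻¹ (RingEquiv.refl K) _ h₃
  have h₅ := hw.2.2.1 _ (Nr.inv_V1 (dg l m (RingEquiv.refl K)) (Zm_le_V1 (rz6_mem 1)))
  rw [e _ ⟨rfl, rfl⟩] at h₅
  have h₆ : (dg (l * m ^ 2 * Units.map (σ : K →+* K) m) m⁻¹ (RingEquiv.refl K) (w (rz6 1))).z2 ≠ 0 :=
    fun h => by
      obtain ⟨a1, a2, a3, a4, a5, a6, a7, a8, a9, a10⟩ := h₃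
      have hz : w (rz6 1) ∈ Z K := ⟨a1, a2, a3, a4, a5, a6, by
        simpa [hl, hm, hl', hm', Rf.s_s] using h, a7, a8, a9, a10⟩
      have := hw.1.1.inj _ (show rz6 1 ∈ Q2 K from ⟨rfl, rfl⟩) _ (Z_le_Q2 hz) (hw.2.1 _ hz).symm
      simpa [a10] using congrArg P.z6 this
  generalize dg _ _ _ (w (rz6 1)) = v at h₄ h₅ h₆
  have hz : (rz2 v.z2)⁻¹ * v ∈ Z K := by
    obtain ⟨a1, a2, a3, a4, a5, a6, a7, a8, a9, a10⟩ := h₄
    exact mod_Z.2 (by simp [a1, a2, a3, a4, a5, a6, a7, a8, a9, a10])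
  refine mem_Q2_of_icj h₆ ?_
  have h₇ := icj_S_J0 x (show rz2 v.z2 ∈ J0 K by simp [mem_J0])
  have h₈ : (rz2 v.z2)⁻¹ * (x * rz2 v.z2 * x⁻¹) ∈ Vm K := by
    have := mul_mem (mul_mem (inv_mem (h₂ v.z2)) h₅)
      (Z_le_Vm (inv_mem (Normal.conj_mem inferInstance _ hz x)))
    convert this using 1
    group
  obtain ⟨a1, a2, a3, a4, a5, a6, a7, a8⟩ := h₇
  exact ⟨a1, a2, a3, a4, a5, a6, a7, a8, h₈.2.2.2.2.2.2.2.1, h₈.2.2.2.2.2.2.2.2.1⟩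

variable (K) in
/-- The torus. -/
def tor : Kˣ × Kˣ →* MulAut (P K) :=
  MonoidHom.mk' (fun d => dg d.1 d.2 (RingEquiv.refl K)) fun _ _ => by rw [Nr.dg_mul]; rfl

end Cm

open Cm in
theorem cmp (h1 : Ch1Stmt) (h2 : Ch2Stmt) (hE : ExtStmt) (hC : CenStmt) : CmpStmt := by
  intro K _ _ _ hq F F' hF hF' hN hT hM m₁ m₂ m₁' m₂'
  have hN' : NF F' := fun f hf => hN f ((hM f).2 hf)
  have hT' := fun l m => (hM _).1 (hT l m)
  have hD : ¬ 2 ∣ Nat.card (Kˣ × Kˣ) := by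
    have := Fintype.ofFinite K
    rw [Nat.card_prod, Nat.prime_two.dvd_mul, or_self]
    exact CmpG.not_dvd_units K 2
  obtain ⟨⟨x₁, x₂⟩, -, s₁, s₂⟩ := hE hF
  obtain ⟨⟨x₁', x₂'⟩, -, s₁', s₂'⟩ := hE hF'
  obtain ⟨w₁, hw₁⟩ := s₁ m₁
  obtain ⟨w₂, hw₂⟩ := s₂ m₂
  obtain ⟨w₁', hw₁'⟩ := s₁' m₁'
  obtain ⟨w₂', hw₂'⟩ := s₂' m₂'
  have cen : ∀ {Q : Subgroup (P K)}, Q = Q1 K ∨ Q = Q2 K → ∀ n : MulAut Q,
      (∀ d, ∀ x ∈ Q, afn n (tor K d x) = tor K d (afn n x)) → M F' Q (afn n) := fun hQ n h => by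
    obtain ⟨l, m, e⟩ := hC hq hQ ⟨homOn_afn n, (afn_injective n).injOn, fun _ => afn_mem n⟩
      fun l m => h (l, m)
    exact ((hT' l m).mono le_top).congr fun x hx => (e x hx).symm
  refine ⟨fun f hf => side (A := Q1 K) (U := Z K) (W := Zm K) (pg K) (tor K) hD
    (fun _ _ => Nr.inv_Q1 _) (fun f hf h => ?_) (cen (.inl rfl)) hw₁.1 hw₁'.1 (fun d => ?_)
    hw₁.2.2.2 hf ((h1 (isAut hf)).2.2.imp_right fun ⟨t, h⟩ => ⟨_, h⟩),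
    fun f hf => side (A := Q2 K) (U := V1 K) (W := Vm K) (pg K) (tor K) hD
    (fun d y hy => ?_) (fun f hf h => ?_) (cen (.inr rfl)) hw₂.1 hw₂'.1 (fun d => ?_)
    hw₂.2.2.2 hf (h2 (isAut hf)).2.2⟩
  · obtain ⟨g, hg, e⟩ := x₁ f hf h
    exact (((hM g).1 hg).mono le_top).congr e
  · exact ⟨(d.1⁻¹, d.1 * d.2), tw1 hN x₁ hw₁ _ _ (hT ..), tw1 hN' x₁' hw₁' _ _ (hT' ..)⟩
  · simp [tor, mem_Q2, hy.1, hy.2]
  · obtain ⟨g, hg, e⟩ := x₂ f hf h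
    exact (((hM g).1 hg).mono le_top).congr e
  · have c := tw2 hN x₂ hw₂ (h2 (isAut hw₂.1)).1.2.2 d.1 d.2 (hT ..)
    have c' := tw2 hN' x₂' hw₂' (h2 (isAut hw₂'.1)).1.2.2 d.1 d.2 (hT' ..)
    generalize d.1 * d.2 ^ 2 * _ = l at c c'
    exact ⟨(l, d.2⁻¹), c, c'⟩

end Cfsg.Agent.F4
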