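import Cfsg.Agent.Lib.F4.Grp

/-!
Subgroups, diagonal automorphisms and the interface statements (docs/F4_PLAN.md).
-/

set_option autoImplicit false
set_option linter.unusedSectionVars false

namespace Cfsg.Agent.F4

open Cfsg.Agent.Fus Cfsg.Agent.Fus2 Subgroup

universe u v

section Grp

variable (K : Type) [Field K] [Rf K]

/-- `Q₁ = C_S(V₁)`, order `q¹¹`. -/
def Q1 : Subgroup (P K) where
  carrier := {g | g.x1 = 0}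
  one_mem' := by simp
  mul_mem' := fun {g h} hg hh => by simp_all
  inv_mem' := fun {g} hg => by simp_all

/-- `Q₂ Z(U₈)`, order `q¹¹`. -/
def N8 : Subgroup (P K) where
  carrier := {g | g.y8 = 0}
  one_mem' := by simp
  mul_mem' := fun {g h} hg hh => by simp_all
  inv_mem' := fun {g} hg => by simp_all

/-- `Q₂`, order `q¹⁰`. -/
def Q2 : Subgroup (P K) where
  carrier := {g | g.y8 = 0 ∧ g.z8 = 0}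
  one_mem' := by simp
  mul_mem' := fun {g h} hg hh => by simp_all
  inv_mem' := fun {g} hg => by simp_all

/-- `Z₇(S)`, order `q¹⁰`. -/
def Z7 : Subgroup (P K) where
  carrier := {g | g.x1 = 0 ∧ g.y8 = 0}
  one_mem' := by simp
  mul_mem' := fun {g h} hg hh => by simp_all
  inv_mem' := fun {g} hg => by simp_all

/-- `Q₁ ∩ Q₂`, order `q⁹`. -/
def Q12 : Subgroup (P K) where
  carrier := {g | g.x1 = 0 ∧ g.y8 = 0 ∧ g.z8 = 0}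
  one_mem' := by simp
  mul_mem' := fun {g h} hg hh => by simp_all
  inv_mem' := fun {g} hg => by simp_all

/-- `C_{Q₁}(U3)`, order `q⁹`. -/
def D1 : Subgroup (P K) where
  carrier := {g | g.x1 = 0 ∧ g.y8 = 0 ∧ g.y2 = 0}
  one_mem' := by simp
  mul_mem' := fun {g h} hg hh => by simp_all
  inv_mem' := fun {g} hg => by simp_all

/-- `Z₆(S)`, order `q⁸`. -/
def D3 : Subgroup (P K) where
  carrier := {g | g.x1 = 0 ∧ g.y8 = 0 ∧ g.y2 = 0 ∧ g.z8 = 0}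
  one_mem' := by simp
  mul_mem' := fun {g h} hg hh => by simp_all
  inv_mem' := fun {g} hg => by simp_all

/-- `C_S(U4)`, order `q⁷`. -/
def D2 : Subgroup (P K) where
  carrier := {g | g.x1 = 0 ∧ g.y8 = 0 ∧ g.y2 = 0 ∧ g.z8 = 0 ∧ g.y6 = 0}
  one_mem' := by simp
  mul_mem' := fun {g h} hg hh => by simp_all
  inv_mem' := fun {g} hg => by simp_all

/-- `Z₅(S)`, order `q⁶`. -/
def J0 : Subgroup (P K) where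
  carrier := {g | g.x1 = 0 ∧ g.y8 = 0 ∧ g.y2 = 0 ∧ g.z8 = 0 ∧ g.y6 = 0 ∧ g.y4 = 0}
  one_mem' := by simp
  mul_mem' := fun {g h} hg hh => by simp_all
  inv_mem' := fun {g} hg => by simp_all

/-- `C_S(V₂)`, order `q⁶`. -/
def C2 : Subgroup (P K) where
  carrier := {g | g.x1 = 0 ∧ g.y8 = 0 ∧ g.y2 = 0 ∧ g.z8 = 0 ∧ g.y6 = 0 ∧ g.x7 = 0}
  one_mem' := by simp
  mul_mem' := fun {g h} hg hh => by simp_all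
  inv_mem' := fun {g} hg => by simp_all

/-- `V₂`, order `q⁵`. -/
def V2 : Subgroup (P K) where
  carrier := {g | g.x1 = 0 ∧ g.y8 = 0 ∧ g.y2 = 0 ∧ g.z8 = 0 ∧ g.y6 = 0 ∧ g.y4 = 0 ∧ g.x7 = 0}
  one_mem' := by simp
  mul_mem' := fun {g h} hg hh => by simp_all
  inv_mem' := fun {g} hg => by simp_all

/-- `A₁`, order `q⁵`. -/
def A1 : Subgroup (P K) where
  carrier := {g | g.x1 = 0 ∧ g.y8 = 0 ∧ g.y2 = 0 ∧ g.z8 = 0 ∧ g.y6 = 0 ∧ g.y4 = 0 ∧ g.z2 = 0}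
  one_mem' := by simp
  mul_mem' := fun {g h} hg hh => by simp_all
  inv_mem' := fun {g} hg => by simp_all

/-- `Z₄(S)`, order `q⁴`. -/
def U4 : Subgroup (P K) where
  carrier := {g | g.x1 = 0 ∧ g.y8 = 0 ∧ g.y2 = 0 ∧ g.z8 = 0 ∧ g.y6 = 0 ∧ g.y4 = 0 ∧ g.z2 = 0 ∧ g.x7 = 0}
  one_mem' := by simp
  mul_mem' := fun {g h} hg hh => by simp_all
  inv_mem' := fun {g} hg => by simp_all

/-- `Z₃(S)`, order `q³`. -/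
def U3 : Subgroup (P K) where
  carrier := {g | g.x1 = 0 ∧ g.y8 = 0 ∧ g.y2 = 0 ∧ g.z8 = 0 ∧ g.y6 = 0 ∧ g.y4 = 0 ∧ g.z2 = 0 ∧ g.x7 = 0 ∧ g.x3 = 0}
  one_mem' := by simp
  mul_mem' := fun {g h} hg hh => by simp_all
  inv_mem' := fun {g} hg => by simp_all

/-- `Z₂(S) = Z(Q₁)`, order `q²`. -/
def V1 : Subgroup (P K) where
  carrier := {g | g.x1 = 0 ∧ g.y8 = 0 ∧ g.y2 = 0 ∧ g.z8 = 0 ∧ g.y6 = 0 ∧ g.y4 = 0 ∧ g.z2 = 0 ∧ g.x7 = 0 ∧ g.x3 = 0 ∧ g.x5 = 0}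
  one_mem' := by simp
  mul_mem' := fun {g h} hg hh => by simp_all
  inv_mem' := fun {g} hg => by simp_all

/-- `Z(S) = Z(Q₂)`, order `q`. -/
def Z : Subgroup (P K) where
  carrier := {g | g.x1 = 0 ∧ g.y8 = 0 ∧ g.y2 = 0 ∧ g.z8 = 0 ∧ g.y6 = 0 ∧ g.y4 = 0 ∧ g.z2 = 0 ∧ g.x7 = 0 ∧ g.x3 = 0 ∧ g.x5 = 0 ∧ g.z6 = 0}
  one_mem' := by simp
  mul_mem' := fun {g h} hg hh => by simp_all
  inv_mem' := fun {g} hg => by simp_all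

/-- The root group `z₆`, the image of `Z` under the Weyl element of `Q₁`. -/
def Zm : Subgroup (P K) where
  carrier := {g | g.x1 = 0 ∧ g.y8 = 0 ∧ g.y2 = 0 ∧ g.z8 = 0 ∧ g.y6 = 0 ∧ g.y4 = 0 ∧ g.z2 = 0 ∧ g.x7 = 0 ∧ g.x3 = 0 ∧ g.x5 = 0 ∧ g.z4 = 0}
  one_mem' := by simp
  mul_mem' := fun {g h} hg hh => by simp_all
  inv_mem' := fun {g} hg => by simp_all

/-- `z₂ z₄`, the image of `V1` under the Weyl element of `Q₂`. -/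
def Vm : Subgroup (P K) where
  carrier := {g | g.x1 = 0 ∧ g.y8 = 0 ∧ g.y2 = 0 ∧ g.z8 = 0 ∧ g.y6 = 0 ∧ g.y4 = 0 ∧ g.x7 = 0 ∧ g.x3 = 0 ∧ g.x5 = 0 ∧ g.z6 = 0}
  one_mem' := by simp
  mul_mem' := fun {g h} hg hh => by simp_all
  inv_mem' := fun {g} hg => by simp_all

variable {K}

theorem mem_Q1 {g : P K} : g ∈ Q1 K ↔
    g.x1 = 0 := Iff.rfl
theorem mem_N8 {g : P K} : g ∈ N8 K ↔
    g.y8 = 0 := Iff.rfl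
theorem mem_Q2 {g : P K} : g ∈ Q2 K ↔
    g.y8 = 0 ∧ g.z8 = 0 := Iff.rfl
theorem mem_Z7 {g : P K} : g ∈ Z7 K ↔
    g.x1 = 0 ∧ g.y8 = 0 := Iff.rfl
theorem mem_Q12 {g : P K} : g ∈ Q12 K ↔
    g.x1 = 0 ∧ g.y8 = 0 ∧ g.z8 = 0 := Iff.rfl
theorem mem_D1 {g : P K} : g ∈ D1 K ↔
    g.x1 = 0 ∧ g.y8 = 0 ∧ g.y2 = 0 := Iff.rfl
theorem mem_D3 {g : P K} : g ∈ D3 K ↔
    g.x1 = 0 ∧ g.y8 = 0 ∧ g.y2 = 0 ∧ g.z8 = 0 := Iff.rfl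
theorem mem_D2 {g : P K} : g ∈ D2 K ↔
    g.x1 = 0 ∧ g.y8 = 0 ∧ g.y2 = 0 ∧ g.z8 = 0 ∧ g.y6 = 0 := Iff.rfl
theorem mem_J0 {g : P K} : g ∈ J0 K ↔
    g.x1 = 0 ∧ g.y8 = 0 ∧ g.y2 = 0 ∧ g.z8 = 0 ∧ g.y6 = 0 ∧ g.y4 = 0 := Iff.rfl
theorem mem_C2 {g : P K} : g ∈ C2 K ↔
    g.x1 = 0 ∧ g.y8 = 0 ∧ g.y2 = 0 ∧ g.z8 = 0 ∧ g.y6 = 0 ∧ g.x7 = 0 := Iff.rfl
theorem mem_V2 {g : P K} : g ∈ V2 K ↔
    g.x1 = 0 ∧ g.y8 = 0 ∧ g.y2 = 0 ∧ g.z8 = 0 ∧ g.y6 = 0 ∧ g.y4 = 0 ∧ g.x7 = 0 := Iff.rfl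
theorem mem_A1 {g : P K} : g ∈ A1 K ↔
    g.x1 = 0 ∧ g.y8 = 0 ∧ g.y2 = 0 ∧ g.z8 = 0 ∧ g.y6 = 0 ∧ g.y4 = 0 ∧ g.z2 = 0 := Iff.rfl
theorem mem_U4 {g : P K} : g ∈ U4 K ↔
    g.x1 = 0 ∧ g.y8 = 0 ∧ g.y2 = 0 ∧ g.z8 = 0 ∧ g.y6 = 0 ∧ g.y4 = 0 ∧ g.z2 = 0 ∧ g.x7 = 0 := Iff.rfl
theorem mem_U3 {g : P K} : g ∈ U3 K ↔
    g.x1 = 0 ∧ g.y8 = 0 ∧ g.y2 = 0 ∧ g.z8 = 0 ∧ g.y6 = 0 ∧ g.y4 = 0 ∧ g.z2 = 0 ∧ g.x7 = 0 ∧ g.x3 = 0 := Iff.rfl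
theorem mem_V1 {g : P K} : g ∈ V1 K ↔
    g.x1 = 0 ∧ g.y8 = 0 ∧ g.y2 = 0 ∧ g.z8 = 0 ∧ g.y6 = 0 ∧ g.y4 = 0 ∧ g.z2 = 0 ∧ g.x7 = 0 ∧ g.x3 = 0 ∧ g.x5 = 0 := Iff.rfl
theorem mem_Z {g : P K} : g ∈ Z K ↔
    g.x1 = 0 ∧ g.y8 = 0 ∧ g.y2 = 0 ∧ g.z8 = 0 ∧ g.y6 = 0 ∧ g.y4 = 0 ∧ g.z2 = 0 ∧ g.x7 = 0 ∧ g.x3 = 0 ∧ g.x5 = 0 ∧ g.z6 = 0 := Iff.rfl
theorem mem_Zm {g : P K} : g ∈ Zm K ↔
    g.x1 = 0 ∧ g.y8 = 0 ∧ g.y2 = 0 ∧ g.z8 = 0 ∧ g.y6 = 0 ∧ g.y4 = 0 ∧ g.z2 = 0 ∧ g.x7 = 0 ∧ g.x3 = 0 ∧ g.x5 = 0 ∧ g.z4 = 0 := Iff.rfl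
theorem mem_Vm {g : P K} : g ∈ Vm K ↔
    g.x1 = 0 ∧ g.y8 = 0 ∧ g.y2 = 0 ∧ g.z8 = 0 ∧ g.y6 = 0 ∧ g.y4 = 0 ∧ g.x7 = 0 ∧ g.x3 = 0 ∧ g.x5 = 0 ∧ g.z6 = 0 := Iff.rfl

/-- A root element. -/
@[simps] def rx1 (t : K) : P K := ⟨t, 0, 0, 0, 0, 0, 0, 0, 0, 0, 0, 0⟩
/-- A root element. -/
@[simps] def ry2 (t : K) : P K := ⟨0, t, 0, 0, 0, 0, 0, 0, 0, 0, 0, 0⟩
/-- A root element. -/
@[simps] def rz2 (t : K) : P K := ⟨0, 0, t, 0, 0, 0, 0, 0, 0, 0, 0, 0⟩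
/-- A root element. -/
@[simps] def rx3 (t : K) : P K := ⟨0, 0, 0, t, 0, 0, 0, 0, 0, 0, 0, 0⟩
/-- A root element. -/
@[simps] def ry4 (t : K) : P K := ⟨0, 0, 0, 0, t, 0, 0, 0, 0, 0, 0, 0⟩
/-- A root element. -/
@[simps] def rz4 (t : K) : P K := ⟨0, 0, 0, 0, 0, t, 0, 0, 0, 0, 0, 0⟩
/-- A root element. -/
@[simps] def rx5 (t : K) : P K := ⟨0, 0, 0, 0, 0, 0, t, 0, 0, 0, 0, 0⟩
/-- A root element. -/
@[simps] def ry6 (t : K) : P K := ⟨0, 0, 0, 0, 0, 0, 0, t, 0, 0, 0, 0⟩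
/-- A root element. -/
@[simps] def rz6 (t : K) : P K := ⟨0, 0, 0, 0, 0, 0, 0, 0, t, 0, 0, 0⟩
/-- A root element. -/
@[simps] def rx7 (t : K) : P K := ⟨0, 0, 0, 0, 0, 0, 0, 0, 0, t, 0, 0⟩
/-- A root element. -/
@[simps] def ry8 (t : K) : P K := ⟨0, 0, 0, 0, 0, 0, 0, 0, 0, 0, t, 0⟩
/-- A root element. -/
@[simps] def rz8 (t : K) : P K := ⟨0, 0, 0, 0, 0, 0, 0, 0, 0, 0, 0, t⟩

theorem map_s (φ : K ≃+* K) (x : K) : φ (σ x) = σ (φ x) := by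
  rw [Rf.s_eq, Rf.s_eq, map_pow]

/-- The underlying map of `dg`. -/
@[simps] def dgFun (l m : K) (φ : K ≃+* K) (g : P K) : P K where
  x1 := l * φ g.x1
  y2 := l * m * φ g.y2
  z2 := l * σ l * m * σ m * φ g.z2
  x3 := l * σ l * m ^ 2 * σ m * φ g.x3
  y4 := σ l * m * σ m * φ g.y4
  z4 := l ^ 2 * σ l * m ^ 3 * σ m ^ 2 * φ g.z4
  x5 := l * σ l * m ^ 2 * σ m ^ 2 * φ g.x5
  y6 := l * m * σ m * φ g.y6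
  z6 := l * σ l * m ^ 3 * σ m ^ 2 * φ g.z6
  x7 := l * m ^ 2 * σ m * φ g.x7
  y8 := m * φ g.y8
  z8 := m * σ m * φ g.z8

/-- Diagonal and field automorphisms. -/
def dg (l m : Kˣ) (φ : K ≃+* K) : MulAut (P K) where
  toFun := dgFun l m φ
  invFun := dgFun (φ.symm (l⁻¹ : Kˣ)) (φ.symm (m⁻¹ : Kˣ)) φ.symm
  left_inv g := by
    have hl : (l : K) ≠ 0 := l.ne_zero
    have hm : (m : K) ≠ 0 := m.ne_zero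
    have hl' : σ (l : K) ≠ 0 := (map_ne_zero _).2 hl
    have hm' : σ (m : K) ≠ 0 := (map_ne_zero _).2 hm
    ext <;> apply φ.injective <;> simp [map_s] <;> field_simp
  right_inv g := by
    have hl : (l : K) ≠ 0 := l.ne_zero
    have hm : (m : K) ≠ 0 := m.ne_zero
    have hl' : σ (l : K) ≠ 0 := (map_ne_zero _).2 hl
    have hm' : σ (m : K) ≠ 0 := (map_ne_zero _).2 hm
    ext <;> simp [map_s] <;> field_simp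
  map_mul' g h := by
    ext <;> simp [map_s, Rf.s_s] <;> ring

@[simp] theorem dg_x1 (l m : Kˣ) (φ : K ≃+* K) (g : P K) :
    (dg l m φ g).x1 = l * φ g.x1 := rfl
@[simp] theorem dg_y2 (l m : Kˣ) (φ : K ≃+* K) (g : P K) :
    (dg l m φ g).y2 = l * m * φ g.y2 := rfl
@[simp] theorem dg_z2 (l m : Kˣ) (φ : K ≃+* K) (g : P K) :
    (dg l m φ g).z2 = l * σ (l : K) * m * σ (m : K) * φ g.z2 := rfl
@[simp] theorem dg_x3 (l m : Kˣ) (φ : K ≃+* K) (g : P K) :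
    (dg l m φ g).x3 = l * σ (l : K) * m ^ 2 * σ (m : K) * φ g.x3 := rfl
@[simp] theorem dg_y4 (l m : Kˣ) (φ : K ≃+* K) (g : P K) :
    (dg l m φ g).y4 = σ (l : K) * m * σ (m : K) * φ g.y4 := rfl
@[simp] theorem dg_z4 (l m : Kˣ) (φ : K ≃+* K) (g : P K) :
    (dg l m φ g).z4 = l ^ 2 * σ (l : K) * m ^ 3 * σ (m : K) ^ 2 * φ g.z4 := rfl
@[simp] theorem dg_x5 (l m : Kˣ) (φ : K ≃+* K) (g : P K) :
    (dg l m φ g).x5 = l * σ (l : K) * m ^ 2 * σ (m : K) ^ 2 * φ g.x5 := rfl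
@[simp] theorem dg_y6 (l m : Kˣ) (φ : K ≃+* K) (g : P K) :
    (dg l m φ g).y6 = l * m * σ (m : K) * φ g.y6 := rfl
@[simp] theorem dg_z6 (l m : Kˣ) (φ : K ≃+* K) (g : P K) :
    (dg l m φ g).z6 = l * σ (l : K) * m ^ 3 * σ (m : K) ^ 2 * φ g.z6 := rfl
@[simp] theorem dg_x7 (l m : Kˣ) (φ : K ≃+* K) (g : P K) :
    (dg l m φ g).x7 = l * m ^ 2 * σ (m : K) * φ g.x7 := rfl
@[simp] theorem dg_y8 (l m : Kˣ) (φ : K ≃+* K) (g : P K) :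
    (dg l m φ g).y8 = m * φ g.y8 := rfl
@[simp] theorem dg_z8 (l m : Kˣ) (φ : K ≃+* K) (g : P K) :
    (dg l m φ g).z8 = m * σ (m : K) * φ g.z8 := rfl

/-- `f` is an automorphism of `Q` (for finite `K`). -/
structure IsAut (Q : Subgroup (P K)) (f : P K → P K) : Prop where
  hom : HomOn Q f
  inj : Set.InjOn f Q
  mem : ∀ x ∈ Q, f x ∈ Q

/-- `f` maps `A` into `B`. -/
def Mp (f : P K → P K) (A B : Subgroup (P K)) : Prop := ∀ x ∈ A, f x ∈ B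

/-- `f` is an `F`-automorphism of `Q`. -/
def Au (F : FusionSystem (⊤ : Subgroup (P K))) (Q : Subgroup (P K)) (f : P K → P K) : Prop :=
  M F Q f ∧ ∀ x ∈ Q, f x ∈ Q

/-- Normal form: `Aut_F(S)` consists of inner times diagonal-field automorphisms. -/
def NF (F : FusionSystem (⊤ : Subgroup (P K))) : Prop :=
  ∀ f, M F ⊤ f → ∃ (x : P K) (l m : Kˣ) (φ : K ≃+* K), ∀ y, f y = x * dg l m φ y * x⁻¹

/-- `Aut_F(Q₁)` moves `Z`. -/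
def Mv1 (F : FusionSystem (⊤ : Subgroup (P K))) : Prop := ∃ f, Au F (Q1 K) f ∧ ¬ Mp f (Z K) (Z K)

/-- `Aut_F(Q₂)` moves `V₁`. -/
def Mv2 (F : FusionSystem (⊤ : Subgroup (P K))) : Prop := ∃ f, Au F (Q2 K) f ∧ ¬ Mp f (V1 K) (V1 K)

/-- A Weyl element for `Q₁`. -/
def Sw1 (F : FusionSystem (⊤ : Subgroup (P K))) (w : P K → P K) : Prop :=
  Au F (Q1 K) w ∧ (∀ x ∈ U3 K, x⁻¹ * w x ∈ V1 K) ∧ Mp w (Z K) (Zm K) ∧ Mp w (Zm K) (Z K)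

/-- A Weyl element for `Q₂`. -/
def Sw2 (F : FusionSystem (⊤ : Subgroup (P K))) (w : P K → P K) : Prop :=
  Au F (Q2 K) w ∧ (∀ x ∈ Z K, w x = x) ∧ Mp w (V1 K) (Vm K) ∧ Mp w (Vm K) (V1 K)

end Grp

/-- Row ESSA: steps 1–3. -/
def EssAStmt : Prop :=
  ∀ {K : Type} [Field K] [Finite K] [Rf K] {F : FusionSystem (⊤ : Subgroup (P K))},
    F.IsSaturated 2 → ∀ {E : Subgroup (P K)}, F.IsEssential 2 E → U4 K ≤ E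

/-- Row ESSB: step 4. -/
def EssBStmt : Prop :=
  ∀ {K : Type} [Field K] [Finite K] [Rf K] {F : FusionSystem (⊤ : Subgroup (P K))},
    F.IsSaturated 2 → ∀ {E : Subgroup (P K)}, F.IsEssential 2 E → U4 K ≤ E → J0 K ≤ E

/-- Row ESSC: step 5. -/
def EssCStmt : Prop :=
  ∀ {K : Type} [Field K] [Finite K] [Rf K] {F : FusionSystem (⊤ : Subgroup (P K))},
    F.IsSaturated 2 → ∀ {E : Subgroup (P K)}, F.IsEssential 2 E → J0 K ≤ E → E = Q1 K ∨ E = Q2 K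

/-- Row CH1: automorphisms of `Q₁`. -/
def Ch1Stmt : Prop :=
  ∀ {K : Type} [Field K] [Finite K] [Rf K] {f : P K → P K}, IsAut (Q1 K) f →
    (Mp f (V1 K) (V1 K) ∧ Mp f (U3 K) (U3 K) ∧ Mp f (A1 K) (A1 K) ∧ Mp f (D1 K) (D1 K)) ∧
    (Mp f (Z K) (Z K) → Mp f (U4 K) (U4 K) ∧ Mp f (J0 K) (J0 K) ∧ Mp f (D3 K) (D3 K) ∧
      Mp f (Z7 K) (Z7 K)) ∧
    (Mp f (Z K) (Z K) ∨ ∃ t, Mp (fun x => rx1 t * f x * (rx1 t)⁻¹) (Z K) (Zm K))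

/-- Row CH2: automorphisms of `Q₂`. -/
def Ch2Stmt : Prop :=
  ∀ {K : Type} [Field K] [Finite K] [Rf K] {f : P K → P K}, IsAut (Q2 K) f →
    (Mp f (Z K) (Z K) ∧ Mp f (V2 K) (V2 K) ∧ Mp f (C2 K) (C2 K)) ∧
    (Mp f (V1 K) (V1 K) → Mp f (U3 K) (U3 K) ∧ Mp f (U4 K) (U4 K) ∧ Mp f (D2 K) (D2 K) ∧
      Mp f (D3 K) (D3 K) ∧ Mp f (Q12 K) (Q12 K)) ∧
    (Mp f (V1 K) (V1 K) ∨ ∃ s, Mp (fun x => s * f x * s⁻¹) (V1 K) (Vm K))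

/-- Row EXT: automorphisms stabilising `Z` resp. `V₁` extend to `S`; essential `Q₁`, `Q₂` move
them; Weyl elements exist. -/
def ExtStmt : Prop :=
  ∀ {K : Type} [Field K] [Finite K] [Rf K] {F : FusionSystem (⊤ : Subgroup (P K))},
    F.IsSaturated 2 →
    ((∀ f, Au F (Q1 K) f → Mp f (Z K) (Z K) → ∃ g, M F ⊤ g ∧ ∀ x ∈ Q1 K, g x = f x) ∧
      ∀ f, Au F (Q2 K) f → Mp f (V1 K) (V1 K) → ∃ g, M F ⊤ g ∧ ∀ x ∈ Q2 K, g x = f x) ∧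
    ((F.IsEssential 2 (Q1 K) → Mv1 F) ∧ (F.IsEssential 2 (Q2 K) → Mv2 F)) ∧
    (Mv1 F → ∃ w, Sw1 F w) ∧ (Mv2 F → ∃ w, Sw2 F w)

/-- Row NRM: after conjugating by an automorphism of `S`, the system is in normal form. -/
def NrmStmt : Prop :=
  ∀ {K : Type} [Field K] [Finite K] [Rf K] {F : FusionSystem (⊤ : Subgroup (P K))},
    F.IsSaturated 2 → ∃ θ : MulAut (P K), ∀ f, M F ⊤ f →
      ∃ (x : P K) (l m : Kˣ) (φ : K ≃+* K), ∀ y, θ (f (θ⁻¹ y)) = x * dg l m φ y * x⁻¹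

/-- Row TOR: the whole torus lies in `F`. -/
def TorStmt : Prop :=
  ∀ {K : Type} [Field K] [Finite K] [Rf K] {F : FusionSystem (⊤ : Subgroup (P K))},
    F.IsSaturated 2 → NF F → F.IsEssential 2 (Q1 K) → F.IsEssential 2 (Q2 K) →
    ∀ l m, M F ⊤ (dg l m (RingEquiv.refl K))

/-- Row CEN (`q > 2`): the torus is self-centralising in `Aut(Qᵢ)`. -/
def CenStmt : Prop :=
  ∀ {K : Type} [Field K] [Finite K] [Rf K], (∃ μ : K, μ ≠ 0 ∧ μ ≠ 1) →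
    ∀ {Q : Subgroup (P K)}, Q = Q1 K ∨ Q = Q2 K → ∀ {n : P K → P K}, IsAut Q n →
    (∀ l m, ∀ x ∈ Q, n (dg l m (RingEquiv.refl K) x) = dg l m (RingEquiv.refl K) (n x)) →
    ∃ l m, ∀ x ∈ Q, n x = dg l m (RingEquiv.refl K) x

/-- Row CMP (`q > 2`): the automizers of `Q₁`, `Q₂` are determined by `Aut_F(S)`. -/
def CmpStmt : Prop :=
  ∀ {K : Type} [Field K] [Finite K] [Rf K], (∃ μ : K, μ ≠ 0 ∧ μ ≠ 1) →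
    ∀ {F F' : FusionSystem (⊤ : Subgroup (P K))}, F.IsSaturated 2 → F'.IsSaturated 2 → NF F →
    (∀ l m, M F ⊤ (dg l m (RingEquiv.refl K))) → (∀ f, M F ⊤ f ↔ M F' ⊤ f) →
    Mv1 F → Mv2 F → Mv1 F' → Mv2 F' →
    (∀ f, Au F (Q1 K) f → M F' (Q1 K) f) ∧ ∀ f, Au F (Q2 K) f → M F' (Q2 K) f

/-- Row TWO (`q = 2`): up to `Aut(S)` the Weyl elements are unique. -/
def TwoStmt : Prop :=
  ∀ {K : Type} [Field K] [Finite K] [Rf K], (∀ μ : K, μ = 0 ∨ μ = 1) →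
    ∃ a₁ a₂ : P K → P K, ∀ {F : FusionSystem (⊤ : Subgroup (P K))}, F.IsSaturated 2 → NF F →
      Mv1 F → Mv2 F → ∃ (θ : MulAut (P K)) (w₁ w₂ : P K → P K), Sw1 F w₁ ∧ Sw2 F w₂ ∧
        Mp θ (Q1 K) (Q1 K) ∧ Mp θ (Q2 K) (Q2 K) ∧
        (∀ x ∈ Q1 K, θ (w₁ x) = a₁ (θ x)) ∧ ∀ x ∈ Q2 K, θ (w₂ x) = a₂ (θ x)

/-- Row MODEL: the group `²F₄(q) ⋊ H`. -/
def ModelStmt : Prop :=
  ∀ {K : Type} [Field K] [Finite K] [Rf K] (H : Subgroup (MulAut (P K))),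
    (∀ h ∈ H, ∃ l m φ, h = dg l m φ) → ¬ 2 ∣ Nat.card H → (∀ l m, dg l m (RingEquiv.refl K) ∈ H) →
    ∃ (G : Type) (_ : Group G) (_ : Finite G) (ι : P K →* G), Function.Injective ι ∧
      (∃ T : Sylow 2 G, (T : Subgroup G) = ι.range) ∧
      (∀ g : G, (∀ y, ∃ y', g * ι y * g⁻¹ = ι y') →
        ∃ x, ∃ h ∈ H, ∀ y, g * ι y * g⁻¹ = ι (x * h y * x⁻¹)) ∧
      (∀ h ∈ H, ∃ g : G, ∀ y, g * ι y * g⁻¹ = ι (h y)) ∧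
      (∃ g : G, (∀ y ∈ Q1 K, ∃ y' ∈ Q1 K, g * ι y * g⁻¹ = ι y') ∧
        g * ι (rz4 1) * g⁻¹ = ι (rz6 1)) ∧
      ∃ g : G, (∀ y ∈ Q2 K, ∃ y' ∈ Q2 K, g * ι y * g⁻¹ = ι y') ∧
        g * ι (rz6 1) * g⁻¹ = ι (rz2 1)

/-- Row SYL: Sylow subgroups of `²F₄(q)`. -/
def SylStmt : Prop :=
  ∀ {K : Type v} [Field K] [Fintype K] (m : ℕ), Fintype.card K = 2 ^ (2 * m + 1) →
    ∀ T : Sylow 2 (Lie.twistedF4 K (2 ^ m)), ∃ (K₀ : Type) (_ : Field K₀) (_ : Finite K₀) (_ : Rf K₀),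
      Nonempty ((T : Subgroup (Lie.twistedF4 K (2 ^ m))) ≃* P K₀)

end Cfsg.Agent.F4
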