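import Cfsg.Agent.Lib.F4.Tool

/-!
Row ESSA: every essential subgroup contains `U₄`.
-/

set_option autoImplicit false
set_option linter.unusedSectionVars false
set_option linter.unusedSimpArgs false
set_option linter.unnecessarySeqFocus false

namespace Cfsg.Agent.F4

open Cfsg.Agent.Fus Cfsg.Agent.Fus2 Cfsg.Agent.Ess Subgroup
open U5.E3 (afn_icj afn_comm relIndex_le cr cr_le)
open U5.E12 (pigeon comm_of_icj icj_of_comm)

namespace EA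

section Gen

variable {Ω : Type*} [Group Ω] {E A B C : Subgroup Ω} {H : Subgroup (MulAut E)}

theorem icj_map (hA : A ≤ E) (iA : Iv H A) (iB : Iv H B) {β : MulAut E} (hβ : β ∈ H) {g : Ω}
    (hg : g ∈ E) (h : ∀ a ∈ A, a⁻¹ * (g * a * g⁻¹) ∈ B) :
    ∀ a ∈ A, a⁻¹ * (afn β g * a * (afn β g)⁻¹) ∈ B := fun a ha => by
  have ha' := iA _ (inv_mem hβ) a (hA ha) ha
  have := iB β hβ _ (mul_mem (inv_mem (hA ha')) (mul_mem (mul_mem hg (hA ha')) (inv_mem hg)))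
    (h _ ha')
  rwa [afn_icj β (hA ha') hg, afn_afn_inv] at this

theorem comm_map (hA : A ≤ E) (iA : Iv H A) {β : MulAut E} (hβ : β ∈ H) {g : Ω}
    (hg : g ∈ E) (h : ∀ a ∈ A, g * a = a * g) : ∀ a ∈ A, afn β g * a = a * afn β g := fun a ha => by
  have ha' := iA _ (inv_mem hβ) a (hA ha) ha
  simpa only [afn_afn_inv] using afn_comm β hg (hA ha') (h _ ha')

theorem iv_cen (hA : A ≤ E) (iA : Iv H A) (h₁ : ∀ a ∈ A, ∀ g ∈ C, a * g = g * a)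
    (h₂ : ∀ g ∈ E, (∀ a ∈ A, g * a = a * g) → g ∈ C) : Iv H C := fun _ hβ x hx hx' =>
  h₂ _ (afn_mem _ hx) (comm_map hA iA hβ hx fun a ha => (h₁ a ha x hx').symm)

theorem iv_sq (hC : C ≤ E) (iC : Iv H C) (h₁ : ∀ c ∈ C, c * c ∈ A)
    (h₂ : ∀ a ∈ A, ∃ c ∈ C, a = c * c) : Iv H A := fun β hβ x _ hx => by
  obtain ⟨c, hc, rfl⟩ := h₂ x hx
  rw [(homOn_afn β).map_mul (hC hc) (hC hc)]
  exact h₁ _ (iC β hβ c (hC hc) hc)

theorem Iv.inf' (iA : Iv H A) (iB : Iv H B) (h : ∀ x, x ∈ C ↔ x ∈ A ∧ x ∈ B) : Iv H C :=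
  fun β hβ x hx hx' => (h _).2 ⟨iA β hβ x hx ((h x).1 hx').1, iB β hβ x hx ((h x).1 hx').2⟩

theorem le_normalizer_of_icj [Finite A] (h : ∀ g ∈ A, ∀ x ∈ E, x⁻¹ * (g * x * g⁻¹) ∈ A) :
    E ≤ normalizer (A : Set Ω) := fun e he => mem_normalizer_of_conj_mem fun g hg => by
  simpa [mul_assoc] using mul_mem (h g hg _ (inv_mem he)) hg

end Gen

variable {K : Type} [Field K] [Finite K] [Rf K]

variable (K) in
/-- The group `y₄ z₄ z₆`. -/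
def B1 : Subgroup (P K) where
  carrier := {g | g.x1 = 0 ∧ g.y8 = 0 ∧ g.y2 = 0 ∧ g.z8 = 0 ∧ g.y6 = 0 ∧ g.x7 = 0 ∧ g.z2 = 0 ∧
    g.x3 = 0 ∧ g.x5 = 0}
  one_mem' := by simp
  mul_mem' := fun {g h} hg hh => by simp_all
  inv_mem' := fun {g} hg => by simp_all

variable (K) in
/-- The group `z₄ x₅ y₆ z₆ x₇ z₈`. -/
def C2' : Subgroup (P K) where
  carrier := {g | g.x1 = 0 ∧ g.y8 = 0 ∧ g.y2 = 0 ∧ g.z2 = 0 ∧ g.x3 = 0 ∧ g.y4 = 0}
  one_mem' := by simp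
  mul_mem' := fun {g h} hg hh => by simp_all
  inv_mem' := fun {g} hg => by simp_all

variable (K) in
/-- The group `z₄ x₅ z₆ x₇ z₈`. -/
def V2' : Subgroup (P K) where
  carrier := {g | g ∈ C2' K ∧ g.y6 = 0}
  one_mem' := ⟨one_mem _, rfl⟩
  mul_mem' := fun {g h} hg hh => ⟨mul_mem hg.1 hh.1, by simp [hg.1.2.1, hh.1.1, hg.2, hh.2]⟩
  inv_mem' := fun {g} hg => ⟨inv_mem hg.1, by simp [hg.1.1, hg.1.2.1, hg.2]⟩

theorem icj_C2' {g x : P K} (hg : g ∈ C2' K) (h₁ : x.x1 = 0) (h₂ : x.y2 = 0) (h₃ : x.z2 = 0) :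
    x⁻¹ * (g * x * g⁻¹) ∈ V2' K := by
  obtain ⟨a1, a2, a3, a4, a5, a6⟩ := hg
  refine ⟨⟨?_, ?_, ?_, ?_, ?_, ?_⟩, ?_⟩ <;>
    simp [a1, a2, a3, a4, a5, a6, h₁, h₂, h₃, Rf.s_s] <;> grind

theorem comm_V2' {g x : P K} (hg : g ∈ C2' K) (hx : x ∈ V2' K) : g * x = x * g := by
  obtain ⟨a1, a2, a3, a4, a5, a6⟩ := hg
  obtain ⟨⟨b1, b2, b3, b4, b5, b6⟩, b7⟩ := hx
  ext <;> simp [*] <;> ring

theorem sq_C2' {g : P K} (hg : g ∈ C2' K) : g * g = rz6 (g.y6 * σ g.y6) := by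
  obtain ⟨a1, a2, a3, a4, a5, a6⟩ := hg
  ext <;> simp [a1, a2, a3, a4, a5, a6, CharTwo.add_self_eq_zero]

theorem icj_U4_V2' {g x : P K} (hg : g ∈ U4 K) (hx : x ∈ V2' K) : x⁻¹ * (g * x * g⁻¹) ∈ Zm K := by
  obtain ⟨a1, a2, a3, a4, a5, a6, a7, a8⟩ := hg
  obtain ⟨⟨b1, b2, b3, b4, b5, b6⟩, b7⟩ := hx
  simp [mem_Zm, *, CharTwo.add_self_eq_zero]
  grind

variable {F : FusionSystem (⊤ : Subgroup (P K))} (hF : F.IsSaturated 2) {E : Subgroup (P K)}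
  (hE : F.IsEssential 2 E)
include hF hE

theorem notA₀ {w : P K} (hw : ∀ e ∈ E, w * e = e * w) (h₁ : w.x1 ≠ 0) (h₂ : w.y8 = 0) (h₃ : w.z8 = 0)
    (h₄ : w.y2 = 0) (h₅ : w.y6 = 0) (h₆ : w.y4 = 0) (h₇ : w.x7 = 0) : False := by
  have key : ∀ e ∈ E, e.y8 = 0 ∧ e.z8 = 0 ∧ e.x7 = 0 ∧ e.y6 = 0 ∧ e.y4 = 0 ∧
      w.x5 * e.y2 + w.z6 * e.x1 = e.z6 * w.x1 := fun e he => by
    have e₁ := congrArg P.y2 (hw e he)
    simp [h₂, h₄] at e₁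
    have a1 : e.y8 = 0 := mul_right_cancel₀ h₁ (by grind)
    have e₂ := congrArg P.y6 (hw e he)
    simp [h₂, h₃, h₄, h₅, a1] at e₂
    have a2 : e.z8 = 0 := mul_right_cancel₀ h₁ (by grind)
    have e₃ := congrArg P.x5 (hw e he)
    have e₄ := congrArg P.x3 (hw e he)
    have e₅ := congrArg P.z2 (hw e he)
    have e₆ := congrArg P.z4 (hw e he)
    simp [h₂, h₃, h₄, h₅, h₆, h₇, a1, a2] at e₃ e₄ e₅ e₆
    have a3 : e.x7 = 0 := s_inj (mul_right_cancel₀ h₁ (by grind))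
    have a4 : e.y6 = 0 := s_inj (mul_right_cancel₀ h₁ (by grind))
    have a5 : e.y4 = 0 := mul_right_cancel₀ h₁ (by grind)
    exact ⟨a1, a2, a3, a4, a5, by grind⟩
  have hm : ∀ g ∈ B1 K, ∀ e ∈ E, e⁻¹ * (g * e * g⁻¹) ∈ V2 K ∧ (e⁻¹ * (g * e * g⁻¹)).x5 = 0 ∧
      (e⁻¹ * (g * e * g⁻¹)).z6 = 0 := fun g ⟨a1, a2, a3, a4, a5, a6, a7, a8, a9⟩ e he => by
    obtain ⟨b1, b2, b3, b4, b5, -⟩ := key e he
    refine ⟨icj_Q2_Q2 ⟨a2, a4⟩ ⟨b1, b2⟩, ?_, ?_⟩ <;> simp [*, Rf.s_s] <;> grind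
  have hx : rz6 1 ∉ E := fun h => h₁ (by simpa using (key _ h).2.2.2.2.2.symm)
  have k₁ := U5.qf (pg_top K) hF hE (B := B1 K) le_top (fun g hg e he => le_of_cent hE fun y hy => by
      obtain ⟨⟨a1, a2, a3, a4, a5, a6, a7⟩, a8, a9⟩ := hm g hg e he
      obtain ⟨b1, b2, b3, b4, b5, -⟩ := key y hy
      generalize e⁻¹ * (g * e * g⁻¹) = m at *
      ext <;> simp [*] <;> ring)
    (fun g hg e he g' ⟨a1, a2, a3, a4, a5, a6, _⟩ =>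
      (comm_V2 (hm g hg e he).1 ⟨a1, a2, a3, a4, a5, a6⟩).symm) (rz6 1) (by simp [B1]) hx
  have k₂ := relIndex_le (C := centralizer {rz6 (1 : K)}) (E := E) (fun e => e.1.x1) fun e e' he =>
    mem_centralizer_singleton_iff.2 (comm_Zm (rz6_mem 1) (mod_Q1.2 he)).symm
  obtain ⟨u, hu⟩ := pigeon (B := B1 K) rz6 (fun u => by simp [B1]) (fun u u' e => by
    have := (key _ e).2.2.2.2.2
    simp [h₁] at this
    grind) (k₁.trans k₂) (y := ry4 1) (by simp [B1])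
  simpa using (key _ hu).2.2.2.2.1

theorem notA {w : P K} (hw : w ∈ Z1 E) : w ∈ Q1 K := by
  by_contra h₁
  obtain ⟨s, a1, a2, a3, a4, a5, a6, a7⟩ := invA hw.2.2 h₁
  obtain ⟨E', hE', h⟩ := ess_conj hE (mem_top s)
  refine notA₀ hF hE' (fun e he => ?_) (a1 ▸ h₁) a2 a3 a4 a5 a6 a7
  rw [show s * w * s⁻¹ * e = s * (w * (s⁻¹ * e * s)) * s⁻¹ by group, hw.2.1 _ ((h e).1 he)]
  group

theorem V1_le : V1 K ≤ E :=
  chain (pg_top K) hF hE le_top le_normalizer_of_normal [cr (F.autGroup E) (Q1 K)]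
    (by simpa using iv_cr _ _)
    ⟨fun _ hg x _ _ => ⟨Z_le hE (icj_V1_S hg x), fun β _ =>
      notA hF hE (afn_Z1 β (Z_le_Z1 hE (icj_V1_S hg x)))⟩, fun _ hg _ _ hx => comm_V1 hg (cr_le hx)⟩

theorem U3_le : U3 K ≤ E := by
  have hV := V1_le hF hE
  refine chain (pg_top K) hF hE le_top le_normalizer_of_normal [cr (F.autGroup E) (D1 K)]
    (by simpa using iv_cr _ _) ⟨fun g hg x hx _ => ⟨hV (icj_U3_S hg x), fun β _ => ?_⟩,
      fun _ hg _ _ hx => comm_U3 hg (cr_le hx)⟩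
  refine inv_D1 (afn_sq β (hV (icj_U3_S hg x)) (sq_V2 (V1_le_V2 (icj_U3_S hg x)))) ?_
  by_contra h
  exact h (notA hF hE (afn_Z1 β (Z_le_Z1 hE (icj_U3_N8 hg (Q2_le_N8 (le_Q2_of_A β hV
    (fun _ h => sq_V2 (V1_le_V2 h)) (icj_U3_S hg x) h hx))))))

theorem U4_le₀ {w : P K} (hw : ∀ e ∈ E, w * e = e * w) (h₁ : w ∈ V2' K) (h₂ : w.z8 ≠ 0) :
    U4 K ≤ E := by
  obtain ⟨⟨a1, a2, a3, a4, a5, a6⟩, a7⟩ := h₁
  have key : ∀ e ∈ E, e.x1 = 0 ∧ e.y2 = 0 ∧ e.z2 = 0 := fun e he => by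
    have e₁ := congrArg P.y6 (hw e he)
    simp [a1, a2, a3, a7] at e₁
    have b1 : e.x1 = 0 := mul_left_cancel₀ h₂ (by grind)
    have e₂ := congrArg P.x7 (hw e he)
    simp [a1, a2, a3, a7, b1] at e₂
    have b2 : e.y2 = 0 := mul_left_cancel₀ h₂ (by grind)
    have e₃ := congrArg P.x5 (hw e he)
    simp [a1, a2, a3, a4, a5, a6, a7, b1, b2] at e₃
    exact ⟨b1, b2, mul_left_cancel₀ h₂ (by grind)⟩
  have iV : Iv (F.autGroup E) (V2' K) := fun β _ x hx hx' => by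
    have h := afn_sq β hx (by rw [sq_C2' hx'.1, hx'.2, zero_mul]; rfl)
    have c := congrArg P.z6 (hw _ (afn_mem β hx))
    obtain ⟨b1, b2, b3⟩ := key _ (afn_mem β hx)
    have b4 := inv_y8 h
    generalize afn β x = g at *
    have e₁ := congrArg P.x5 h
    have e₂ := congrArg P.z6 h
    have e₃ := congrArg P.z4 h
    simp [a1, a2, a3, a4, a5, a6, a7, b1, b2, b3, b4] at e₁ e₂ e₃ c
    have b5 : g.y4 = 0 := by
      have : g.y4 * (g.y4 * σ g.y4) = 0 := by grind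
      simpa using this
    have b6 : g.x3 = 0 := mul_left_cancel₀ h₂ (by grind)
    have b7 : g.y6 * σ g.y6 = 0 := by grind
    exact ⟨⟨b1, b4, b2, b3, b6, b5⟩, by simpa using b7⟩
  have hm : ∀ g ∈ C2' K, ∀ x ∈ E, x⁻¹ * (g * x * g⁻¹) ∈ V2' K := fun g hg x hx =>
    icj_C2' hg (key x hx).1 (key x hx).2.1 (key x hx).2.2
  have hC : C2' K ≤ E := chain (pg_top K) hF hE le_top
    (le_normalizer_of_icj fun g hg x hx => (hm g hg x hx).1) [V2' K] (by simpa using iV)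
    ⟨fun g hg x hx _ => hm g hg x hx, fun _ hg _ _ hx => comm_V2' hg hx⟩
  have iC : Iv (F.autGroup E) (C2' K) := iv_cen (A := V2' K) (fun _ h => hC h.1) iV
    (fun a ha g hg => (comm_V2' hg ha).symm) fun g hg h => by
      obtain ⟨b1, b2, b3⟩ := key g hg
      have b4 := (y_of_comm one_ne_zero (h _ (by simp [V2', C2']))).1
      have e₁ := congrArg P.z6 (h (rz8 1) (by simp [V2', C2']))
      have e₂ := congrArg P.z6 (h (rx7 1) (by simp [V2', C2']))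
      simp [b1, b2, b3, b4] at e₁ e₂
      exact ⟨b1, b4, b2, b3, e₁, e₂⟩
  have iZ : Iv (F.autGroup E) (Zm K) := iv_sq hC iC (fun c hc => sq_C2' hc ▸ rz6_mem _)
    fun a ha => by
      obtain ⟨y, hy⟩ := exists_N a.z6
      have hc : ry6 y ∈ C2' K := by simp [C2']
      exact ⟨_, hc, by rw [sq_C2' hc, ry6_y6, hy, ← eq_rz6 ha]⟩
  refine chain (pg_top K) hF hE le_top le_normalizer_of_normal [V2' K, Zm K] (by simp [iV, iZ])
    ⟨fun g hg x _ _ => ?_, fun g hg x _ hx => icj_U4_V2' hg hx,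
      fun g hg x _ hx => (comm_Zm hx (U4_le_Q1 hg)).symm⟩
  obtain ⟨b1, b2, b3, -, b5, b6, b7, -, b9⟩ := icj_U4_S hg x
  exact ⟨⟨b1, b2, b3, b7, b9, b6⟩, b5⟩

theorem U4_le : U4 K ≤ E := by
  have hU := U3_le hF hE
  have sq : ∀ x ∈ U3 K, x * x = 1 := fun _ h => sq_V2 (U3_le_V2 h)
  have hC : ∀ β : MulAut E, ∀ u ∈ U3 K, (afn β u).x1 = 0 → (afn β u).z8 = 0 → afn β u ∈ D2 K :=
    fun β u hu h₁ h₂ => J0_le_D2 (invC (afn_sq β (hU hu) (sq u hu)) h₁ h₂).1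
  by_cases hA : ∃ β : MulAut E, ∃ u ∈ U3 K, (afn β u).x1 ≠ 0
  · obtain ⟨β, u, hu, h⟩ := hA
    have hQ := le_Q2_of_A β hU sq hu h
    refine chain (pg_top K) hF hE le_top le_normalizer_of_normal [cr (F.autGroup E) (D2 K)]
      (by simpa using iv_cr _ _) ⟨fun g hg x hx _ => ?_, fun _ hg _ _ hx => comm_U4 hg (cr_le hx)⟩
    have hz := icj_V2_Q2 (U4_le_V2 hg) (hQ hx)
    exact ⟨Z_le hE hz, fun β _ => hC β _ (Z_le_U3 hz) (notA hF hE (afn_Z1 β (Z_le_Z1 hE hz)))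
      (hQ (afn_mem β (Z_le hE hz))).2⟩
  push Not at hA
  by_cases hB : ∃ β : MulAut E, ∃ v ∈ V1 K, (afn β v).z8 ≠ 0
  · obtain ⟨β, v, hv, h⟩ := hB
    have hu := V1_le_U3 hv
    have hQ := le_Q1_of_B β hU sq hu (hA β v hu) h
    have hw := afn_Z1 β (⟨hU hu, fun e he => comm_V1 hv (hQ he), sq v hu⟩ : v ∈ Z1 E)
    obtain ⟨t, ⟨a1, a2, a3⟩, a4, a5, a6, a7, a8⟩ := invB hw.2.2 (hA β v hu) h
    obtain ⟨E', hE', h'⟩ := ess_conj hE (mem_top (rx1 t))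
    intro x hx
    have := (h' _).1 (U4_le₀ hF hE' (fun e he => ?_) ⟨⟨a1, a2, a3, a6, a7, a8⟩, a5⟩ (a4 ▸ h)
      (Normal.conj_mem inferInstance x hx (rx1 t)))
    · simpa [mul_assoc] using this
    rw [show rx1 t * afn β v * (rx1 t)⁻¹ * e =
      rx1 t * (afn β v * ((rx1 t)⁻¹ * e * rx1 t)) * (rx1 t)⁻¹ by group, hw.2.1 _ ((h' e).1 he)]
    group
  push Not at hB
  exact chain (pg_top K) hF hE le_top le_normalizer_of_normal
    [cr (F.autGroup E) (D1 K), cr (F.autGroup E) (D2 K)] (by simp [iv_cr])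
    ⟨fun g hg x _ _ => have hu := icj_U4_S hg x
      ⟨hU hu, fun β _ => inv_D1 (afn_sq β (hU hu) (sq _ hu)) (hA β _ hu)⟩,
    fun g hg x _ hx => have hv := icj_A1_D1 (U4_le_A1 hg) (cr_le hx)
      ⟨hU (V1_le_U3 hv), fun β _ => hC β _ (V1_le_U3 hv) (hA β _ (V1_le_U3 hv)) (hB β _ hv)⟩,
    fun _ hg _ _ hx => comm_U4 hg (cr_le hx)⟩

end EA

theorem essA : EssAStmt := by
  intro K _ _ _ F hF E hE
  exact EA.U4_le hF hE

end Cfsg.Agent.F4
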