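import Cfsg.Agent.Lib.F4.EssC

/-!
Row ESSB: an essential subgroup containing `U₄` contains `J₀`.
-/

set_option autoImplicit false
set_option linter.unusedSectionVars false
set_option linter.unusedSimpArgs false
set_option linter.unnecessarySeqFocus false

namespace Cfsg.Agent.F4

open Cfsg.Agent.Fus Cfsg.Agent.Fus2 Cfsg.Agent.Ess Subgroup
open U5.E3 (afn_icj afn_comm cr cr_le)
open EA EC

namespace EB

variable {K : Type} [Field K] [Finite K] [Rf K]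

theorem x7_mul_z2 {a v : P K} (ha : a ∈ A1 K) (hv : v ∈ V2 K) (h : a * v = v * a) :
    a.x7 * v.z2 = 0 := by
  obtain ⟨a1, a2, a3, a4, a5, a6, a7⟩ := ha
  obtain ⟨b1, b2, b3, b4, b5, b6, b7⟩ := hv
  have := congrArg P.z4 h
  simp [a1, a2, a3, a4, a5, a6, a7, b1, b2, b3, b4, b5, b6, b7] at this
  grind

theorem comm_z2 {w e : P K} (h₁ : w.x1 ≠ 0) (h₂ : w.y8 = 0) (h₃ : w.z8 = 0) (h₄ : w.y2 = 0)
    (h₅ : w.y6 = 0) (h₆ : w.y4 = 0) (h₇ : w.x7 = 0) (h : e⁻¹ * (w * e * w⁻¹) ∈ Z K) :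
    rz2 1 * e = e * rz2 1 := by
  obtain ⟨-, -, e₁, -, e₂, -, -, -, -, e₃, -⟩ := icj_Z_iff.1 h
  simp [h₂, h₄] at e₁
  have a1 : e.y8 = 0 := mul_right_cancel₀ h₁ (by grind)
  simp [h₂, h₃, h₄, h₅, a1] at e₂
  have a2 : e.z8 = 0 := mul_right_cancel₀ h₁ (by grind)
  simp [h₂, h₃, h₄, h₅, h₆, h₇, a1, a2] at e₃
  have a3 : e.x7 = 0 := s_inj (mul_right_cancel₀ h₁ (by grind))
  ext <;> simp [a1, a2, a3, add_comm]

variable {F : FusionSystem (⊤ : Subgroup (P K))} (hF : F.IsSaturated 2) {E : Subgroup (P K)}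
  (hE : F.IsEssential 2 E) (hU : U4 K ≤ E)
include hF hE hU

omit hF hE in
theorem typeA (γ : MulAut E) {x : P K} (hx : x ∈ E) (h : ∀ e ∈ E, e⁻¹ * (x * e * x⁻¹) ∈ Z K)
    (h₁ : (afn γ x).x1 ≠ 0) : ∀ e ∈ E, e⁻¹ * (afn γ x * e * (afn γ x)⁻¹) ∈ Z K := fun e he => by
  have k : ∀ e ∈ E, ∃ z ∈ Z K, afn γ z = e⁻¹ * (afn γ x * e * (afn γ x)⁻¹) := fun e he =>
    ⟨_, h _ (afn_mem γ⁻¹ he), by rw [afn_icj γ (afn_mem _ he) hx, afn_afn_inv]⟩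
  obtain ⟨z, hz, e'⟩ := k e he
  refine e' ▸ map_Z_of γ (fun u => ?_) z hz
  obtain ⟨z, hz, e'⟩ := k (rz6 (u / (afn γ x).x1)) (hU (by simp [mem_U4]))
  refine ⟨z, hz, e'.trans (icj_eq_rz4 (icj_S_V1 _ (by simp [mem_V1])) ?_)⟩
  simp [h₁]
  grind

omit hF hE in
theorem Z1_cases {w : P K} (hw : w ∈ Z1 E) : w ∈ V2 K ∨ w ∈ A1 K := by
  obtain ⟨a1, -, -, a4, -⟩ := mem_D2_of_comm fun u hu => hw.2.1 u (hU hu)
  exact invC' hw.2.2 a1 a4

theorem caseA {w : P K} (hw : w ∈ Z1 E) (hV : w ∈ V2 K) : w.z2 = 0 := by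
  by_contra h₁
  have hQ : E ≤ Q2 K := fun e he => by
    obtain ⟨b1, b2, b3, b4, b5, b6, b7⟩ := hV
    have e₁ := congrArg P.x3 (hw.2.1 e he)
    simp [b1, b2, b3, b4, b5, b6, b7] at e₁
    have a1 : e.y8 = 0 := mul_right_cancel₀ h₁ (by grind)
    have e₂ := congrArg P.x5 (hw.2.1 e he)
    simp [b1, b2, b3, b4, b5, b6, b7, a1] at e₂
    exact ⟨a1, mul_right_cancel₀ h₁ (by grind)⟩
  have hA : ∀ y ∈ E, y ∈ A1 K → y ∈ V2 K := fun y hy ha => by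
    have := x7_mul_z2 ha hV (hw.2.1 y hy).symm
    obtain ⟨a1, a2, a3, a4, a5, a6, -⟩ := ha
    exact ⟨a1, a2, a3, a4, a5, a6, (mul_eq_zero.1 this).resolve_right h₁⟩
  have hZ : ∀ y ∈ Z1 E, y ∈ V2 K := fun y hy => (Z1_cases hU hy).elim id (hA y hy.1)
  have hV2 : V2 K ≤ E := chain (pg_top K) hF hE le_top le_normalizer_of_normal [Z1 E]
    (by simpa using iv_Z1 _) ⟨fun g hg x hx _ => Z_le_Z1 hE (icj_V2_Q2 hg (hQ hx)),
      fun g hg x _ hx => comm_V2 hg (V2_le_C2 (hZ x hx))⟩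
  have hN : ∀ g ∈ Q2 K, g ∈ normalizer (E : Set (P K)) := fun g hg =>
    mem_N_of_icj fun e he => hV2 (icj_Q2_Q2 hg (hQ he))
  have h7 : rx7 (1 : K) ∉ E := fun h => by
    simpa [mem_V2] using hA _ h (by simp [mem_A1])
  have hC : C2 K ≤ E := fun b hb => by
    by_contra hbE
    obtain ⟨Mx, h⟩ := U5.sed_of_ess (pg_top K) hF hE
    obtain ⟨β, -, e, he, H⟩ := inv_conj (pg_top K) hE.1 h trivial (hN _ ⟨rfl, rfl⟩) h7
      (by rw [sq_A1 (by simp [mem_A1])]; exact one_mem _) trivial (hN _ (C2_le_Q2 hb)) hbE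
      (by rw [sq_C2 hb]; exact Z_le hE (rz4_mem _))
    have hy := afn_Z1 β hw
    have := H w hw.1
    rw [mul_assoc e, ← comm_V2 (hZ _ hy) hb, ← mul_assoc, ← hy.2.1 e he, mul_assoc (afn β w),
      mul_inv_cancel_right] at this
    exact h₁ (by simpa using (x7_mul_z2 (a := rx7 1) (by simp [mem_A1]) hV
      (mul_inv_eq_iff_eq_mul.1 (afn_injective β this))))
  have iV : Iv (F.autGroup E) (V2 K) := fun γ _ x hx hx' => by
    have hy := afn_mem γ hx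
    by_cases a : (afn γ x).x1 = 0
    · exact (invC' (afn_sq γ hx (sq_V2 hx')) a (hQ hy).2).elim id (hA _ hy)
    have := (icj_Z_iff.1 (typeA hU γ hx (fun e he => icj_V2_Q2 hx' (hQ he)) a (ry4 1)
      (hC (by simp [mem_C2])))).2.2.2.2.2.2.1
    simp at this
    exact absurd (by grind) a
  have iZ : Iv (F.autGroup E) (Z K) := iv_sq hC (iv_cen hV2 iV (fun _ ha _ => comm_V2 ha)
    fun _ _ => mem_C2_of_comm) (fun c hc => sq_C2 hc ▸ rz4_mem _) fun _ => exists_sq_C2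
  exact h7 (chain (pg_top K) hF hE le_top le_normalizer_of_normal [V2 K, Z K]
    (by simp [iV, iZ]) ⟨fun g hg x hx _ => icj_Q2_Q2 hg (hQ hx), fun g hg x _ hx => icj_Q2_V2 hg hx,
      fun g _ x _ hx => (comm_Z hx g).symm⟩ (show rx7 1 ∈ Q2 K from ⟨rfl, rfl⟩))

theorem Z1_le_A1 {w : P K} (hw : w ∈ Z1 E) : w ∈ A1 K := (Z1_cases hU hw).elim (fun h => by
  have := caseA hF hE hU hw h
  obtain ⟨a1, a2, a3, a4, a5, a6, -⟩ := h
  exact ⟨a1, a2, a3, a4, a5, a6, this⟩) id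

theorem Z1_le_U4 {w : P K} (hw : w ∈ Z1 E) : w ∈ U4 K := by
  obtain ⟨a1, a2, a3, a4, a5, a6, a7⟩ := Z1_le_A1 hF hE hU hw
  refine ⟨a1, a2, a3, a4, a5, a6, a7, by_contra fun h₁ => ?_⟩
  have hQ : E ≤ Q1 K := fun e he => by
    have e₁ := congrArg P.x3 (hw.2.1 e he)
    simp [a1, a2, a3, a4, a5, a6, a7] at e₁
    exact s_inj (mul_left_cancel₀ h₁ (by grind))
  have hN : ∀ g ∈ C2 K, g ∈ normalizer (E : Set (P K)) := fun g hg =>
    mem_N_of_icj fun e he => hU (by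
      obtain ⟨b1, b2, b3, b4, b5, b6, b7⟩ := icj_D2_S (C2_le_D2 hg) e
      exact ⟨b1, b2, b3, b4, b5, b6, (icj_D1_Q1 (C2_le_D1 hg) (hQ he)).2.2.2.2.2.2, b7⟩)
  have hs : ∀ g ∈ C2 K, g * g ∈ E := fun g hg => by rw [sq_C2 hg]; exact Z_le hE (rz4_mem _)
  have m₁ : rz2 (1 : K) ∈ C2 K := by simp [mem_C2]
  have m₂ : ry4 (1 : K) ∈ C2 K := by simp [mem_C2]
  refine rr hF hE hw (fun v hv => ⟨hU (V1_le_U4 hv), fun e he => comm_V1 hv (hQ he),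
      sq_V2 (V1_le_V2 hv)⟩) (fun v hv hv' => ?_) (hN _ m₁) (fun h => ?_) (hs _ m₁) (hN _ m₂)
    (fun h => ?_) (hs _ m₂) P.x7 (fun x hx y hy e => ?_)
    (fun y hy => icj_J0_J0 (by simp [mem_J0]) (A1_le_J0 (Z1_le_A1 hF hE hU hy))) fun y hy => ?_
  · have m : rz2 (v.z4 / w.x7) * ry4 (v.z6 / w.x7) ∈ C2 K := by simp [mem_C2]
    have e : v = w⁻¹ * (rz2 (v.z4 / w.x7) * ry4 (v.z6 / w.x7) * w *
        (rz2 (v.z4 / w.x7) * ry4 (v.z6 / w.x7))⁻¹) := by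
      obtain ⟨b1, b2, b3, b4, b5, b6, b7, b8, b9, b10⟩ := hv
      rw [eq_inv_mul_iff_mul_eq, eq_mul_inv_iff_mul_eq]
      ext <;> simp [*, mul_div_cancel₀] <;> grind
    exact ⟨_, hN _ m, fun h => hv' (by rw [e, ← hw.2.1 _ h]; group), hs _ m, e⟩
  · have := congrArg P.z4 (hw.2.1 _ h)
    simp [a1, a2, a3, a4, a5, a6, a7, h₁] at this
  · have := congrArg P.z6 (hw.2.1 _ h)
    simp [a1, a2, a3, a4, a5, a6, a7, h₁] at this
  · have : x * y ∈ U4 K := by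
      obtain ⟨b1, b2, b3, b4, b5, b6, b7⟩ := Z1_le_A1 hF hE hU hx
      obtain ⟨c1, c2, c3, c4, c5, c6, c7⟩ := Z1_le_A1 hF hE hU hy
      simp [mem_U4, *, CharTwo.add_self_eq_zero]
    exact ⟨(comm_U4 this (C2_le_D2 m₁)).symm, (comm_U4 this (C2_le_D2 m₂)).symm⟩
  · obtain ⟨b1, b2, b3, b4, b5, b6, b7⟩ := Z1_le_A1 hF hE hU hy
    simp [mem_Zm, b1, b2, b3, b4, b5, b6, b7, CharTwo.add_self_eq_zero]
    grind

theorem notA4 (γ : MulAut E) {u : P K} (hu : u ∈ U4 K) : afn γ u ∈ Q1 K := by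
  by_contra h₁
  have sq : ∀ x ∈ U4 K, x * x = 1 := fun _ h => sq_V2 (U4_le_V2 h)
  have hQ := le_Q2_of_A γ hU sq hu h₁
  have hz := typeA hU γ (hU hu) (fun e he => icj_V2_Q2 (U4_le_V2 hu) (hQ he)) h₁
  obtain ⟨s, a1, a2, a3, a4, a5, a6, a7⟩ := invA (afn_sq γ (hU hu) (sq u hu)) h₁
  have hc : ∀ e ∈ E, s⁻¹ * rz2 1 * s * e = e * (s⁻¹ * rz2 1 * s) := fun e he => by
    have := comm_z2 (e := s * e * s⁻¹) (a1 ▸ h₁) a2 a3 a4 a5 a6 a7 (by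
      simpa [mul_assoc] using (inferInstance : (Z K).Normal).conj_mem _ (hz e he) s)
    rw [show s⁻¹ * rz2 1 * s * e = s⁻¹ * (rz2 1 * (s * e * s⁻¹)) * s by group, this]
    group
  have m : rz2 (1 : K) ∈ V2 K := by simp [mem_V2]
  have := (inferInstance : (U4 K).Normal).conj_mem _ (Z1_le_U4 hF hE hU ⟨le_of_cent hE hc, hc,
    sq_V2 (by simpa using (inferInstance : (V2 K).Normal).conj_mem _ m s⁻¹)⟩) s
  simp [mul_assoc, mem_U4] at this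

theorem J0_le : J0 K ≤ E := by
  have hU3 := U3_le_U4.trans hU
  have sq : ∀ x ∈ U4 K, x * x = 1 := fun _ h => sq_V2 (U4_le_V2 h)
  have hD : ∀ γ : MulAut E, ∀ u ∈ U4 K, afn γ u ∈ D1 K := fun γ u hu =>
    inv_D1 (afn_sq γ (hU hu) (sq u hu)) (notA4 hF hE hU γ hu)
  have hJ : ∀ γ : MulAut E, ∀ u ∈ U3 K, afn γ u ∈ J0 K := fun γ u hu => by
    have hu' := U3_le_U4 hu
    refine (invC (afn_sq γ (hU hu') (sq u hu')) (hD γ u hu').1 ?_).1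
    have m : rx3 (1 : K) ∈ U4 K := by simp [mem_U4]
    have := afn_comm γ (hU hu') (afn_mem γ⁻¹ (hU m)) (comm_U3 hu (hD γ⁻¹ _ m))
    rw [afn_afn_inv] at this
    exact (z_of_comm (hD γ u hu') one_ne_zero this).2.2.2.1
  exact chain (pg_top K) hF hE le_top le_normalizer_of_normal
    [cr (F.autGroup E) (D1 K), cr (F.autGroup E) (J0 K), Z1 E] (by simp [iv_cr, iv_Z1])
    ⟨fun g hg x _ _ => ⟨hU (icj_J0_S hg x), fun β _ => hD β _ (icj_J0_S hg x)⟩,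
      fun g hg x _ hx => have hv := icj_D1_D1 (J0_le_D1 hg) (cr_le hx)
        ⟨hU3 hv, fun β _ => hJ β _ hv⟩,
      fun g hg x _ hx => Z_le_Z1 hE (icj_J0_J0 hg (cr_le hx)),
      fun g hg x _ hx => (comm_U4 (Z1_le_U4 hF hE hU hx) (J0_le_D2 hg)).symm⟩

end EB

theorem essB : EssBStmt := by
  intro K _ _ _ F hF E hE hU
  exact EB.J0_le hF hE hU

end Cfsg.Agent.F4
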