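import Cfsg.Agent.Lib.F4.EssA

/-!
Row ESSC: an essential subgroup containing `J₀` is `Q₁` or `Q₂`.
-/

set_option autoImplicit false
set_option linter.unusedSectionVars false
set_option linter.unusedSimpArgs false
set_option linter.unnecessarySeqFocus false

namespace Cfsg.Agent.F4

open Cfsg.Agent.Fus Cfsg.Agent.Fus2 Cfsg.Agent.Ess Subgroup
open U5.E3 (afn_icj afn_comm)
open EA

namespace EC

variable {K : Type} [Field K] [Finite K] [Rf K]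

theorem icj_Q1_Q1 {g x : P K} (hg : g ∈ Q1 K) (hx : x ∈ Q1 K) : x⁻¹ * (g * x * g⁻¹) ∈ D1 K := by
  simp only [icj_D1_iff, P.mul_x1, P.mul_y8, P.mul_y2, mem_Q1.1 hg, mem_Q1.1 hx]
  refine ⟨?_, ?_, ?_⟩ <;> grind

theorem icj_eq_rz4 {g x : P K} (h : x⁻¹ * (g * x * g⁻¹) ∈ Z K) {u : K}
    (e : (g * x).z4 = u + (x * g).z4) : x⁻¹ * (g * x * g⁻¹) = rz4 u := by
  have h₁ : g * x = x⁻¹ * (g * x * g⁻¹) * (x * g) := by
    rw [← mul_assoc, comm_Z h x]; group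
  rw [eq_rz4 h] at h₁ ⊢
  rw [h₁] at e
  generalize x * g = y at e
  exact congrArg rz4 (by simpa using e)

theorem x7_of_icj {a g : P K} (ha : a ∈ A1 K) (hg : g ∈ Q2 K) (h₁ : g.x1 ≠ 0)
    (h : (a * g).x3 = (g * a).x3) : a.x7 = 0 := by
  obtain ⟨a1, a2, a3, a4, a5, a6, a7⟩ := ha
  simp [a1, a2, a3, a4, a5, a6, a7, hg.1] at h
  exact mul_right_cancel₀ (s_ne h₁) (by grind)

theorem x3_of_comm {u g : P K} (hu : u ∈ U4 K) (hg : g ∈ N8 K) (h₁ : g.z8 ≠ 0)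
    (h : (u * g).z6 = (g * u).z6) : u ∈ U3 K := by
  obtain ⟨a1, a2, a3, a4, a5, a6, a7, a8⟩ := hu
  simp [a1, a2, a3, a4, a5, a6, a7, a8, mem_N8.1 hg] at h
  exact ⟨a1, a2, a3, a4, a5, a6, a7, a8, mul_left_cancel₀ h₁ (by grind)⟩

theorem exists_sq_C2 {a : P K} (ha : a ∈ Z K) : ∃ c ∈ C2 K, a = c * c := by
  obtain ⟨y, hy⟩ := exists_N a.z4
  have hc : ry4 y ∈ C2 K := by simp [mem_C2]
  exact ⟨_, hc, by rw [sq_C2 hc, ry4_y4, hy, ← eq_rz4 ha]⟩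

/-- The centre of `D₁` moves `x₅(1)` through all of `V₁` under `Q₁`. -/
theorem icj_x5 (v : P K) (hv : v ∈ V1 K) :
    v = (rx5 1)⁻¹ * (ry2 v.z4 * ry8 v.z6 * rx5 1 * (ry2 v.z4 * ry8 v.z6)⁻¹) := by
  obtain ⟨a1, a2, a3, a4, a5, a6, a7, a8, a9, a10⟩ := hv
  rw [eq_inv_mul_iff_mul_eq, eq_mul_inv_iff_mul_eq]
  ext <;> simp [*] <;> grind

variable {F : FusionSystem (⊤ : Subgroup (P K))} (hF : F.IsSaturated 2) {E : Subgroup (P K)}
  (hE : F.IsEssential 2 E) (hJ : J0 K ≤ E)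
include hF hE hJ

theorem caseII {β : MulAut E} {v : P K} (hQ : E ≤ Q2 K) (hv : v ∈ E) (h₁ : (afn β v).x1 ≠ 0) :
    E = Q2 K := by
  have hV := V2_le_J0.trans hJ
  have iV : Iv (F.autGroup E) (V2 K) := fun γ _ x hx hx' => by
    have k : ∀ e ∈ E, ∃ z ∈ Z K, afn γ z = e⁻¹ * (afn γ x * e * (afn γ x)⁻¹) := fun e he =>
      ⟨_, icj_V2_Q2 hx' (hQ (afn_mem γ⁻¹ he)), by rw [afn_icj γ (afn_mem _ he) hx, afn_afn_inv]⟩
    have k' : (∀ u, ∃ e ∈ E, e⁻¹ * (afn γ x * e * (afn γ x)⁻¹) = rz4 u) → ∀ e ∈ E,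
        (e * afn γ x).x3 = (afn γ x * e).x3 := fun h e he => by
      obtain ⟨z, hz, e'⟩ := k e he
      have := map_Z_of γ (fun u => by
        obtain ⟨e, he, h⟩ := h u
        exact h ▸ k e he) z hz
      exact (icj_Z_iff.1 (e' ▸ this)).2.2.2.2.2.2.2.2.1
    have hy := hQ (afn_mem γ hx)
    have h2 := afn_sq γ hx (sq_V2 hx')
    generalize afn γ x = y at *
    by_cases hA : y.x1 = 0
    · refine (invC' h2 hA hy.2).elim id fun ha => ?_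
      have a := ha
      obtain ⟨a1, a2, a3, a4, a5, a6, a7⟩ := a
      refine ⟨a1, a2, a3, a4, a5, a6, by_contra fun h7 => h7 (x7_of_icj ha (hQ (afn_mem β hv)) h₁
        (k' (fun u => ⟨rz2 (u / y.x7), hV (by simp [mem_V2]), ?_⟩) _ (afn_mem β hv)).symm)⟩
      refine icj_eq_rz4 (icj_Q2_V2 hy (by simp [mem_V2])) ?_
      simp [*]
      field_simp
      ring
    · refine absurd (x7_of_icj (a := rx7 1) (by simp [mem_A1]) hy hA (k' (fun u =>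
        ⟨rz6 (u / y.x1), hV (by simp [mem_V2]), ?_⟩) _ (hJ (by simp [mem_J0])))) one_ne_zero
      refine icj_eq_rz4 (icj_S_V1 y (by simp [mem_V1])) ?_
      simp [hA]
      grind
  have hC : C2 K ≤ E := chain (pg_top K) hF hE le_top le_normalizer_of_normal [V2 K]
    (by simpa using iV) ⟨fun g hg x hx _ => icj_Q2_Q2 (C2_le_Q2 hg) (hQ hx),
      fun g hg x _ hx => (comm_V2 hx hg).symm⟩
  have iZ : Iv (F.autGroup E) (Z K) := iv_sq hC (iv_cen hV iV (fun _ ha _ => comm_V2 ha)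
    fun _ _ => mem_C2_of_comm) (fun c hc => sq_C2 hc ▸ rz4_mem _) fun _ => exists_sq_C2
  exact le_antisymm hQ (chain (pg_top K) hF hE le_top le_normalizer_of_normal [V2 K, Z K]
    (by simp [iV, iZ]) ⟨fun g hg x hx _ => icj_Q2_Q2 hg (hQ hx), fun g hg x _ hx => icj_Q2_V2 hg hx,
      fun g _ x _ hx => (comm_Z hx g).symm⟩)

theorem caseIII {w : P K} (hQ : E ≤ Q1 K) (hw : w ∈ E) (hw2 : w * w = 1) (h₁ : w.z8 ≠ 0) :
    E = Q1 K := by
  have hU := U3_le_J0.trans hJ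
  have hwD := inv_D1 hw2 (hQ hw)
  have cen : ∀ x, (∀ e ∈ E, e * e = 1 → x * e = e * x) → x ∈ U3 K := fun x h => by
    obtain ⟨a1, a2, a3, a4, a5, a6, a7⟩ := mem_A1_of_comm fun a ha =>
      h a (hJ (A1_le_J0 ha)) (sq_A1 ha)
    exact x3_of_comm ⟨a1, a2, a3, a4, a5, a6, a7, (mem_C2_of_comm fun a ha =>
      h a (hJ (V2_le_J0 ha)) (sq_V2 ha)).2.2.2.2.2⟩ hwD.2.1 h₁ (congrArg P.z6 (h w hw hw2))
  have iU : Iv (F.autGroup E) (U3 K) := fun γ _ x hx hx' => cen _ fun e he h => by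
    have he' := afn_mem γ⁻¹ he
    simpa only [afn_afn_inv] using
      afn_comm γ hx he' (comm_U3 hx' (inv_D1 (afn_sq γ⁻¹ he h) (hQ he')))
  have iD : Iv (F.autGroup E) (D1 K) :=
    iv_cen hU iU (fun _ ha _ => comm_U3 ha) fun _ _ => mem_D1_of_comm
  have hD : D1 K ≤ E := chain (pg_top K) hF hE le_top le_normalizer_of_normal [D1 K, U3 K]
    (by simp [iD, iU]) ⟨fun g hg x hx _ => A1_le_D1 (icj_D1_Q1 hg (hQ hx)),
      fun g hg x _ hx => icj_D1_D1 hg hx, fun g hg x _ hx => (comm_U3 hx hg).symm⟩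
  have hV : V1 K ≤ Z1 E := fun v hv =>
    ⟨hU (V1_le_U3 hv), fun e he => comm_V1 hv (hQ he), sq_V2 (V1_le_V2 hv)⟩
  have hZ1 : ∀ x ∈ Z1 E, x ∈ U3 K := fun x hx => cen x fun e he _ => hx.2.1 e he
  by_cases hED : E ≤ D1 K
  · obtain rfl := le_antisymm hED hD
    have hN : ∀ b : P K, b ∈ normalizer (D1 K : Set (P K)) := fun b =>
      le_normalizer_of_normal (mem_top b)
    exact (rr hF hE (w := rx5 1)
      ⟨by simp [mem_D1], fun e he => comm_U3 (by simp [mem_U3]) he, sq_V2 (by simp [mem_V2])⟩ hV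
      (fun v hv hv' => ⟨_, hN _, fun h => hv' (by
          obtain ⟨a1, a2, a3, a4, a5, a6, a7, a8, a9, a10⟩ := hv
          simp [mem_D1] at h
          ext <;> simp [*]),
        by simp [mem_D1, CharTwo.add_self_eq_zero], icj_x5 v hv⟩)
      (hN (ry2 1)) (by simp [mem_D1]) (by simp [mem_D1, CharTwo.add_self_eq_zero])
      (hN (ry8 1)) (by simp [mem_D1]) (by simp [mem_D1, CharTwo.add_self_eq_zero]) P.x5
      (fun x hx y hy e => by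
        have : x * y ∈ V1 K := by
          obtain ⟨a1, a2, a3, a4, a5, a6, a7, a8, a9⟩ := hZ1 x hx
          obtain ⟨b1, b2, b3, b4, b5, b6, b7, b8, b9⟩ := hZ1 y hy
          simp [mem_V1, *, CharTwo.add_self_eq_zero]
        exact ⟨(comm_V1 this (by simp [mem_Q1])).symm, (comm_V1 this (by simp [mem_Q1])).symm⟩)
      (fun y hy => icj_N8_U3 (by simp [mem_N8]) (hZ1 y hy)) fun y hy => by
        obtain ⟨a1, a2, a3, a4, a5, a6, a7, a8, a9⟩ := hZ1 y hy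
        simp [mem_Zm, *, CharTwo.add_self_eq_zero]).elim
  obtain ⟨e, he, heD⟩ := SetLike.not_le_iff_exists.1 hED
  have iV : Iv (F.autGroup E) (V1 K) := fun γ _ x _ hx => by
    have hy := afn_Z1 γ (hV hx)
    generalize afn γ x = y at hy
    obtain ⟨a1, a2, a3, a4, a5, a6, a7, a8, a9⟩ := hZ1 y hy
    refine ⟨a1, a2, a3, a4, a5, a6, a7, a8, a9, by_contra fun h => heD ?_⟩
    have e₁ := congrArg P.z6 (hy.2.1 e he)
    have e₂ := congrArg P.z4 (hy.2.1 e he)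
    simp [mem_Q1.1 (hQ he), a1, a2, a3, a4, a5, a6, a7, a8, a9] at e₁ e₂
    exact ⟨hQ he, mul_right_cancel₀ h (by grind), mul_left_cancel₀ h (by grind)⟩
  have iA : Iv (F.autGroup E) (A1 K) := fun γ hγ x hx hx' => by
    have k := fun a ha => (icj_V1_iff.1 (icj_map hD iD iV hγ hx
      (fun _ ha => icj_A1_D1 hx' ha) a ha)).2.2.2.2.2.2.2.2.2
    obtain ⟨a1, a2, a3⟩ := iD γ hγ x hx (A1_le_D1 hx')
    generalize afn γ x = y at *
    have e₁ := k (rz2 1) (by simp [mem_D1])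
    have e₂ := k (ry4 1) (by simp [mem_D1])
    have e₃ := k (ry6 1) (by simp [mem_D1])
    have e₄ := k (rz8 1) (by simp [mem_D1])
    simp [a1, a2, a3] at e₁ e₂ e₃ e₄
    exact ⟨a1, a2, a3, e₁, e₂, e₃, e₄⟩
  exact le_antisymm hQ (chain (pg_top K) hF hE le_top le_normalizer_of_normal
    [D1 K, A1 K, U3 K, V1 K] (by simp [iD, iA, iU, iV])
    ⟨fun g hg x hx _ => icj_Q1_Q1 hg (hQ hx), fun g hg x _ hx => icj_Q1_D1 hg hx,
      fun g hg x _ hx => icj_Q1_A1 hg hx, fun g _ x _ hx => icj_S_U3 g hx,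
      fun g hg x _ hx => (comm_V1 hx hg).symm⟩)

theorem caseI (hV : ∀ β : MulAut E, ∀ v ∈ V2 K, afn β v ∈ V2 K ∨ afn β v ∈ A1 K)
    (hA : ∀ β : MulAut E, ∀ v ∈ A1 K, afn β v ∈ V2 K ∨ afn β v ∈ A1 K) : E = Q2 K := by
  have hV2 := V2_le_J0.trans hJ
  have hA1 := A1_le_J0.trans hJ
  have hU4 := U4_le_J0.trans hJ
  have hU3 := U3_le_J0.trans hJ
  have iJ : Iv (F.autGroup E) (J0 K) := fun γ _ x hx hx' => by
    have h₁ : rz2 x.z2 ∈ V2 K := by simp [mem_V2]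
    have h₂ : (rz2 x.z2)⁻¹ * x ∈ A1 K := mod_A1.2 (by simpa [eq_comm] using mem_J0.1 hx')
    rw [← mul_inv_cancel_left (rz2 x.z2) x, (homOn_afn γ).map_mul (hV2 h₁) (hA1 h₂)]
    exact mul_mem ((hV γ _ h₁).elim (V2_le_J0 ·) (A1_le_J0 ·))
      ((hA γ _ h₂).elim (V2_le_J0 ·) (A1_le_J0 ·))
  have cJ : ∀ a ∈ J0 K, ∀ g ∈ U4 K, a * g = g * a := fun a ha g hg => (comm_U4 hg (J0_le_D2 ha)).symm
  have i4 : Iv (F.autGroup E) (U4 K) := iv_cen hJ iJ cJ fun _ _ => mem_U4_of_comm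
  have iZ : Iv (F.autGroup E) (Z K) := iv_sq hJ iJ (fun c hc => sq_J0 hc ▸ rz4_mem _) fun a ha => by
    have hc : rz2 a.z4 * rx7 1 ∈ J0 K := by simp [mem_J0]
    exact ⟨_, hc, by rw [sq_J0 hc]; simpa using eq_rz4 ha⟩
  have hD3 : D3 K ≤ E := chain (pg_top K) hF hE le_top le_normalizer_of_normal [J0 K, U4 K, Z K]
    (by simp [iJ, i4, iZ]) ⟨fun g hg x _ _ => icj_D3_S hg x,
      fun g hg x _ hx => V1_le_U4 (icj_D3_J0 hg hx), fun g hg x _ hx => icj_D3_U4 hg hx,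
      fun g _ x _ hx => (comm_Z hx g).symm⟩
  have iV2 : Iv (F.autGroup E) (V2 K) := fun γ hγ x hx hx' => (hV γ x hx').elim id fun ha => by
    have hy : ry4 (1 : K) ∈ C2 K := by simp [mem_C2]
    have hyE := hD3 (C2_le_D3 hy)
    obtain ⟨b1, b2, b3, b4, b5⟩ := mem_D2_of_comm (comm_map hU4 i4 hγ hyE
      fun a ha => (comm_U4 ha (C2_le_D2 hy)).symm)
    have c := afn_comm γ hx hyE (comm_V2 hx' hy)
    have s : afn γ (ry4 1) ∉ A1 K := fun h => by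
      have := sq_A1 h
      rw [← (homOn_afn γ).map_mul hyE hyE, ← (homOn_afn γ).map_one] at this
      simpa using congrArg P.z4 (afn_injective γ this)
    obtain ⟨a1, a2, a3, a4, a5, a6, a7⟩ := ha
    refine ⟨a1, a2, a3, a4, a5, a6, by_contra fun h => s ?_⟩
    have e₁ := congrArg P.z6 c
    have e₂ := congrArg P.z4 c
    generalize afn γ x = y at *
    generalize afn γ (ry4 1) = g at *
    simp [a1, a2, a3, a4, a5, a6, a7, b1, b2, b3, b4, b5] at e₁ e₂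
    exact ⟨b1, b2, b3, b4, b5, mul_left_cancel₀ h (by grind), mul_left_cancel₀ h (by grind)⟩
  have iA1 : Iv (F.autGroup E) (A1 K) := fun γ hγ x hx hx' => (hA γ x hx').elim (fun h => by
    have := iV2 _ (inv_mem hγ) _ (afn_mem γ hx) h
    rw [afn_inv_afn] at this
    obtain ⟨a1, a2, a3, a4, a5, a6, a7⟩ := hx'
    exact U4_le_A1 (i4 γ hγ x hx ⟨a1, a2, a3, a4, a5, a6, a7, this.2.2.2.2.2.2⟩)) id
  have iQ2 : Iv (F.autGroup E) (Q2 K) := fun γ hγ x hx hx' => mem_Q2_of_icj one_ne_zero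
    (Z_le_V1 (icj_map hV2 iV2 iZ hγ hx (fun _ => icj_Q2_V2 hx') _ (by simp [mem_V2])))
  have hQ2 : Q2 K ≤ E := chain (pg_top K) hF hE le_top le_normalizer_of_normal [Q2 K, V2 K, Z K]
    (by simp [iQ2, iV2, iZ]) ⟨fun g hg x _ _ => by
      simpa [mul_assoc] using mul_mem (Normal.conj_mem inferInstance g hg x⁻¹) (inv_mem hg),
      fun g hg x _ hx => icj_Q2_Q2 hg hx, fun g hg x _ hx => icj_Q2_V2 hg hx,
      fun g _ x _ hx => (comm_Z hx g).symm⟩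
  refine le_antisymm ?_ hQ2
  by_contra hn
  obtain ⟨e, he, heQ⟩ := SetLike.not_le_iff_exists.1 hn
  have iC2 : Iv (F.autGroup E) (C2 K) :=
    iv_cen hV2 iV2 (fun _ ha _ => comm_V2 ha) fun _ _ => mem_C2_of_comm
  have iV1 : Iv (F.autGroup E) (V1 K) := fun γ hγ x hx hx' => by
    have h₁ : rx7 x.z6 ∈ A1 K := by simp [mem_A1]
    have h₂ : ry4 (1 : K) ∈ C2 K := by simp [mem_C2]
    have h₃ := icj_A1_D1 h₁ (C2_le_D1 h₂)
    have h₄ : ((ry4 1)⁻¹ * (rx7 x.z6 * ry4 1 * (rx7 x.z6)⁻¹))⁻¹ * x ∈ Z K := by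
      obtain ⟨a1, a2, a3, a4, a5, a6, a7, a8, a9, a10⟩ := hx'
      rw [mod_Z]
      simp [*, CharTwo.add_self_eq_zero]
    rw [← mul_inv_cancel_left ((ry4 1)⁻¹ * (rx7 x.z6 * ry4 1 * (rx7 x.z6)⁻¹)) x,
      (homOn_afn γ).map_mul (hU3 (V1_le_U3 h₃)) (Z_le hE h₄), afn_icj γ (hQ2 (C2_le_Q2 h₂)) (hA1 h₁)]
    exact mul_mem (icj_A1_D1 (iA1 γ hγ _ (hA1 h₁) h₁) (C2_le_D1 (iC2 γ hγ _ (hQ2 (C2_le_Q2 h₂)) h₂)))
      (Z_le_V1 (iZ γ hγ _ (Z_le hE h₄) h₄))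
  have iQ1 : Iv (F.autGroup E) (Q1 K) := iv_cen (V1_le_U3.trans hU3) iV1 (fun _ ha _ => comm_V1 ha)
    fun _ _ h => mem_Q1_of_comm one_ne_zero (h _ (by simp [mem_V1]))
  have i3 : Iv (F.autGroup E) (U3 K) := fun γ hγ x hx hx' => by
    have h₄ := i4 γ hγ x hx (U3_le_U4 hx')
    have k : ∀ e ∈ E, afn γ ((afn γ⁻¹ e)⁻¹ * (x * afn γ⁻¹ e * x⁻¹)) =
        e⁻¹ * (afn γ x * e * (afn γ x)⁻¹) := fun e he => by
      rw [afn_icj γ (afn_mem _ he) hx, afn_afn_inv]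
    by_cases h8 : E ≤ N8 K
    · have h₁ := icj_U3_N8 hx' (h8 (afn_mem γ⁻¹ he))
      have h₂ := iZ γ hγ _ (Z_le hE h₁) h₁
      rw [k e he] at h₂
      exact x3_of_comm h₄ (h8 he) (fun h => heQ ⟨h8 he, h⟩)
        (icj_Z_iff.1 h₂).2.2.2.2.2.2.2.2.2.2.symm
    obtain ⟨f, hf, hf'⟩ := SetLike.not_le_iff_exists.1 h8
    have h₁ := icj_U3_S hx' (afn γ⁻¹ f)
    have h₂ := iV1 γ hγ _ (hU3 (V1_le_U3 h₁)) h₁
    rw [k f hf] at h₂
    have h₃ := (icj_V1_iff.1 h₂).2.2.2.2.2.2.2.2.2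
    obtain ⟨a1, a2, a3, a4, a5, a6, a7, a8⟩ := h₄
    simp [a1, a2, a3, a4, a5, a6, a7, a8] at h₃
    exact ⟨a1, a2, a3, a4, a5, a6, a7, a8, mul_left_cancel₀ (s_ne hf') (by grind)⟩
  have i8 : Iv (F.autGroup E) (N8 K) := fun γ hγ x hx hx' => mem_N8_of_icj one_ne_zero
    (icj_map hU3 i3 iZ hγ hx (fun _ => icj_N8_U3 hx') _ (by simp [mem_U3]))
  have i7 : Iv (F.autGroup E) (Z7 K) := Iv.inf' iQ1 i8 fun _ => Iff.rfl
  have iD3 : Iv (F.autGroup E) (D3 K) := Iv.inf' (iv_cen hU3 i3 (fun _ ha _ => comm_U3 ha)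
    fun _ _ => mem_D1_of_comm) iQ2 fun x => by simp only [mem_D3, mem_D1, mem_Q2]; tauto
  exact (lt_of_isEssential (pg_top K) hF hE).not_ge (chain (pg_top K) hF hE le_rfl
    le_normalizer_of_normal [Z7 K, D3 K, J0 K, U4 K, U3 K, V1 K, Z K]
    (by simp [i7, iD3, iJ, i4, i3, iV1, iZ])
    ⟨fun g _ x _ _ => icj_S_S g x, fun g _ x _ => icj_S_Z7 g, fun g _ x _ => icj_S_D3 g,
      fun g _ x _ => icj_S_J0 g, fun g _ x _ => icj_S_U4 g, fun g _ x _ => icj_S_U3 g,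
      fun g _ x _ => icj_S_V1 g, fun g _ x _ hx => (comm_Z hx g).symm⟩)

theorem aux {A : Subgroup (P K)} [A.Normal] (hA : A ≤ J0 K) (h : ∀ x ∈ A, x * x = 1)
    (h₁ : E ≠ Q1 K) (h₂ : E ≠ Q2 K) (β : MulAut E) (v : P K) (hv : v ∈ A) :
    afn β v ∈ V2 K ∨ afn β v ∈ A1 K := by
  have hvE := hJ (hA hv)
  have a : (afn β v).x1 = 0 := by_contra fun a =>
    h₂ (caseII hF hE hJ (le_Q2_of_A β (hA.trans hJ) h hv a) hvE a)
  exact invC' (afn_sq β hvE (h v hv)) a (by_contra fun b => h₁ (caseIII hF hE hJ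
    (le_Q1_of_B β (hA.trans hJ) h hv a b) (afn_mem β hvE) (afn_sq β hvE (h v hv)) b))

end EC

theorem essC : EssCStmt := by
  intro K _ _ _ F hF E hE hJ
  by_contra h
  rw [not_or] at h
  exact h.2 (EC.caseI hF hE hJ (EC.aux hF hE hJ V2_le_J0 (fun _ => sq_V2) h.1 h.2)
    (EC.aux hF hE hJ A1_le_J0 (fun _ => sq_A1) h.1 h.2))

end Cfsg.Agent.F4
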