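import Cfsg.Agent.Lib.F4.Tool
import Cfsg.Agent.Lib.F4.Ch2

/-!
Row EXT: extensions to `S`, moving automorphisms and Weyl elements.
-/

set_option autoImplicit false

namespace Cfsg.Agent.F4

open Cfsg.Agent.Fus Cfsg.Agent.Fus2 Subgroup

variable {K : Type} [Field K] [Rf K] {F : FusionSystem (⊤ : Subgroup (P K))} {Q : Subgroup (P K)}
  {f g : P K → P K}

namespace Au

theorem isAut (hf : Au F Q f) : IsAut Q f := ⟨hf.1.homOn, fun x hx y hy => hf.1.inj x hx y hy, hf.2⟩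

theorem comp (hf : Au F Q f) (hg : Au F Q g) : Au F Q fun x => g (f x) :=
  ⟨hf.1.comp hg.1 hf.2, fun x hx => hg.2 _ (hf.2 x hx)⟩

theorem conj [Q.Normal] (s : P K) : Au F Q fun x => s * x * s⁻¹ :=
  ⟨M_conj F le_top (mem_top s), fun x hx => Normal.conj_mem inferInstance x hx s⟩

theorem exists_inv [Finite K] (hf : Au F Q f) :
    ∃ g, Au F Q g ∧ (∀ x ∈ Q, g (f x) = x) ∧ ∀ y ∈ Q, f (g y) = y :=
  let ⟨g, h₁, _, h₂, h₃, h₄⟩ := hf.1.inv' (hf.1.img_eq_self hf.2)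
  ⟨g, ⟨h₁, h₃⟩, h₂, h₄⟩

theorem of_afn {β : MulAut Q} (hβ : β ∈ F.autGroup Q) : Au F Q (afn β) :=
  ⟨M_afn le_top hβ, fun _ hx => afn_mem β hx⟩

/-- The inverse of a map of `A` into a subgroup `B` that is not larger. -/
theorem mp_inv [Finite K] (hf : Au F Q f) (h : ∀ x ∈ Q, g (f x) = x) {A B : Subgroup (P K)}
    (hA : A ≤ Q) (hc : Nat.card B ≤ Nat.card A) (m : Mp f A B) : Mp g B A := fun y hy => by
  rw [← (hf.1.mono hA).img_eq_of_le le_top m hc, (hf.1.mono hA).mem_img] at hy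
  obtain ⟨x, hx, rfl⟩ := hy
  rwa [h x (hA hx)]

end Au

namespace Ex

/-- The Weyl element. -/
theorem weyl [Finite K] [Q.Normal] {A B U V : Subgroup (P K)} [A.Normal] (hA : A ≤ Q) (hB : B ≤ Q)
    (hU : U ≤ Q) (hc : Nat.card B ≤ Nat.card A)
    (hi : ∀ f, Au F Q f → Mp f U U ∧ Mp f V V) (hT : ∀ g, ∀ x ∈ U, x⁻¹ * (g * x * g⁻¹) ∈ V)
    (hch : ∀ f, Au F Q f → Mp f A A ∨ ∃ s, Mp (fun x => s * f x * s⁻¹) A B) {r b : P K}
    (hb : b ∈ B) (hr : r * b * r⁻¹ ∉ B) (hAB : ¬ B ≤ A) (hf : Au F Q f) (hm : ¬ Mp f A A) :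
    ∃ w, Au F Q w ∧ (∀ x ∈ U, x⁻¹ * w x ∈ V) ∧ Mp w A B ∧ Mp w B A := by
  have tr : ∀ f, Au F Q f → (∀ x ∈ U, x⁻¹ * f x ∈ V) → ∀ s, ∀ x ∈ U, x⁻¹ * (s * f x * s⁻¹) ∈ V :=
    fun f hf h s x hx => by
      simpa [mul_assoc] using mul_mem (h x hx) (hT s _ ((hi f hf).1 x hx))
  obtain ⟨s, h₀⟩ := (hch f hf).resolve_left hm
  have hδ := hf.comp (Au.conj s)
  generalize (fun x => s * f x * s⁻¹) = δ at h₀ hδ
  obtain ⟨δ', hδ', e₁, e₂⟩ := hδ.exists_inv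
  have hu := (hδ.comp (Au.conj r)).comp hδ'
  have tu : ∀ x ∈ U, x⁻¹ * δ' (r * δ x * r⁻¹) ∈ V := fun x hx => by
    have m := hδ.2 x (hU hx)
    have := (hi _ hδ').2 _ (hT r _ ((hi _ hδ).1 x hx))
    rwa [hδ'.1.map_mul (inv_mem m) (Normal.conj_mem inferInstance _ m r), hδ'.1.map_inv m,
      e₁ x (hU hx)] at this
  obtain ⟨s₁, h₁⟩ := (hch _ hu).resolve_left fun h => hr (by
    have := h₀ _ (h _ (hδ.mp_inv e₁ hA hc h₀ b hb))
    dsimp only at this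
    rwa [e₂ b (hB hb), e₂ _ (Normal.conj_mem inferInstance _ (hB hb) r)] at this)
  obtain ⟨w, hw, tw, h₁⟩ : ∃ w, Au F Q w ∧ (∀ x ∈ U, x⁻¹ * w x ∈ V) ∧ Mp w A B :=
    ⟨_, hu.comp (Au.conj s₁), tr _ hu tu s₁, h₁⟩
  obtain ⟨w', hw', e₃, e₄⟩ := hw.exists_inv
  have m := hw.mp_inv e₃ hA hc h₁
  obtain ⟨s₂, h₂⟩ := (hch _ hw').resolve_left fun h =>
    hAB fun y hy => hw'.isAut.of_mem hA h (hB hy) (m y hy)
  refine ⟨_, hw'.comp (Au.conj s₂), tr _ hw' (fun x hx => ?_) s₂, h₂,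
    fun y hy => Normal.conj_mem inferInstance _ (m y hy) s₂⟩
  simpa [e₄ x (hU hx)] using inv_mem (tw _ ((hi _ hw').1 x hx))

variable (K) in
/-- The chain for `Q₁`. -/
def c1 : ℕ → Subgroup (P K)
  | 0 => ⊥ | 1 => Z K | 2 => V1 K | 3 => U3 K | 4 => U4 K | 5 => J0 K | 6 => D3 K | 7 => Z7 K
  | _ => ⊤

variable (K) in
/-- The chain for `Q₂`. -/
def c2 : ℕ → Subgroup (P K)
  | 0 => ⊥ | 1 => Z K | 2 => V1 K | 3 => U3 K | 4 => U4 K | 5 => V2 K | 6 => D2 K | 7 => D3 K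
  | 8 => Q12 K | _ => ⊤

theorem icj_bot (g : P K) {x : P K} (hx : x ∈ Z K) : x⁻¹ * (g * x * g⁻¹) ∈ (⊥ : Subgroup (P K)) := by
  rw [← comm_Z hx g]; simp

theorem icj_Q12 (g : P K) {x : P K} (hx : x ∈ Q2 K) : x⁻¹ * (g * x * g⁻¹) ∈ Q12 K :=
  ⟨(icj_S_S g x).1, mul_mem (inv_mem hx) (Normal.conj_mem inferInstance x hx g)⟩

theorem mp_bot (hf : Au F Q f) : Mp f ⊥ ⊥ := fun x hx => by
  rw [mem_bot.1 hx, hf.1.map_one]; exact one_mem _

theorem card_Zm [Finite K] : Nat.card (Zm K) ≤ Nat.card (Z K) :=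
  Nat.card_le_card_of_injective (fun x => ⟨rz4 x.1.z6, rz4_mem _⟩) fun x y h => Subtype.ext <| by
    rw [eq_rz6 x.2, eq_rz6 y.2, show x.1.z6 = y.1.z6 from congrArg (fun z => z.1.z4) h]

theorem card_Vm [Finite K] : Nat.card (Vm K) ≤ Nat.card (V1 K) :=
  Nat.card_le_card_of_injective
    (fun x => ⟨⟨0, 0, 0, 0, 0, x.1.z4, 0, 0, x.1.z2, 0, 0, 0⟩, by simp [mem_V1]⟩)
    fun x y h => Subtype.ext <| by
      obtain ⟨a1, a2, a3, a4, a5, a6, a7, a8, a9, a10⟩ := x.2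
      obtain ⟨b1, b2, b3, b4, b5, b6, b7, b8, b9, b10⟩ := y.2
      have h₁ : x.1.z4 = y.1.z4 := congrArg (fun z => z.1.z4) h
      have h₂ : x.1.z2 = y.1.z2 := congrArg (fun z => z.1.z6) h
      ext <;> simp only [*]

end Ex

open Ex in
theorem ext (h1 : Ch1Stmt) (h2 : Ch2Stmt) : ExtStmt := by
  intro K _ _ _ F hF
  refine ⟨⟨fun f hf h => ?_, fun f hf h => ?_⟩, ⟨fun hE => ?_, fun hE => ?_⟩,
    fun ⟨f, hf, hm⟩ => ?_, fun ⟨f, hf, hm⟩ => ?_⟩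
  · obtain ⟨⟨v₁, u₃, -, -⟩, h', -⟩ := h1 hf.isAut
    obtain ⟨u₄, j, d, z⟩ := h' h
    refine U5.ext_of_chain (pg_top K) hF le_top (normalizer_eq_top _).ge (c1 K) 8
      (fun i hi => ?_) le_top rfl (fun g _ i hi x hx hx' => ?_) hf.1 hf.2 fun i hi x _ hx => ?_
    · interval_cases i
      exacts [bot_le, Z_le_V1, V1_le_U3, U3_le_U4, U4_le_J0, J0_le_D3, D3_le_Z7, le_top]
    · interval_cases i
      exacts [icj_bot g hx', icj_S_V1 g hx', icj_S_U3 g hx', icj_S_U4 g hx', icj_S_J0 g hx',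
        icj_S_D3 g hx', icj_S_Z7 g hx', icj_S_S g x]
    · interval_cases i
      exacts [mp_bot hf x hx, h x hx, v₁ x hx, u₃ x hx, u₄ x hx, j x hx, d x hx, z x hx, trivial]
  · obtain ⟨⟨z, v₂, -⟩, h', -⟩ := h2 hf.isAut
    obtain ⟨u₃, u₄, d₂, d₃, q⟩ := h' h
    refine U5.ext_of_chain (pg_top K) hF le_top (normalizer_eq_top _).ge (c2 K) 9
      (fun i hi => ?_) le_top rfl (fun g _ i hi x hx hx' => ?_) hf.1 hf.2 fun i hi x _ hx => ?_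
    · interval_cases i
      exacts [bot_le, Z_le_V1, V1_le_U3, U3_le_U4, U4_le_V2, V2_le_J0.trans J0_le_D2, D2_le_D3,
        D3_le_Q12, le_top]
    · interval_cases i
      exacts [icj_bot g hx', icj_S_V1 g hx', icj_S_U3 g hx', icj_S_U4 g hx',
        icj_S_J0 g (V2_le_J0 hx'), icj_S_D2 g hx', J0_le_D2 (icj_S_D3 g hx'),
        icj_S_Z7 g (Q12_le_Z7 hx'), icj_Q12 g hx]
    · interval_cases i
      exacts [mp_bot hf x hx, z x hx, h x hx, u₃ x hx, u₄ x hx, v₂ x hx, d₂ x hx, d₃ x hx, q x hx,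
        trivial]
  · by_contra hc
    have h : ∀ f, Au F (Q1 K) f → Mp f (Z K) (Z K) := fun f hf => by_contra fun h => hc ⟨f, hf, h⟩
    have := chain (pg_top K) hF hE le_rfl le_normalizer_of_normal
      [Z7 K, D3 K, J0 K, U4 K, U3 K, V1 K, Z K] (fun D hD β hβ x _ hx => by
        have hf := Au.of_afn hβ
        obtain ⟨⟨v₁, u₃, -, -⟩, h', -⟩ := h1 hf.isAut
        obtain ⟨u₄, j, d, z⟩ := h' (h _ hf)
        simp only [List.mem_cons, List.not_mem_nil, or_false] at hD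
        rcases hD with rfl | rfl | rfl | rfl | rfl | rfl | rfl
        exacts [z x hx, d x hx, j x hx, u₄ x hx, u₃ x hx, v₁ x hx, h _ hf x hx])
      ⟨fun g _ x _ _ => icj_S_S g x, fun g _ x _ => icj_S_Z7 g, fun g _ x _ => icj_S_D3 g,
        fun g _ x _ => icj_S_J0 g, fun g _ x _ => icj_S_U4 g, fun g _ x _ => icj_S_U3 g,
        fun g _ x _ => icj_S_V1 g, fun g _ x _ hx => (comm_Z hx g).symm⟩
    exact one_ne_zero (mem_Q1.1 (this (mem_top (rx1 1))))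
  · by_contra hc
    have h : ∀ f, Au F (Q2 K) f → Mp f (V1 K) (V1 K) := fun f hf =>
      by_contra fun h => hc ⟨f, hf, h⟩
    have := chain (pg_top K) hF hE le_rfl le_normalizer_of_normal
      [Q12 K, D3 K, D2 K, V2 K, U4 K, U3 K, V1 K, Z K] (fun D hD β hβ x _ hx => by
        have hf := Au.of_afn hβ
        obtain ⟨⟨z, v₂, -⟩, h', -⟩ := h2 hf.isAut
        obtain ⟨u₃, u₄, d₂, d₃, q⟩ := h' (h _ hf)
        simp only [List.mem_cons, List.not_mem_nil, or_false] at hD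
        rcases hD with rfl | rfl | rfl | rfl | rfl | rfl | rfl | rfl
        exacts [q x hx, d₃ x hx, d₂ x hx, v₂ x hx, u₄ x hx, u₃ x hx, h _ hf x hx, z x hx])
      ⟨fun g _ x hx _ => icj_Q12 g hx, fun g _ x _ hx => icj_S_Z7 g (Q12_le_Z7 hx),
        fun g _ x _ hx => J0_le_D2 (icj_S_D3 g hx), fun g _ x _ => icj_S_D2 g,
        fun g _ x _ hx => icj_S_J0 g (V2_le_J0 hx), fun g _ x _ => icj_S_U4 g,
        fun g _ x _ => icj_S_U3 g, fun g _ x _ => icj_S_V1 g, fun g _ x _ hx => (comm_Z hx g).symm⟩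
    exact one_ne_zero (mem_Q2.1 (this (mem_top (ry8 1)))).1
  · obtain ⟨w, h⟩ := weyl (r := rx1 1) Z_le_Q1 Zm_le_Q1 U3_le_Q1 card_Zm
      (fun f hf => ⟨(h1 hf.isAut).1.2.1, (h1 hf.isAut).1.1⟩) (fun g x => icj_S_U3 g)
      (fun f hf => (h1 hf.isAut).2.2.imp id fun ⟨t, h⟩ => ⟨_, h⟩) (rz6_mem 1) (by simp [mem_Zm])
      (fun h => by simpa [mem_Z] using h (rz6_mem 1)) hf hm
    exact ⟨w, h⟩
  · have m : rz2 (1 : K) ∈ Vm K := by simp [mem_Vm]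
    obtain ⟨w, h₁, h₂, h₃⟩ := weyl (r := rz8 1) V1_le_Q2 Vm_le_Q2 Z_le_Q2 card_Vm
      (fun f hf => ⟨(h2 hf.isAut).1.1, mp_bot hf⟩) (fun g x => icj_bot g)
      (fun f hf => (h2 hf.isAut).2.2) m (by simp [mem_Vm])
      (fun h => by simpa [mem_V1] using h m) hf hm
    exact ⟨w, h₁, fun x hx => (inv_mul_eq_one.1 (h₂ x hx)).symm, h₃⟩

end Cfsg.Agent.F4
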