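import Cfsg.Agent.Lib.F4.Nrm
import Cfsg.Agent.Lib.U5.Final

/-!
Assembly: every saturated system on a Sylow `2`-subgroup of `²F₄(q)` is realizable.
-/

set_option autoImplicit false
set_option linter.unusedSectionVars false

namespace Cfsg.Agent.F4

open Cfsg.Agent.Fus Cfsg.Agent.Fus2 Subgroup

universe u v

variable {K : Type} [Field K] [Finite K] [Rf K]

namespace Fn

open Nr (dg_mul dg_one dg_inv)

theorem dg_eq_one {l m : Kˣ} {φ : K ≃+* K} (ha : ∀ a : K, l * φ a = a) (hb : (m : K) = 1) :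
    dg l m φ = 1 := by
  have hl : (l : K) = 1 := by simpa using ha 1
  have hφ : ∀ a, φ a = a := fun a => by simpa [hl] using ha a
  ext x <;> simp [hl, hb, hφ]

/-- The diagonal-field automorphisms in `F`. -/
def HF (F : FusionSystem (⊤ : Subgroup (P K))) : Subgroup (MulAut (P K)) where
  carrier := {h | (∃ l m φ, h = dg l m φ) ∧ M F ⊤ h}
  one_mem' := ⟨⟨1, 1, _, dg_one.symm⟩, M_id F le_rfl⟩
  mul_mem' := by
    rintro _ _ ⟨⟨l, m, φ, rfl⟩, h⟩ ⟨⟨l', m', φ', rfl⟩, h'⟩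
    exact ⟨⟨_, _, _, dg_mul ..⟩, h'.comp h fun _ _ => trivial⟩
  inv_mem' := by
    rintro _ ⟨⟨l, m, φ, rfl⟩, h⟩
    refine ⟨⟨_, _, _, dg_inv ..⟩, ?_⟩
    obtain ⟨g, hg, -, e, -⟩ := h.inv' (h.img_eq_self fun _ _ => trivial)
    exact hg.congr fun x _ => by simpa using e ((dg l m φ)⁻¹ x) trivial

variable {F F' : FusionSystem (⊤ : Subgroup (P K))}

theorem not_dvd_HF (hF : F.IsSaturated 2) : ¬ 2 ∣ Nat.card (HF F) := fun hd => by
  have : Finite (MulAut (P K)) := Finite.of_injective (fun α : MulAut (P K) => (α : P K → P K))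
    DFunLike.coe_injective
  obtain ⟨⟨_, ⟨l, m, φ, rfl⟩, h⟩, ho⟩ := exists_prime_orderOf_dvd_card' 2 hd
  rw [← orderOf_coe] at ho
  let c := MulAut.congr (topEquiv (G := P K)).symm
  have hα : c (dg l m φ) ∈ F.autGroup ⊤ := h.mem_autGroup fun x hx => by
    rw [afn_apply _ hx]; rfl
  have hT := sat_sylow_top (pg_top K) hF
  have hz : IsPGroup 2 (zpowers (c (dg l m φ))) := IsPGroup.of_card (n := 1) (by
    rw [Nat.card_zpowers, MulEquiv.orderOf_eq, pow_one]; exact ho)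
  have := innNormal (⊤ : Subgroup (P K))
  obtain ⟨g, hg⟩ := (hT.eq_of_le (hT.isPGroup.to_sup_of_normal_left hz) le_sup_left
    (sup_le hT.le (zpowers_le.2 hα))).le (mem_sup_right (mem_zpowers _))
  have e : ∀ y, dg l m φ y = g * y * (g : P K)⁻¹ := fun y => by
    have := congrArg Subtype.val (DFunLike.congr_fun hg ⟨y, mem_top y⟩)
    exact this.symm
  have h1 : dg l m φ = 1 := dg_eq_one (fun a => by
    have := congrArg P.x1 (e (rx1 a))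
    simp at this
    grind) (by
    have := congrArg P.y8 (e (ry8 1))
    simp at this
    grind)
  simp only [h1, orderOf_one] at ho
  exact absurd ho (by decide)

theorem le_of_aut (hA : EssAStmt) (hB : EssBStmt) (hC : EssCStmt) (hF : F.IsSaturated 2)
    (h : ∀ f, M F ⊤ f → M F' ⊤ f) (c₁ : ∀ f, Au F (Q1 K) f → M F' (Q1 K) f)
    (c₂ : ∀ f, Au F (Q2 K) f → M F' (Q2 K) f) : F ≤ F' := by
  refine alperin_le (pg_top K) hF ?_
  rintro E (rfl | hE)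
  · exact fun α hα => (h _ (M_afn le_rfl hα)).mem_autGroup fun _ _ => rfl
  rcases hC hF hE (hB hF hE (hA hF hE)) with rfl | rfl
  · exact fun α hα => (c₁ _ ⟨M_afn le_top hα, fun _ => afn_mem α⟩).mem_autGroup fun _ _ => rfl
  · exact fun α hα => (c₂ _ ⟨M_afn le_top hα, fun _ => afn_mem α⟩).mem_autGroup fun _ _ => rfl

/-- The Bruhat decomposition of an automizer. -/
theorem bruhat {Q A B : Subgroup (P K)} [hQ : Q.Normal] (h : ∀ f, M F ⊤ f → M F' ⊤ f)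
    (hx : ∀ f, Au F Q f → Mp f A A → ∃ g, M F ⊤ g ∧ ∀ x ∈ Q, g x = f x) {w : P K → P K}
    (hw : Au F Q w) (hw' : M F' Q w) (hB : Mp w B A) {f : P K → P K} (hf : Au F Q f)
    (hc : Mp f A A ∨ ∃ s, Mp (fun x => s * f x * s⁻¹) A B) : M F' Q f := by
  have key : ∀ f, Au F Q f → Mp f A A → M F' Q f := fun f hf hm => by
    obtain ⟨g, hg, e⟩ := hx f hf hm
    exact ((h g hg).mono le_top).congr e
  refine hc.elim (key f hf) fun ⟨s, hs⟩ => ?_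
  have hj : ∀ x ∈ Q, s * f x * s⁻¹ ∈ Q := fun x hx => hQ.conj_mem _ (hf.2 x hx) s
  have h₁ := key (fun x => w (s * f x * s⁻¹)) ⟨(hf.1.comp (M_conj F le_top (mem_top s))
    hf.2).comp hw.1 hj, fun x hx => hw.2 _ (hj x hx)⟩ fun x hx => hB _ (hs x hx)
  obtain ⟨v, hv, -, e, hv', -⟩ := hw'.inv' (hw'.img_eq_self hw.2)
  refine ((h₁.comp hv fun x hx => hw.2 _ (hj x hx)).comp (M_conj F' le_top (mem_top s⁻¹))
    fun x hx => hv' _ (hw.2 _ (hj x hx))).congr fun x hx => ?_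
  rw [e _ (hj x hx)]
  group

theorem isAut {Q : Subgroup (P K)} {f : P K → P K} (hf : Au F Q f) : IsAut Q f :=
  ⟨hf.1.homOn, fun x hx y hy => hf.1.inj x hx y hy, hf.2⟩

theorem le_two (hA : EssAStmt) (hB : EssBStmt) (hC : EssCStmt) (h₁ : Ch1Stmt) (h₂ : Ch2Stmt)
    (hX : ExtStmt) (hF : F.IsSaturated 2) (h : ∀ f, M F ⊤ f → M F' ⊤ f) {w₁ w₂ : P K → P K}
    (a₁ : Au F (Q1 K) w₁) (b₁ : M F' (Q1 K) w₁) (c₁ : Mp w₁ (Zm K) (Z K)) (a₂ : Au F (Q2 K) w₂)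
    (b₂ : M F' (Q2 K) w₂) (c₂ : Mp w₂ (Vm K) (V1 K)) : F ≤ F' :=
  le_of_aut hA hB hC hF h (fun _ hf => bruhat h (hX hF).1.1 a₁ b₁ c₁ hf
    ((h₁ (isAut hf)).2.2.imp id fun ⟨_, ht⟩ => ⟨_, ht⟩))
    fun _ hf => bruhat h (hX hF).1.2 a₂ b₂ c₂ hf (h₂ (isAut hf)).2.2

theorem mp_inv {θ : MulAut (P K)} {Q : Subgroup (P K)} (h : Mp θ Q Q) : Mp ⇑θ⁻¹ Q Q := fun x hx => by
  obtain ⟨y, hy⟩ := Finite.surjective_of_injective (f := fun y : Q => (⟨_, h y y.2⟩ : Q))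
    (fun y y' e => Subtype.ext (θ.injective (congrArg Subtype.val e))) ⟨x, hx⟩
  rw [← show θ y = x from congrArg Subtype.val hy, MulAut.inv_apply_self]
  exact y.2

theorem gIso (θ : MulAut (P K)) : GIso (⊤ : Subgroup (P K)) ⊤ θ θ.symm :=
  ⟨homOn_hom ⊤ θ.toMonoidHom, fun _ _ => trivial, fun _ _ => trivial,
    fun x _ => θ.symm_apply_apply x, fun x _ => θ.apply_symm_apply x⟩

theorem real_two (hA : EssAStmt) (hB : EssBStmt) (hC : EssCStmt) (h₁ : Ch1Stmt) (h₂ : Ch2Stmt)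
    (hX : ExtStmt) (hT : TwoStmt) (hK : ∀ μ : K, μ = 0 ∨ μ = 1) (hF : F.IsSaturated 2)
    (hF' : F'.IsSaturated 2) (hN : NF F) (hN' : NF F') (m₁ : Mv1 F) (m₂ : Mv2 F) (m₁' : Mv1 F')
    (m₂' : Mv2 F') (hr : F'.IsRealizable 2) : F.IsRealizable 2 := by
  obtain ⟨a₁, a₂, H⟩ := hT hK
  obtain ⟨θ, w₁, w₂, s₁, s₂, p₁, p₂, e₁, e₂⟩ := H hF hN m₁ m₂
  obtain ⟨θ', w₁', w₂', s₁', s₂', p₁', p₂', e₁', e₂'⟩ := H hF' hN' m₁' m₂'
  obtain ⟨E, hE⟩ := (gIso (θ'⁻¹ * θ)).exists_isoM F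
  have hE' := hE.saturated (pg_top K) hF
  have dg1 : ∀ l m φ, dg l m φ = (1 : MulAut (P K)) := fun l m φ => dg_eq_one (fun a => by
    rw [(hK l).resolve_left l.ne_zero]
    rcases hK a with rfl | rfl <;> simp) ((hK m).resolve_left m.ne_zero)
  have tr : ∀ {Q : Subgroup (P K)} {w w' a : P K → P K}, Au F Q w → Mp θ Q Q → Mp θ' Q Q →
      (∀ x ∈ Q, θ (w x) = a (θ x)) → (∀ x ∈ Q, θ' (w' x) = a (θ' x)) → M E Q w' := by
    intro Q w w' a hw p p' e e'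
    have hψ : Mp ⇑(θ'⁻¹ * θ) Q Q := fun x hx => mp_inv p' _ (p x hx)
    have hi : img Q ⇑(θ'⁻¹ * θ) = Q := le_antisymm
      (fun y hy => by
        obtain ⟨x, hx, rfl⟩ := ((gIso _).hom.mono le_top).mem_img.1 hy
        exact hψ x hx)
      fun y hy => ((gIso _).mem_img le_top).2 ⟨trivial, mp_inv hψ y hy⟩
    refine hi ▸ hE.M_of hw.1 fun x hx => θ'.injective ?_
    rw [e' _ (hψ x hx)]
    simp [e x hx]
  have t₁ := tr s₁.1 p₁ p₁' e₁ e₁'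
  have t₂ := tr s₂.1 p₂ p₂' e₂ e₂'
  obtain rfl : E = F' := fs_le_antisymm
    (le_two hA hB hC h₁ h₂ hX hE' (fun f hf => by
      have := hE.pull _ f hf
      rw [(gIso _).symm.img_top] at this
      obtain ⟨x, l, m, φ, e⟩ := hN _ this
      refine (M_conj F' le_rfl (mem_top ((θ'⁻¹ * θ) x))).congr fun y _ => (θ'⁻¹ * θ).symm.injective ?_
      have := e ((θ'⁻¹ * θ).symm y)
      rw [dg1, MulEquiv.apply_symm_apply] at this
      rw [this, map_mul, map_mul, map_inv, MulEquiv.symm_apply_apply]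
      rfl) ⟨t₁, s₁'.1.2⟩ s₁'.1.1 s₁'.2.2.2 ⟨t₂, s₂'.1.2⟩ s₂'.1.1 s₂'.2.2.2)
    (le_two hA hB hC h₁ h₂ hX hF' (fun f hf => by
      obtain ⟨x, l, m, φ, e⟩ := hN' f hf
      exact (M_conj E le_rfl (mem_top x)).congr fun y _ => by rw [e, dg1]; rfl)
      s₁'.1 t₁ s₁'.2.2.2 s₂'.1 t₂ s₂'.2.2.2)
  exact U5.real_of_isoM hE hr

theorem real_NF (hA : EssAStmt) (hB : EssBStmt) (hC : EssCStmt) (h₁ : Ch1Stmt) (h₂ : Ch2Stmt)
    (hX : ExtStmt) (hT : TorStmt) (hP : CmpStmt) (hW : TwoStmt) (hM : ModelStmt)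
    (hF : F.IsSaturated 2) (hN : NF F) : F.IsRealizable 2 := by
  by_contra hex
  obtain ⟨q₁, q₂⟩ : F.IsEssential 2 (Q1 K) ∧ F.IsEssential 2 (Q2 K) := by
    obtain ⟨E₁, E₂, e₁, e₂, hne⟩ := SP4.two_ess (pg_top K) hF hex
    rcases hC hF e₁ (hB hF e₁ (hA hF e₁)) with rfl | rfl <;>
      rcases hC hF e₂ (hB hF e₂ (hA hF e₂)) with rfl | rfl
    exacts [absurd rfl hne, ⟨e₁, e₂⟩, ⟨e₂, e₁⟩, absurd rfl hne]
  have m₁ := (hX hF).2.1.1 q₁
  have m₂ := (hX hF).2.1.2 q₂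
  have ht := hT hF hN q₁ q₂
  obtain ⟨G, _, _, ι, hι, ⟨T, hT⟩, hn, hH, ⟨g₁, hg₁, z₁⟩, g₂, hg₂, z₂⟩ := hM (HF F)
    (fun h hh => hh.1) (not_dvd_HF hF) fun l m => ⟨⟨_, _, _, rfl⟩, ht l m⟩
  obtain ⟨b, hb⟩ := exists_gIso (homOn_hom ⊤ ι) (fun _ _ _ _ e => hι e) (S' := T)
    (by rw [img_hom, hT, MonoidHom.range_eq_map])
  obtain ⟨E, hE⟩ := hb.symm.exists_isoM (groupFusionSystem (T : Subgroup G))
  have hI := hE.symm
  have hE' : E.IsSaturated 2 := hE.saturated T.isPGroup' (group_isSaturated T)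
  have key : ∀ Q f, M E Q f ↔ ∃ g, ∀ x ∈ Q, ι (f x) = g * ι x * g⁻¹ := fun Q f => by
    rw [Asch.M_iff_of_realized hI.isRealizedBy.1]
    simp only [le_top, mem_top, implies_true, true_and, hI.hom.fn_toHom (mem_top _)]
  have hM : ∀ f, M F ⊤ f ↔ M E ⊤ f := fun f => by
    rw [key]
    constructor
    · intro hf
      obtain ⟨x, l, m, φ, e⟩ := hN f hf
      obtain ⟨g, hg⟩ := hH (dg l m φ) ⟨⟨_, _, _, rfl⟩,
        (hf.comp (M_conj F le_rfl (mem_top x⁻¹)) fun _ _ => trivial).congr fun y _ => by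
          simp [e, mul_assoc]⟩
      exact ⟨ι x * g, fun y _ => by rw [e, map_mul, map_mul, ← hg, map_inv]; group⟩
    · rintro ⟨g, hg⟩
      obtain ⟨x, h, hh, e⟩ := hn g fun y => ⟨f y, (hg y trivial).symm⟩
      exact (hh.2.comp (M_conj F le_rfl (mem_top x)) fun _ _ => trivial).congr fun y _ =>
        hι (by rw [hg y trivial, e])
  choose! w₁ hw₁ ew₁ using hg₁
  choose! w₂ hw₂ ew₂ using hg₂
  have n₁ : Mv1 E := ⟨w₁, ⟨(key _ _).2 ⟨g₁, fun x hx => (ew₁ x hx).symm⟩, hw₁⟩, fun h => by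
    have := h _ (rz4_mem 1)
    rw [← hι (z₁.symm.trans (ew₁ _ rfl))] at this
    simp [mem_Z] at this⟩
  have n₂ : Mv2 E := ⟨w₂, ⟨(key _ _).2 ⟨g₂, fun x hx => (ew₂ x hx).symm⟩, hw₂⟩, fun h => by
    have := h (rz6 1) (by simp [mem_V1])
    rw [← hι (z₂.symm.trans (ew₂ _ ⟨rfl, rfl⟩))] at this
    simp [mem_V1] at this⟩
  have hN' : NF E := fun f hf => hN f ((hM f).2 hf)
  have hr : E.IsRealizable 2 :=
    ⟨G, _, inferInstance, _, hI.isRealizedBy.1, T, hI.isRealizedBy.2.symm⟩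
  by_cases hq : ∃ μ : K, μ ≠ 0 ∧ μ ≠ 1
  · obtain ⟨c₁, c₂⟩ := hP hq hF hE' hN ht hM m₁ m₂ n₁ n₂
    obtain ⟨d₁, d₂⟩ := hP hq hE' hF hN' (fun l m => (hM _).1 (ht l m)) (fun f => (hM f).symm)
      n₁ n₂ m₁ m₂
    obtain rfl : F = E := fs_le_antisymm (le_of_aut hA hB hC hF (fun f => (hM f).1) c₁ c₂)
      (le_of_aut hA hB hC hE' (fun f => (hM f).2) d₁ d₂)
    exact hex hr
  · exact hex (real_two hA hB hC h₁ h₂ hX hW (fun μ => by by_contra h; exact hq ⟨μ, not_or.1 h⟩)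
      hF hE' hN hN' m₁ m₂ n₁ n₂ hr)

end Fn

theorem s5262_of (hA : EssAStmt) (hB : EssBStmt) (hC : EssCStmt) (h₁ : Ch1Stmt) (h₂ : Ch2Stmt)
    (hX : ExtStmt) (hN : NrmStmt) (hT : TorStmt) (hP : CmpStmt) (hW : TwoStmt) (hM : ModelStmt)
    (hY : SylStmt.{v}) {Ω : Type u} [Group Ω] {S : Subgroup Ω} [Finite S] (hS : IsPGroup 2 S)
    (F : FusionSystem S) (hF : F.IsSaturated 2) {K : Type v} [Field K] [Fintype K] (m : ℕ)
    (hK : Fintype.card K = 2 ^ (2 * m + 1)) (T : Sylow 2 (Lie.twistedF4 K (2 ^ m)))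
    (e : S ≃* (T : Subgroup (Lie.twistedF4 K (2 ^ m)))) : F.IsRealizable 2 := by
  obtain ⟨K₀, _, _, _, ⟨e'⟩⟩ := hY m hK T
  let ι : S →* P K₀ := (e.trans e').toMonoidHom
  obtain ⟨b, hb⟩ := exists_gIso (homOn_fn ι) (fn_inj (e.trans e').injective) (S' := ⊤)
    ((img_fn ι).trans (MonoidHom.range_eq_top.2 (e.trans e').surjective))
  obtain ⟨E, hE⟩ := hb.exists_isoM F
  have hE' := hE.saturated hS hF
  obtain ⟨θ, hθ⟩ := hN hE'
  obtain ⟨D, hD⟩ := (Fn.gIso θ).exists_isoM E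
  refine U5.real_of_isoM hE (U5.real_of_isoM hD (Fn.real_NF hA hB hC h₁ h₂ hX hT hP hW hM
    (hD.saturated (pg_top K₀) hE') fun f hf => ?_))
  have := hD.pull _ f hf
  rw [(Fn.gIso θ).symm.img_top] at this
  simpa using hθ _ this

end Cfsg.Agent.F4
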