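import Cfsg.Agent.Lib.U5.Ext

/-!
The Sylow 2-subgroup of `²F₄(q)` in coordinates (docs/F4_PLAN.md).
-/

set_option autoImplicit false
set_option linter.unusedSectionVars false

namespace Cfsg.Agent.F4

/-- A field of characteristic two with a square root `σ` of the Frobenius map. -/
class Rf (K : Type) [Field K] extends CharP K 2 where
  s : K →+* K
  s_s : ∀ x, s (s x) = x ^ 2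
  e : ℕ
  s_eq : ∀ x, s x = x ^ e

@[inherit_doc Rf] scoped notation "σ" => Rf.s

/-- Coordinates of `x₁ (y₂ z₂) x₃ (y₄ z₄) x₅ (y₆ z₆) x₇ (y₈ z₈)`. -/
@[ext] structure P (K : Type) where
  x1 : K
  y2 : K
  z2 : K
  x3 : K
  y4 : K
  z4 : K
  x5 : K
  y6 : K
  z6 : K
  x7 : K
  y8 : K
  z8 : K

namespace P

variable {K : Type} [Field K] [Rf K]

/-- The product law. -/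
def mul (g h : P K) : P K :=
  { x1 := g.x1 + h.x1
    y2 := g.y2 + h.y2 + g.y8 * h.x1
    z2 := g.z2 + h.z2 + g.y2 * σ h.y2 + g.y4 * h.x1 + g.y6 * σ h.x1 + g.y2 * σ g.y8 * σ h.x1 +
      g.y8 * h.x1 * σ h.y2 + g.z8 * h.x1 * σ h.x1
    x3 := g.x3 + h.x3 + g.y4 * h.y2 + σ g.y6 * h.x1 + g.x7 * σ h.x1 + g.y8 * h.z2 +
      g.y4 * g.y8 * h.x1 + g.y8 * h.y2 * σ h.y2 + g.z8 * σ h.x1 * h.y2 +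
      σ g.z8 * h.x1 * σ h.x1 + g.y8 * g.z8 * h.x1 * σ h.x1 +
      g.y8 ^ 2 * σ g.y8 * h.x1 * σ h.x1
    y4 := g.y4 + h.y4 + g.y8 * σ h.y2 + g.z8 * σ h.x1
    z4 := g.z4 + h.z4 + g.y4 * σ h.y4 + g.x5 * h.y2 + g.y6 * h.x3 + g.z6 * h.x1 + g.x7 * h.z2 +
      g.y8 * σ h.x3 + g.z8 * σ h.z2 + g.x5 * g.y8 * h.x1 + g.y6 * g.x7 * σ h.x1 +
      g.y6 * g.y8 * h.z2 + g.x7 * h.y2 * σ h.y2 + σ g.x7 * h.x1 * h.y2 +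
      g.y8 * σ h.y2 * σ h.y4 + σ g.y8 * h.y2 * h.x3 + g.z8 * h.x1 * h.x3 +
      g.z8 * σ h.x1 * σ h.y4 + g.z8 * h.y2 * h.z2 + σ g.z8 * h.x1 * h.z2 +
      g.y4 * σ g.y8 * h.y2 ^ 2 + g.y4 * σ g.z8 * h.x1 ^ 2 + g.y6 * g.y8 * h.y2 * σ h.y2 +
      g.y6 * g.z8 * σ h.x1 * h.y2 + g.y6 * σ g.z8 * h.x1 * σ h.x1 +
      g.x7 * σ g.y8 * σ h.x1 * h.y2 + g.x7 * g.z8 * h.x1 * σ h.x1 +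
      σ g.x7 * g.y8 * h.x1 ^ 2 + g.y8 * σ g.y8 * h.x1 * h.x3 + g.y8 * σ g.y8 * h.y2 * h.z2 +
      g.z8 * h.y2 ^ 2 * σ h.y2 + σ g.z8 * h.x1 * h.y2 * σ h.y2 +
      g.y6 * g.y8 * g.z8 * h.x1 * σ h.x1 + g.x7 * g.y8 * σ g.y8 * h.x1 * σ h.x1 +
      g.y8 * σ g.y8 * h.y2 ^ 2 * σ h.y2 + σ g.y8 * g.z8 * σ h.x1 * h.y2 ^ 2 +
      σ g.y8 * σ g.z8 * h.x1 * σ h.x1 * h.y2 + g.z8 ^ 2 * h.x1 * σ h.x1 * h.y2 +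
      g.z8 * σ g.z8 * h.x1 ^ 2 * σ h.x1 + g.y6 * g.y8 ^ 2 * σ g.y8 * h.x1 * σ h.x1 +
      g.y8 * σ g.y8 * σ g.z8 * h.x1 ^ 2 * σ h.x1 + g.y8 * g.z8 ^ 2 * h.x1 ^ 2 * σ h.x1 +
      g.y8 ^ 2 * σ g.y8 ^ 2 * h.x1 * σ h.x1 * h.y2 +
      g.y8 ^ 3 * σ g.y8 ^ 2 * h.x1 ^ 2 * σ h.x1
    x5 := g.x5 + h.x5 + g.y6 * h.y4 + g.x7 * σ h.y2 + σ g.x7 * h.x1 + σ g.y8 * h.x3 +
      g.z8 * h.z2 + g.y6 * g.y8 * σ h.y2 + g.y6 * g.z8 * σ h.x1 + g.x7 * σ g.y8 * σ h.x1 +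
      g.y8 * σ g.y8 * h.z2 + σ g.y8 * h.y2 * h.y4 + g.z8 * h.x1 * h.y4 +
      σ g.z8 * h.x1 * σ h.y2 + g.y8 * σ g.y8 * h.x1 * h.y4 +
      σ g.y8 * σ g.z8 * h.x1 * σ h.x1 + g.z8 ^ 2 * h.x1 * σ h.x1 +
      g.y8 ^ 2 * σ g.y8 ^ 2 * h.x1 * σ h.x1
    y6 := g.y6 + h.y6 + σ g.y8 * h.y2 + g.z8 * h.x1 + g.y8 * σ g.y8 * h.x1
    z6 := g.z6 + h.z6 + g.y6 * σ h.y6 + g.x7 * h.y4 + σ g.x7 * h.y2 + g.y8 * h.x5 +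
      g.z8 * h.x3 + σ g.z8 * h.z2 + g.y6 * σ g.z8 * σ h.x1 + g.x7 * g.y8 * σ h.y2 +
      g.x7 * g.z8 * σ h.x1 + σ g.x7 * g.y8 * h.x1 + g.y8 * g.z8 * h.z2 +
      σ g.y8 * h.y2 * σ h.y6 + g.z8 * h.x1 * σ h.y6 + g.z8 * h.y2 * h.y4 +
      σ g.z8 * h.x1 * h.y4 + σ g.z8 * h.y2 * σ h.y2 + g.y6 * g.y8 ^ 2 * σ h.y2 +
      g.y8 ^ 2 * σ g.y8 * h.z2 + g.y8 * σ g.y8 * h.x1 * σ h.y6 + g.y8 * g.z8 * h.x1 * h.y4 +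
      g.y8 * σ g.z8 * h.x1 * σ h.y2 + σ g.y8 * σ g.z8 * σ h.x1 * h.y2 +
      g.z8 ^ 2 * σ h.x1 * h.y2 + g.y6 * g.y8 ^ 2 * σ g.y8 * σ h.x1 +
      g.y8 ^ 2 * σ g.y8 * h.x1 * h.y4 + g.y8 * σ g.y8 * σ g.z8 * h.x1 * σ h.x1 +
      g.y8 * g.z8 ^ 2 * h.x1 * σ h.x1 + g.y8 ^ 2 * σ g.y8 ^ 2 * σ h.x1 * h.y2 +
      g.y8 ^ 3 * σ g.y8 ^ 2 * h.x1 * σ h.x1
    x7 := g.x7 + h.x7 + g.y8 * h.y6 + g.z8 * h.y2 + σ g.z8 * h.x1 + g.y8 * g.z8 * h.x1 +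
      g.y8 ^ 2 * σ g.y8 * h.x1
    y8 := g.y8 + h.y8
    z8 := g.z8 + h.z8 + g.y8 * σ h.y8 }

instance : Mul (P K) := ⟨mul⟩

instance : One (P K) := ⟨⟨0, 0, 0, 0, 0, 0, 0, 0, 0, 0, 0, 0⟩⟩

/-- The inverse. -/
def inv (g : P K) : P K :=
  { x1 := g.x1
    y2 := g.y2 + g.x1 * g.y8
    z2 := g.z2 + g.x1 * g.y4 + σ g.x1 * g.y6 + g.y2 * σ g.y2 + g.x1 * σ g.x1 * g.z8 +
      g.x1 * σ g.y2 * g.y8 + g.x1 * σ g.x1 * g.y8 * σ g.y8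
    x3 := g.x3 + g.x1 * σ g.y6 + σ g.x1 * g.x7 + g.y2 * g.y4 + g.z2 * g.y8 +
      g.x1 * σ g.x1 * σ g.z8 + g.x1 * g.y4 * g.y8 + σ g.x1 * g.y2 * g.z8 +
      σ g.x1 * g.y6 * g.y8 + g.x1 * σ g.x1 * g.y8 * g.z8 + σ g.x1 * g.y2 * g.y8 * σ g.y8 +
      g.x1 * σ g.x1 * g.y8 ^ 2 * σ g.y8
    y4 := g.y4 + σ g.x1 * g.z8 + σ g.y2 * g.y8 + σ g.x1 * g.y8 * σ g.y8
    z4 := g.z4 + g.x1 * g.z6 + g.y2 * g.x5 + g.z2 * g.x7 + σ g.z2 * g.z8 + g.x3 * g.y6 +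
      σ g.x3 * g.y8 + g.y4 * σ g.y4 + g.x1 * g.y2 * σ g.x7 + g.x1 * g.z2 * σ g.z8 +
      g.x1 * g.x3 * g.z8 + g.x1 * g.y4 * g.x7 + g.x1 * g.y6 * σ g.y6 +
      σ g.x1 * g.y6 * g.x7 + g.y2 * g.z2 * g.z8 + g.y2 * g.x3 * σ g.y8 +
      g.y2 * g.y4 * g.y6 + σ g.z2 * g.y8 * σ g.y8 + g.x1 ^ 2 * g.y4 * σ g.z8 +
      g.x1 ^ 2 * σ g.x7 * g.y8 + g.x1 * σ g.x1 * g.y6 * σ g.z8 +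
      g.x1 * σ g.x1 * g.x7 * g.z8 + g.x1 * g.y2 * σ g.y6 * σ g.y8 +
      σ g.x1 * g.y2 * g.y6 * g.z8 + σ g.x1 * g.y2 * g.x7 * σ g.y8 +
      σ g.x1 * g.y6 ^ 2 * g.y8 + g.y2 ^ 2 * σ g.y2 * g.z8 + g.y2 ^ 2 * g.y4 * σ g.y8 +
      g.x1 ^ 2 * σ g.x1 * g.z8 * σ g.z8 + g.x1 ^ 2 * σ g.y6 * g.y8 * σ g.y8 +
      g.x1 * σ g.x1 * g.y2 * σ g.y8 * σ g.z8 + g.x1 * σ g.x1 * g.y2 * g.z8 ^ 2 +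
      g.x1 * g.z2 * g.y8 ^ 2 * σ g.y8 + σ g.x1 * g.y2 ^ 2 * σ g.y8 * g.z8 +
      g.y2 ^ 2 * σ g.y2 * g.y8 * σ g.y8 + g.x1 ^ 2 * σ g.x1 * g.y8 * g.z8 ^ 2 +
      g.x1 ^ 2 * g.y4 * g.y8 ^ 2 * σ g.y8 + g.x1 * σ g.x1 * g.y6 * g.y8 ^ 2 * σ g.y8 +
      σ g.x1 * g.y2 ^ 2 * g.y8 * σ g.y8 ^ 2 + g.x1 ^ 2 * σ g.x1 * g.y8 ^ 2 * σ g.y8 * g.z8 +
      g.x1 * σ g.x1 * g.y2 * g.y8 ^ 2 * σ g.y8 ^ 2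
    x5 := g.x5 + g.x1 * σ g.x7 + σ g.y2 * g.x7 + g.z2 * g.z8 + g.x3 * σ g.y8 + g.y4 * g.y6 +
      g.x1 * σ g.y2 * σ g.z8 + g.x1 * σ g.y6 * σ g.y8 + σ g.x1 * g.y6 * g.z8 +
      σ g.x1 * g.x7 * σ g.y8 + g.y2 * σ g.y2 * g.z8 + g.x1 * σ g.x1 * σ g.y8 * σ g.z8 +
      g.x1 * σ g.x1 * g.z8 ^ 2 + g.x1 * σ g.y2 * g.y8 ^ 2 * σ g.y8 +
      g.x1 * σ g.x1 * g.y8 ^ 2 * σ g.y8 ^ 2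
    y6 := g.y6 + g.x1 * g.z8 + g.y2 * σ g.y8
    z6 := g.z6 + g.y2 * σ g.x7 + g.z2 * σ g.z8 + g.x3 * g.z8 + g.y4 * g.x7 + g.x5 * g.y8 +
      g.y6 * σ g.y6 + g.x1 * σ g.x7 * g.y8 + σ g.x1 * g.y6 * σ g.z8 + σ g.x1 * g.x7 * g.z8 +
      g.y2 * σ g.y6 * σ g.y8 + σ g.y2 * g.x7 * g.y8 + g.z2 * g.y8 * g.z8 +
      g.x3 * g.y8 * σ g.y8 + g.y4 * g.y6 * g.y8 + g.x1 * σ g.y2 * g.y8 * σ g.z8 +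
      g.x1 * σ g.y6 * g.y8 * σ g.y8 + σ g.x1 * g.y2 * σ g.y8 * σ g.z8 +
      σ g.x1 * g.y2 * g.z8 ^ 2 + σ g.x1 * g.y6 * g.y8 * g.z8 +
      σ g.x1 * g.x7 * g.y8 * σ g.y8 + g.y2 * σ g.y2 * g.y8 * g.z8 +
      g.z2 * g.y8 ^ 2 * σ g.y8 + g.x1 * σ g.x1 * g.y8 * σ g.y8 * σ g.z8 +
      g.x1 * σ g.x1 * g.y8 * g.z8 ^ 2 + σ g.x1 * g.y6 * g.y8 ^ 2 * σ g.y8 +
      g.x1 * σ g.y2 * g.y8 ^ 3 * σ g.y8 + σ g.x1 * g.y2 * g.y8 ^ 2 * σ g.y8 ^ 2 +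
      g.x1 * σ g.x1 * g.y8 ^ 3 * σ g.y8 ^ 2
    x7 := g.x7 + g.x1 * σ g.z8 + g.y2 * g.z8 + g.y6 * g.y8 + g.x1 * g.y8 * g.z8 +
      g.y2 * g.y8 * σ g.y8 + g.x1 * g.y8 ^ 2 * σ g.y8
    y8 := g.y8
    z8 := g.z8 + g.y8 * σ g.y8 }

instance : Inv (P K) := ⟨inv⟩

@[simp] theorem mul_x1 (g h : P K) : (g * h).x1 =
    g.x1 + h.x1 := rfl
@[simp] theorem mul_y2 (g h : P K) : (g * h).y2 =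
    g.y2 + h.y2 + g.y8 * h.x1 := rfl
@[simp] theorem mul_z2 (g h : P K) : (g * h).z2 =
    g.z2 + h.z2 + g.y2 * σ h.y2 + g.y4 * h.x1 + g.y6 * σ h.x1 + g.y2 * σ g.y8 * σ h.x1 +
    g.y8 * h.x1 * σ h.y2 + g.z8 * h.x1 * σ h.x1 := rfl
@[simp] theorem mul_x3 (g h : P K) : (g * h).x3 =
    g.x3 + h.x3 + g.y4 * h.y2 + σ g.y6 * h.x1 + g.x7 * σ h.x1 + g.y8 * h.z2 +
    g.y4 * g.y8 * h.x1 + g.y8 * h.y2 * σ h.y2 + g.z8 * σ h.x1 * h.y2 + σ g.z8 * h.x1 * σ h.x1 +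
    g.y8 * g.z8 * h.x1 * σ h.x1 + g.y8 ^ 2 * σ g.y8 * h.x1 * σ h.x1 := rfl
@[simp] theorem mul_y4 (g h : P K) : (g * h).y4 =
    g.y4 + h.y4 + g.y8 * σ h.y2 + g.z8 * σ h.x1 := rfl
@[simp] theorem mul_z4 (g h : P K) : (g * h).z4 =
    g.z4 + h.z4 + g.y4 * σ h.y4 + g.x5 * h.y2 + g.y6 * h.x3 + g.z6 * h.x1 + g.x7 * h.z2 +
    g.y8 * σ h.x3 + g.z8 * σ h.z2 + g.x5 * g.y8 * h.x1 + g.y6 * g.x7 * σ h.x1 +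
    g.y6 * g.y8 * h.z2 + g.x7 * h.y2 * σ h.y2 + σ g.x7 * h.x1 * h.y2 + g.y8 * σ h.y2 * σ h.y4 +
    σ g.y8 * h.y2 * h.x3 + g.z8 * h.x1 * h.x3 + g.z8 * σ h.x1 * σ h.y4 + g.z8 * h.y2 * h.z2 +
    σ g.z8 * h.x1 * h.z2 + g.y4 * σ g.y8 * h.y2 ^ 2 + g.y4 * σ g.z8 * h.x1 ^ 2 +
    g.y6 * g.y8 * h.y2 * σ h.y2 + g.y6 * g.z8 * σ h.x1 * h.y2 + g.y6 * σ g.z8 * h.x1 * σ h.x1 +
    g.x7 * σ g.y8 * σ h.x1 * h.y2 + g.x7 * g.z8 * h.x1 * σ h.x1 + σ g.x7 * g.y8 * h.x1 ^ 2 +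
    g.y8 * σ g.y8 * h.x1 * h.x3 + g.y8 * σ g.y8 * h.y2 * h.z2 + g.z8 * h.y2 ^ 2 * σ h.y2 +
    σ g.z8 * h.x1 * h.y2 * σ h.y2 + g.y6 * g.y8 * g.z8 * h.x1 * σ h.x1 +
    g.x7 * g.y8 * σ g.y8 * h.x1 * σ h.x1 + g.y8 * σ g.y8 * h.y2 ^ 2 * σ h.y2 +
    σ g.y8 * g.z8 * σ h.x1 * h.y2 ^ 2 + σ g.y8 * σ g.z8 * h.x1 * σ h.x1 * h.y2 +
    g.z8 ^ 2 * h.x1 * σ h.x1 * h.y2 + g.z8 * σ g.z8 * h.x1 ^ 2 * σ h.x1 +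
    g.y6 * g.y8 ^ 2 * σ g.y8 * h.x1 * σ h.x1 + g.y8 * σ g.y8 * σ g.z8 * h.x1 ^ 2 * σ h.x1 +
    g.y8 * g.z8 ^ 2 * h.x1 ^ 2 * σ h.x1 + g.y8 ^ 2 * σ g.y8 ^ 2 * h.x1 * σ h.x1 * h.y2 +
    g.y8 ^ 3 * σ g.y8 ^ 2 * h.x1 ^ 2 * σ h.x1 := rfl
@[simp] theorem mul_x5 (g h : P K) : (g * h).x5 =
    g.x5 + h.x5 + g.y6 * h.y4 + g.x7 * σ h.y2 + σ g.x7 * h.x1 + σ g.y8 * h.x3 + g.z8 * h.z2 +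
    g.y6 * g.y8 * σ h.y2 + g.y6 * g.z8 * σ h.x1 + g.x7 * σ g.y8 * σ h.x1 +
    g.y8 * σ g.y8 * h.z2 + σ g.y8 * h.y2 * h.y4 + g.z8 * h.x1 * h.y4 + σ g.z8 * h.x1 * σ h.y2 +
    g.y8 * σ g.y8 * h.x1 * h.y4 + σ g.y8 * σ g.z8 * h.x1 * σ h.x1 + g.z8 ^ 2 * h.x1 * σ h.x1 +
    g.y8 ^ 2 * σ g.y8 ^ 2 * h.x1 * σ h.x1 := rfl
@[simp] theorem mul_y6 (g h : P K) : (g * h).y6 =
    g.y6 + h.y6 + σ g.y8 * h.y2 + g.z8 * h.x1 + g.y8 * σ g.y8 * h.x1 := rfl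
@[simp] theorem mul_z6 (g h : P K) : (g * h).z6 =
    g.z6 + h.z6 + g.y6 * σ h.y6 + g.x7 * h.y4 + σ g.x7 * h.y2 + g.y8 * h.x5 + g.z8 * h.x3 +
    σ g.z8 * h.z2 + g.y6 * σ g.z8 * σ h.x1 + g.x7 * g.y8 * σ h.y2 + g.x7 * g.z8 * σ h.x1 +
    σ g.x7 * g.y8 * h.x1 + g.y8 * g.z8 * h.z2 + σ g.y8 * h.y2 * σ h.y6 + g.z8 * h.x1 * σ h.y6 +
    g.z8 * h.y2 * h.y4 + σ g.z8 * h.x1 * h.y4 + σ g.z8 * h.y2 * σ h.y2 +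
    g.y6 * g.y8 ^ 2 * σ h.y2 + g.y8 ^ 2 * σ g.y8 * h.z2 + g.y8 * σ g.y8 * h.x1 * σ h.y6 +
    g.y8 * g.z8 * h.x1 * h.y4 + g.y8 * σ g.z8 * h.x1 * σ h.y2 +
    σ g.y8 * σ g.z8 * σ h.x1 * h.y2 + g.z8 ^ 2 * σ h.x1 * h.y2 +
    g.y6 * g.y8 ^ 2 * σ g.y8 * σ h.x1 + g.y8 ^ 2 * σ g.y8 * h.x1 * h.y4 +
    g.y8 * σ g.y8 * σ g.z8 * h.x1 * σ h.x1 + g.y8 * g.z8 ^ 2 * h.x1 * σ h.x1 +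
    g.y8 ^ 2 * σ g.y8 ^ 2 * σ h.x1 * h.y2 + g.y8 ^ 3 * σ g.y8 ^ 2 * h.x1 * σ h.x1 := rfl
@[simp] theorem mul_x7 (g h : P K) : (g * h).x7 =
    g.x7 + h.x7 + g.y8 * h.y6 + g.z8 * h.y2 + σ g.z8 * h.x1 + g.y8 * g.z8 * h.x1 +
    g.y8 ^ 2 * σ g.y8 * h.x1 := rfl
@[simp] theorem mul_y8 (g h : P K) : (g * h).y8 =
    g.y8 + h.y8 := rfl
@[simp] theorem mul_z8 (g h : P K) : (g * h).z8 =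
    g.z8 + h.z8 + g.y8 * σ h.y8 := rfl
@[simp] theorem one_x1 : (1 : P K).x1 = 0 := rfl
@[simp] theorem one_y2 : (1 : P K).y2 = 0 := rfl
@[simp] theorem one_z2 : (1 : P K).z2 = 0 := rfl
@[simp] theorem one_x3 : (1 : P K).x3 = 0 := rfl
@[simp] theorem one_y4 : (1 : P K).y4 = 0 := rfl
@[simp] theorem one_z4 : (1 : P K).z4 = 0 := rfl
@[simp] theorem one_x5 : (1 : P K).x5 = 0 := rfl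
@[simp] theorem one_y6 : (1 : P K).y6 = 0 := rfl
@[simp] theorem one_z6 : (1 : P K).z6 = 0 := rfl
@[simp] theorem one_x7 : (1 : P K).x7 = 0 := rfl
@[simp] theorem one_y8 : (1 : P K).y8 = 0 := rfl
@[simp] theorem one_z8 : (1 : P K).z8 = 0 := rfl
@[simp] theorem inv_x1 (g : P K) : g⁻¹.x1 =
    g.x1 := rfl
@[simp] theorem inv_y2 (g : P K) : g⁻¹.y2 =
    g.y2 + g.x1 * g.y8 := rfl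
@[simp] theorem inv_z2 (g : P K) : g⁻¹.z2 =
    g.z2 + g.x1 * g.y4 + σ g.x1 * g.y6 + g.y2 * σ g.y2 + g.x1 * σ g.x1 * g.z8 +
    g.x1 * σ g.y2 * g.y8 + g.x1 * σ g.x1 * g.y8 * σ g.y8 := rfl
@[simp] theorem inv_x3 (g : P K) : g⁻¹.x3 =
    g.x3 + g.x1 * σ g.y6 + σ g.x1 * g.x7 + g.y2 * g.y4 + g.z2 * g.y8 + g.x1 * σ g.x1 * σ g.z8 +
    g.x1 * g.y4 * g.y8 + σ g.x1 * g.y2 * g.z8 + σ g.x1 * g.y6 * g.y8 +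
    g.x1 * σ g.x1 * g.y8 * g.z8 + σ g.x1 * g.y2 * g.y8 * σ g.y8 +
    g.x1 * σ g.x1 * g.y8 ^ 2 * σ g.y8 := rfl
@[simp] theorem inv_y4 (g : P K) : g⁻¹.y4 =
    g.y4 + σ g.x1 * g.z8 + σ g.y2 * g.y8 + σ g.x1 * g.y8 * σ g.y8 := rfl
@[simp] theorem inv_z4 (g : P K) : g⁻¹.z4 =
    g.z4 + g.x1 * g.z6 + g.y2 * g.x5 + g.z2 * g.x7 + σ g.z2 * g.z8 + g.x3 * g.y6 +
    σ g.x3 * g.y8 + g.y4 * σ g.y4 + g.x1 * g.y2 * σ g.x7 + g.x1 * g.z2 * σ g.z8 +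
    g.x1 * g.x3 * g.z8 + g.x1 * g.y4 * g.x7 + g.x1 * g.y6 * σ g.y6 + σ g.x1 * g.y6 * g.x7 +
    g.y2 * g.z2 * g.z8 + g.y2 * g.x3 * σ g.y8 + g.y2 * g.y4 * g.y6 + σ g.z2 * g.y8 * σ g.y8 +
    g.x1 ^ 2 * g.y4 * σ g.z8 + g.x1 ^ 2 * σ g.x7 * g.y8 + g.x1 * σ g.x1 * g.y6 * σ g.z8 +
    g.x1 * σ g.x1 * g.x7 * g.z8 + g.x1 * g.y2 * σ g.y6 * σ g.y8 + σ g.x1 * g.y2 * g.y6 * g.z8 +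
    σ g.x1 * g.y2 * g.x7 * σ g.y8 + σ g.x1 * g.y6 ^ 2 * g.y8 + g.y2 ^ 2 * σ g.y2 * g.z8 +
    g.y2 ^ 2 * g.y4 * σ g.y8 + g.x1 ^ 2 * σ g.x1 * g.z8 * σ g.z8 +
    g.x1 ^ 2 * σ g.y6 * g.y8 * σ g.y8 + g.x1 * σ g.x1 * g.y2 * σ g.y8 * σ g.z8 +
    g.x1 * σ g.x1 * g.y2 * g.z8 ^ 2 + g.x1 * g.z2 * g.y8 ^ 2 * σ g.y8 +
    σ g.x1 * g.y2 ^ 2 * σ g.y8 * g.z8 + g.y2 ^ 2 * σ g.y2 * g.y8 * σ g.y8 +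
    g.x1 ^ 2 * σ g.x1 * g.y8 * g.z8 ^ 2 + g.x1 ^ 2 * g.y4 * g.y8 ^ 2 * σ g.y8 +
    g.x1 * σ g.x1 * g.y6 * g.y8 ^ 2 * σ g.y8 + σ g.x1 * g.y2 ^ 2 * g.y8 * σ g.y8 ^ 2 +
    g.x1 ^ 2 * σ g.x1 * g.y8 ^ 2 * σ g.y8 * g.z8 +
    g.x1 * σ g.x1 * g.y2 * g.y8 ^ 2 * σ g.y8 ^ 2 := rfl
@[simp] theorem inv_x5 (g : P K) : g⁻¹.x5 =
    g.x5 + g.x1 * σ g.x7 + σ g.y2 * g.x7 + g.z2 * g.z8 + g.x3 * σ g.y8 + g.y4 * g.y6 +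
    g.x1 * σ g.y2 * σ g.z8 + g.x1 * σ g.y6 * σ g.y8 + σ g.x1 * g.y6 * g.z8 +
    σ g.x1 * g.x7 * σ g.y8 + g.y2 * σ g.y2 * g.z8 + g.x1 * σ g.x1 * σ g.y8 * σ g.z8 +
    g.x1 * σ g.x1 * g.z8 ^ 2 + g.x1 * σ g.y2 * g.y8 ^ 2 * σ g.y8 +
    g.x1 * σ g.x1 * g.y8 ^ 2 * σ g.y8 ^ 2 := rfl
@[simp] theorem inv_y6 (g : P K) : g⁻¹.y6 =
    g.y6 + g.x1 * g.z8 + g.y2 * σ g.y8 := rfl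
@[simp] theorem inv_z6 (g : P K) : g⁻¹.z6 =
    g.z6 + g.y2 * σ g.x7 + g.z2 * σ g.z8 + g.x3 * g.z8 + g.y4 * g.x7 + g.x5 * g.y8 +
    g.y6 * σ g.y6 + g.x1 * σ g.x7 * g.y8 + σ g.x1 * g.y6 * σ g.z8 + σ g.x1 * g.x7 * g.z8 +
    g.y2 * σ g.y6 * σ g.y8 + σ g.y2 * g.x7 * g.y8 + g.z2 * g.y8 * g.z8 + g.x3 * g.y8 * σ g.y8 +
    g.y4 * g.y6 * g.y8 + g.x1 * σ g.y2 * g.y8 * σ g.z8 + g.x1 * σ g.y6 * g.y8 * σ g.y8 +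
    σ g.x1 * g.y2 * σ g.y8 * σ g.z8 + σ g.x1 * g.y2 * g.z8 ^ 2 + σ g.x1 * g.y6 * g.y8 * g.z8 +
    σ g.x1 * g.x7 * g.y8 * σ g.y8 + g.y2 * σ g.y2 * g.y8 * g.z8 + g.z2 * g.y8 ^ 2 * σ g.y8 +
    g.x1 * σ g.x1 * g.y8 * σ g.y8 * σ g.z8 + g.x1 * σ g.x1 * g.y8 * g.z8 ^ 2 +
    σ g.x1 * g.y6 * g.y8 ^ 2 * σ g.y8 + g.x1 * σ g.y2 * g.y8 ^ 3 * σ g.y8 +
    σ g.x1 * g.y2 * g.y8 ^ 2 * σ g.y8 ^ 2 + g.x1 * σ g.x1 * g.y8 ^ 3 * σ g.y8 ^ 2 := rfl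
@[simp] theorem inv_x7 (g : P K) : g⁻¹.x7 =
    g.x7 + g.x1 * σ g.z8 + g.y2 * g.z8 + g.y6 * g.y8 + g.x1 * g.y8 * g.z8 +
    g.y2 * g.y8 * σ g.y8 + g.x1 * g.y8 ^ 2 * σ g.y8 := rfl
@[simp] theorem inv_y8 (g : P K) : g⁻¹.y8 =
    g.y8 := rfl
@[simp] theorem inv_z8 (g : P K) : g⁻¹.z8 =
    g.z8 + g.y8 * σ g.y8 := rfl

attribute [irreducible] mul inv

theorem mul_assoc' (g h k : P K) : g * h * k = g * (h * k) := by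
  ext <;> simp only [mul_x1, mul_y2, mul_z2, mul_x3, mul_y4, mul_z4, mul_x5, mul_y6, mul_z6, mul_x7, mul_y8, mul_z8,
    map_add, map_mul, map_pow, Rf.s_s] <;> grind

theorem inv_mul' (g : P K) : g⁻¹ * g = 1 := by
  ext <;> simp only [mul_x1, mul_y2, mul_z2, mul_x3, mul_y4, mul_z4, mul_x5, mul_y6, mul_z6, mul_x7, mul_y8, mul_z8,
    inv_x1, inv_y2, inv_z2, inv_x3, inv_y4, inv_z4, inv_x5, inv_y6, inv_z6, inv_x7, inv_y8, inv_z8,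
    one_x1, one_y2, one_z2, one_x3, one_y4, one_z4, one_x5, one_y6, one_z6, one_x7, one_y8, one_z8,
    map_add, map_mul, map_pow, Rf.s_s] <;> grind

instance : Group (P K) := Group.ofLeftAxioms mul_assoc' (fun g => by ext <;> simp) inv_mul'

instance [Finite K] : Finite (P K) :=
  Finite.of_injective (fun g : P K => (g.x1, g.y2, g.z2, g.x3, g.y4, g.z4, g.x5, g.y6, g.z6, g.x7, g.y8, g.z8))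
    fun g h e => by
      simp only [Prod.mk.injEq] at e
      obtain ⟨h1, h2, h3, h4, h5, h6, h7, h8, h9, h10, h11, h12⟩ := e
      exact P.ext h1 h2 h3 h4 h5 h6 h7 h8 h9 h10 h11 h12

end P

end Cfsg.Agent.F4
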