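import Cfsg.Agent.Lib.Chev.Gr

/-! An abstract collection lemma. -/

set_option autoImplicit false

namespace Cfsg.Agent.F4.Md

open Subgroup Cfsg.Agent.Chev

variable {G K : Type*} [Group G] [Finite G] [Finite K]

/-- The subgroup generated by the letters `k, …, n - 1`. -/
def NN (A : ℕ → K → G) (n k : ℕ) : Subgroup G := closure {g | ∃ j, k ≤ j ∧ j < n ∧ ∃ t, g = A j t}

omit [Finite G] [Finite K] in
theorem mem_NN (A : ℕ → K → G) {n k j : ℕ} (h : k ≤ j) (h' : j < n) (t : K) : A j t ∈ NN A n k :=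
  subset_closure ⟨j, h, h', t, rfl⟩

theorem card_NN (A : ℕ → K → G) (n : ℕ) (o : K) (h0 : ∀ i, A i o = 1)
    (hc : ∀ i j, i < j → j < n → ∀ t u, (A i t)⁻¹ * A j u * A i t ∈ NN A n (i + 1))
    (ha : ∀ i < n, ∀ t u, ∃ v, (A i v)⁻¹ * (A i t * A i u) ∈ NN A n (i + 1)) (d : ℕ) :
    ∀ k, k + d = n → Nat.card (NN A n k) ≤ Nat.card K ^ d := by
  induction d with
  | zero =>
    intro k hk
    have : NN A n k = ⊥ := le_bot_iff.1 ((closure_le _).2 fun _ ⟨j, h1, h2, _⟩ => by omega)
    simp [this]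
  | succ d ih =>
    intro k hk
    have h1 : ∀ t, ∀ x ∈ NN A n (k + 1), (A k t)⁻¹ * x * A k t ∈ NN A n (k + 1) := fun t x hx => by
      have : NN A n (k + 1) ≤ (NN A n (k + 1)).comap (MulAut.conj (A k t)⁻¹).toMonoidHom :=
        (closure_le _).2 (by
          rintro _ ⟨j, a, b, u, rfl⟩
          simpa using hc k j a b t u)
      simpa using this hx
    let M : Subgroup G := subOfFin
      { carrier := {g | ∃ t, (A k t)⁻¹ * g ∈ NN A n (k + 1)}
        one_mem' := ⟨o, by simp [h0]⟩
        mul_mem' := by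
          rintro a b ⟨t, ht⟩ ⟨u, hu⟩
          obtain ⟨v, hv⟩ := ha k (by omega) t u
          exact ⟨v, by convert mul_mem (mul_mem hv (h1 u _ ht)) hu using 1; group⟩ }
    have h2 : NN A n k ≤ M := (closure_le _).2 (by
      rintro _ ⟨j, a, b, u, rfl⟩
      rcases a.eq_or_lt with rfl | a
      · exact ⟨u, by simp⟩
      · exact ⟨o, by simpa [h0] using mem_NN A a b u⟩)
    choose f hf using fun x : NN A n k => h2 x.2
    have h3 := Nat.card_le_card_of_injective
      (fun x : NN A n k => ((f x, ⟨_, hf x⟩) : K × NN A n (k + 1))) fun x y h => by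
        simp only [Prod.mk.injEq, Subtype.mk.injEq] at h
        rw [h.1, mul_right_inj] at h
        exact Subtype.ext h.2
    rw [Nat.card_prod] at h3
    rw [pow_succ']
    exact h3.trans (Nat.mul_le_mul_left _ (ih _ (by omega)))

end Cfsg.Agent.F4.Md
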