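import Cfsg.Agent.Lib.F4.Mp
import Cfsg.Agent.Lib.F4.Mc
import Cfsg.Agent.Lib.Fit.Fitting

/-! The embedding of the coordinate group into the Chevalley group. -/

set_option autoImplicit false
set_option maxRecDepth 100000
set_option linter.unusedSectionVars false

namespace Cfsg.Agent.F4.Md

open Subgroup Cfsg.Lie Cfsg.Agent.Chev

variable {K : Type} [Field K] [Rf K] [Finite K]

/-- Pairs of letters. -/
noncomputable def AA (k : ℕ) (t : K) : P K × GL (Fin 4 ⊕ Fin 48) K := (rr k t, R k t)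

theorem pair_mem {k : ℕ} (t u : K) {w : List (ℕ × Mon)} (h : ∀ p ∈ w, k < p.1 ∧ p.1 < 12) :
    (pp t u w, pr t u w) ∈ NN (AA (K := K)) 12 (k + 1) := by
  induction w with
  | nil => exact one_mem _
  | cons a w ih =>
    exact mul_mem (mem_NN AA (h a (by simp)).1 (h a (by simp)).2 (ev t u a.2))
      (ih fun p hp => h p (by simp [hp]))

theorem card_P : Nat.card (P K) = Nat.card K ^ 12 := by
  have e : P K ≃ (K × K × K × K × K × K × K × K × K × K × K × K) :=
    { toFun := fun g => (g.x1, g.y2, g.z2, g.x3, g.y4, g.z4, g.x5, g.y6, g.z6, g.x7, g.y8, g.z8)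
      invFun := fun ⟨a1, a2, a3, a4, a5, a6, a7, a8, a9, a10, a11, a12⟩ =>
        ⟨a1, a2, a3, a4, a5, a6, a7, a8, a9, a10, a11, a12⟩
      left_inv := fun _ => rfl
      right_inv := fun _ => rfl }
  rw [Nat.card_congr e]
  simp only [Nat.card_prod]
  ring

variable (K) in
theorem exists_gl : ∃ ι : P K →* GL (Fin 4 ⊕ Fin 48) K, ∀ k < 12, ∀ t, ι (rr k t) = R k t := by
  have h := card_NN (AA (K := K)) 12 0 (fun i => Prod.ext (rr_zero i) (R_zero i))
    (fun i j h hj t u => by
      convert pair_mem t u (rl_lt i (h.trans hj) j hj h) using 1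
      rw [mul_assoc, inv_mul_eq_iff_eq_mul]
      exact Prod.ext (rr_rl hj h t u) (R_rl hj h t u))
    (fun i hi t u => ⟨t + u, by
      have : AA i t * AA i u = AA i (t + u) * AA (zk i) (t * σ u) :=
        Prod.ext (rr_add hi t u) (R_add (by omega) t u)
      rw [this, inv_mul_cancel_left]
      rcases (by decide : ∀ i < 12, zk i = 15 ∨ i + 1 ≤ zk i ∧ zk i < 12) i hi with e | e
      · have : AA 15 (t * σ u) = 1 := Prod.ext rfl (by simp [AA, R, tb, X_big])
        rw [e, this]
        exact one_mem _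
      · exact mem_NN AA e.1 e.2 _⟩) 12 0 rfl
  let f := (MonoidHom.fst _ _).comp (NN (AA (K := K)) 12 0).subtype
  have hf : Function.Surjective f := ind' (MonoidHom.mrange f) fun k hk t =>
    ⟨⟨_, mem_NN AA k.zero_le hk t⟩, rfl⟩
  let e := MulEquiv.ofBijective f (hf.bijective_of_nat_card_le (card_P (K := K) ▸ h))
  refine ⟨((MonoidHom.snd _ _).comp (Subgroup.subtype _)).comp e.symm.toMonoidHom, fun k hk t => ?_⟩
  have : e.symm (rr k t) = ⟨_, mem_NN AA k.zero_le hk t⟩ := e.symm_apply_eq.2 rfl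
  exact congrArg (fun x : NN (AA (K := K)) 12 0 => x.1.2) this

/-- The embedding. -/
noncomputable def gl : P K →* GL (Fin 4 ⊕ Fin 48) K := (exists_gl K).choose

theorem gl_rr {k : ℕ} (hk : k < 12) (t : K) : gl (rr k t) = R k t := (exists_gl K).choose_spec k hk t

theorem gl_inj : Function.Injective (gl : P K → _) := by
  rw [← MonoidHom.ker_eq_bot_iff]
  by_contra h
  have := (pg K).isNilpotent
  obtain ⟨⟨g, h1, h2⟩, h3⟩ := ne_bot_iff_exists_ne_one.1 (Fit.inf_center_ne_bot _ h)
  have e := eq_of_central (mem_center_iff.1 h2)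
  refine h3 (Subtype.ext ?_)
  change gl g = 1 at h1
  rw [e, gl_rr (by decide)] at h1
  by_contra h4
  have h5 : g.z4 ≠ 0 := fun h0 => h4 (e.trans (h0 ▸ rr_zero 11))
  rw [R, tb, X_big (r := 48) (by decide), mul_one, mul_eq_one_iff_eq_inv, X, X,
    xN_eq ok4 (by decide), xN_eq ok4 (by decide), Sys.x_inv] at h1
  exact absurd (Sys.x_root_inj _ h1 h5) (by decide)

end Cfsg.Agent.F4.Md
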