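import Cfsg.Agent.Lib.F4.Ms

/-! The model `²F₄(q) ⋊ (field automorphisms)`. -/

set_option autoImplicit false
set_option maxRecDepth 100000
set_option linter.unusedSectionVars false

namespace Cfsg.Agent.F4

open Subgroup Matrix Cfsg.Lie Cfsg.Agent.Chev Cfsg.Agent.Tr

namespace Md

theorem sylow_of_norm {G : Type*} [Group G] [Finite G] {p : ℕ} [Fact p.Prime] {Q : Subgroup G}
    (hQ : IsPGroup p Q) (h : ∀ g ∈ normalizer (Q : Set G), ∀ k, g ^ p ^ k = 1 → g ∈ Q) :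
    ∃ T : Sylow p G, (T : Subgroup G) = Q := by
  obtain ⟨T, hT⟩ := hQ.exists_le_sylow
  refine ⟨T, le_antisymm ?_ hT⟩
  by_contra hc
  have := T.isPGroup'.isNilpotent
  obtain ⟨g, hg, hg'⟩ := SetLike.exists_of_lt (Group.normalizerCondition_of_isNilpotent
    (Q.subgroupOf T) (lt_top_iff_ne_top.2 fun e => hc (subgroupOf_eq_top.1 e)))
  rw [← subgroupOf_normalizer_eq hT] at hg
  obtain ⟨k, hk⟩ := T.isPGroup' g
  exact hg' (h g hg k (by simpa using congrArg Subtype.val hk))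

variable {K : Type} [Field K] [Finite K] [Rf K]

variable (K) in
theorem exists_θ : ∃ (θ : K →+* K) (e : ℕ), (∀ x, θ x = x ^ e) ∧ ∀ x, σ (θ x) = x := by
  have := Fintype.ofFinite K
  obtain ⟨⟨n, hn⟩, -, h⟩ := FiniteField.card K 2
  obtain ⟨n, rfl⟩ := Nat.exists_eq_add_one.2 hn
  refine ⟨(σ : K →+* K).comp (iterateFrobenius K 2 n), 2 ^ n * Rf.e K, fun x => ?_, fun x => ?_⟩
  · rw [RingHom.comp_apply, Rf.s_eq, iterateFrobenius_def, pow_mul]
  · rw [RingHom.comp_apply, Rf.s_s, iterateFrobenius_def, ← pow_mul, ← pow_succ]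
    exact h ▸ FiniteField.pow_card x

theorem Dl_mul (l l' m m' : Kˣ) (φ : K ≃+* K) :
    Dl (l * Units.map (φ : K →* K) l') (m * Units.map (φ : K →* K) m') =
      Dl l m * gmap φ (Dl l' m') := by
  ext1
  have h : (gmap (φ : K →+* K) (Dl l' m')).1 = (Dl l' m').1.map φ := rfl
  rw [Units.val_mul, h, Dl_val, Dl_val, Dl_val, diagonal_map (map_zero φ), diagonal_mul_diagonal]
  congr 1
  ext a
  simp only [Units.val_mul, Units.coe_map, MonoidHom.coe_coe, map_mul, mul_zpow, map_zpow₀, map_s]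
  ring

theorem Dl_one : Dl (1 : Kˣ) 1 = 1 := by
  ext1
  rw [Dl_val]
  simp

theorem Dl_pow (l m : Kˣ) : Dl l m ^ (Nat.card K - 1) = 1 := by
  have := Fintype.ofFinite K
  ext1
  rw [Units.val_pow_eq_pow_val, Dl_val, diagonal_pow, Units.val_one, ← diagonal_one,
    Nat.card_eq_fintype_card]
  congr 1
  ext a
  refine FiniteField.pow_card_sub_one_eq_one _ ?_
  simp [zpow_ne_zero]

theorem dg_mul (l l' m m' : Kˣ) (φ φ' : RingAut K) : dg l m φ * dg l' m' φ' =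
    dg (l * Units.map (φ : K →* K) l') (m * Units.map (φ : K →* K) m') (φ * φ') := by
  ext x <;> simp [map_s] <;> ring

theorem dg_one : dg 1 1 (1 : RingAut K) = 1 := by ext x <;> simp

theorem dg_pow (l m : Kˣ) (φ : RingAut K) (n : ℕ) : ∃ l' m', dg l m φ ^ n = dg l' m' (φ ^ n) := by
  induction n with
  | zero => exact ⟨1, 1, by rw [pow_zero, pow_zero, dg_one]⟩
  | succ n ih =>
    obtain ⟨l', m', e⟩ := ih
    exact ⟨_, _, by rw [pow_succ, pow_succ, e, dg_mul]⟩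

theorem eq_one_of_dg {l m : Kˣ} {φ : RingAut K} (h : dg l m φ = 1) : φ = 1 := by
  have h1 : ∀ a, (l : K) * φ a = a := fun a => congrArg P.x1 (DFunLike.congr_fun h (rx1 a))
  ext a
  simpa [show (l : K) = 1 by simpa using h1 1] using h1 a

/-- Field automorphisms act on invertible matrices. -/
def fa : RingAut K →* MulAut (GL (Fin 4 ⊕ Fin 48) K) where
  toFun φ := Units.mapEquiv (RingEquiv.mapMatrix φ).toMulEquiv
  map_one' := by ext; rfl
  map_mul' _ _ := by ext; rfl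

theorem fa_apply (φ : RingAut K) (A : GL (Fin 4 ⊕ Fin 48) K) : fa φ A = gmap φ A := rfl

variable (K) in
/-- The semilinear group. -/
abbrev SG : Type := GL (Fin 4 ⊕ Fin 48) K ⋊[fa] RingAut K

instance : Finite (RingAut K) := Finite.of_injective (fun φ : K ≃+* K => (φ : K → K))
  DFunLike.coe_injective

instance : Finite (SG K) :=
  Finite.of_injective (fun g => (g.left, g.right)) fun _ _ h =>
    SemidirectProduct.ext (congrArg Prod.fst h) (congrArg Prod.snd h)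

theorem conj_dec {l m : Kˣ} {φ : RingAut K} (g : GL (Fin 4 ⊕ Fin 48) K) (y : P K) :
    g * gmap φ (gl y) * g⁻¹ = g * (Dl l m)⁻¹ * gl (dg l m φ y) * (g * (Dl l m)⁻¹)⁻¹ := by
  rw [← Dl_gl]; group

theorem weyl {n : GL (Fin 4 ⊕ Fin 48) K} (Q : Subgroup (P K)) {y : P K}
    (h0 : ∃ y' ∈ Q, n * gl (rr 0 y.x1) * n⁻¹ = gl y') (h1 : ∃ y' ∈ Q, n * gl (rr 1 y.y8) * n⁻¹ = gl y')
    (h3 : ∃ y' ∈ Q, n * gl (rr 3 y.z8) * n⁻¹ = gl y')
    (h : ∀ k < 12, k ≠ 0 → k ≠ 1 → k ≠ 3 → ∀ t, ∃ y' ∈ Q, n * gl (rr k t) * n⁻¹ = gl y') :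
    ∃ y' ∈ Q, n * gl y * n⁻¹ = gl y' :=
  ind ⟨⟨{y | ∃ y' ∈ Q, n * gl y * n⁻¹ = gl y'}, fun ⟨a, ha, ea⟩ ⟨b, hb, eb⟩ =>
    ⟨a * b, mul_mem ha hb, by rw [map_mul, map_mul, ← ea, ← eb]; group⟩⟩, 1, one_mem _, by simp⟩
    y h0 h1 h3 h

theorem n1_gl {k : ℕ} (hk : k < 12) (h0 : k ≠ 0) (t : K) :
    ∃ y' ∈ Q1 K, n1 * gl (rr k t) * n1⁻¹ = gl y' := by
  obtain ⟨a, b⟩ := (by decide : ∀ k < 12, k ≠ 0 → p1 k < 12 ∧ p1 k ≠ 0) k hk h0
  exact ⟨_, rr_Q1 b t, by rw [gl_rr hk, gl_rr a, n1_R hk]⟩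

theorem n8_gl {k : ℕ} (hk : k < 12) (h1 : k ≠ 1) (h3 : k ≠ 3) (t : K) :
    ∃ y' ∈ Q2 K, n8 * gl (rr k t) * n8⁻¹ = gl y' := by
  obtain ⟨a, b, c⟩ :=
    (by decide : ∀ k < 12, k ≠ 1 → k ≠ 3 → p8 k < 12 ∧ p8 k ≠ 1 ∧ p8 k ≠ 3) k hk h1 h3
  exact ⟨_, rr_Q2 b c t, by rw [gl_rr hk, gl_rr a, n8_R hk]⟩

variable {θ : K →+* K} {e : ℕ} (hθ : ∀ x, θ x = x ^ e) (hs : ∀ x, σ (θ x) = x)
include hθ hs

theorem Dl_mem (l m : Kˣ) (φ : K ≃+* K) {g : GL (Fin 4 ⊕ Fin 48) K}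
    (hg : g ∈ G0 K e) : Dl l m * gmap φ g * (Dl l m)⁻¹ ∈ G0 K e :=
  G0_le hθ hs (M := (G0 K e).comap ((MulAut.conj (Dl l m)).toMonoidHom.comp (gmap φ)))
    (fun k hk t => by
      simp only [mem_comap, MonoidHom.comp_apply, MulEquiv.coe_toMonoidHom, MulAut.conj_apply,
        Dl_R l m φ hk]
      exact R_mem hθ hs hk _) hg

/-- The model. -/
noncomputable def GG (H : Subgroup (MulAut (P K))) : Subgroup (SG K) := subOfFin
  { carrier := {g | ∃ l m, dg l m g.right ∈ H ∧ g.left * (Dl l m)⁻¹ ∈ G0 K e}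
    one_mem' := ⟨1, 1, by simp [dg_one, H.one_mem], by simp [Dl_one]⟩
    mul_mem' := by
      rintro g g' ⟨l, m, h1, h2⟩ ⟨l', m', h1', h2'⟩
      refine ⟨_, _, dg_mul l l' m m' g.right g'.right ▸ H.mul_mem h1 h1', ?_⟩
      convert mul_mem h2 (Dl_mem hθ hs l m g.right h2') using 1
      rw [Dl_mul, SemidirectProduct.mul_left, fa_apply, map_mul, map_inv]
      group }

theorem inl_mem (H : Subgroup (MulAut (P K))) {A : GL (Fin 4 ⊕ Fin 48) K}
    (h : A ∈ G0 K e) : SemidirectProduct.inl A ∈ GG hθ hs H :=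
  ⟨1, 1, by simp [dg_one, H.one_mem], by simpa [Dl_one] using h⟩

/-- The embedding of the Sylow subgroup. -/
noncomputable def emb (H : Subgroup (MulAut (P K))) : P K →* GG hθ hs H :=
  (SemidirectProduct.inl.comp gl).codRestrict _ fun x => inl_mem hθ hs H (gl_mem hθ hs x)

theorem conj_iff {H : Subgroup (MulAut (P K))} (g : GG hθ hs H) (y y' : P K) :
    g * emb hθ hs H y * g⁻¹ = emb hθ hs H y' ↔
      g.1.left * gmap g.1.right (gl y) * g.1.left⁻¹ = gl y' := by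
  rw [mul_inv_eq_iff_eq_mul, mul_inv_eq_iff_eq_mul, Subtype.ext_iff, SemidirectProduct.ext_iff]
  simp [emb, fa_apply]

theorem inl_conj {H : Subgroup (MulAut (P K))} {A : GL (Fin 4 ⊕ Fin 48) K} (h : A ∈ G0 K e)
    {y y' : P K} (h' : A * gl y * A⁻¹ = gl y') :
    (⟨_, inl_mem hθ hs H h⟩ : GG hθ hs H) * emb hθ hs H y * (⟨_, inl_mem hθ hs H h⟩ : GG hθ hs H)⁻¹ =
      emb hθ hs H y' := (conj_iff hθ hs _ _ _).2 h'

theorem pow_mem_G0 {l m : Kˣ} {g : GL (Fin 4 ⊕ Fin 48) K}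
    (h : g * (Dl l m)⁻¹ ∈ G0 K e) (n : ℕ) : g ^ n * (Dl l m ^ n)⁻¹ ∈ G0 K e := by
  induction n with
  | zero => simp
  | succ n ih =>
    convert mul_mem h (Dl_mem hθ hs l m (1 : RingAut K) ih) using 1
    rw [← fa_apply, map_one, MulAut.one_apply]
    group

end Md

open Md

theorem model : ModelStmt := by
  intro K _ _ _ H hH hp hd
  obtain ⟨θ, e, hθ, hs⟩ := exists_θ K
  obtain ⟨hS, hN⟩ := sylow_gl hθ hs
  have hi : Function.Injective (emb hθ hs H) := fun x y h =>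
    gl_inj (SemidirectProduct.inl_injective (congrArg Subtype.val h))
  have hR := fun k hk => R_mem hθ hs (k := k) hk 1
  refine ⟨GG hθ hs H, inferInstance, inferInstance, emb hθ hs H, hi, ?_, fun g hg => ?_,
    fun h hh => ?_, ?_, ?_⟩
  · refine sylow_of_norm ((pg K).of_surjective _ (emb hθ hs H).rangeRestrict_surjective)
      fun g hg k hk => ?_
    obtain ⟨l, m, h1, e⟩ := g.2
    have hk' : g.1 ^ 2 ^ k = 1 := by simpa using congrArg Subtype.val hk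
    have h2 : g.1.right = 1 := by
      obtain ⟨l', m', e'⟩ := dg_pow l m g.1.right (Nat.card H)
      have a1 : dg l m g.1.right ^ Nat.card H = 1 :=
        congrArg Subtype.val (pow_card_eq_one' (x := (⟨_, h1⟩ : H)))
      have a2 : g.1.right ^ 2 ^ k = 1 := by
        have := congrArg SemidirectProduct.rightHom hk'
        rwa [map_pow] at this
      rw [← orderOf_eq_one_iff]
      exact Nat.eq_one_of_dvd_coprimes
        (((Nat.Prime.coprime_iff_not_dvd Nat.prime_two).2 hp).pow_left k)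
        (orderOf_dvd_of_pow_eq_one a2) (orderOf_dvd_of_pow_eq_one (eq_one_of_dg (e' ▸ a1)))
    have h3 : g.1 = SemidirectProduct.inl g.1.left := by ext <;> simp [h2]
    rw [h3, ← map_pow, map_eq_one_iff _ SemidirectProduct.inl_injective] at hk'
    have h4 := pow_mem_G0 hθ hs e (Nat.card K - 1)
    rw [Dl_pow, inv_one, mul_one] at h4
    have h5 := zpowers_le.2 h4 (mem_zpowers_pow_iff.2 (by
      refine Nat.Coprime.coprime_dvd_right (orderOf_dvd_of_pow_eq_one hk')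
        (Nat.Coprime.pow_right _ ?_)
      have := Fintype.ofFinite K
      obtain ⟨n, -, hn⟩ := FiniteField.card K 2
      rw [Nat.card_eq_fintype_card, hn]
      exact (Nat.coprime_pow_right_iff n.2 ..).1 ((Nat.coprime_self_sub_left
        (Nat.one_le_pow _ _ two_pos)).2 (Nat.coprime_one_left _))))
    obtain ⟨x, hx⟩ := hS.le_of_le_normalizer' (isPGroup_zpowers hk') (zpowers_le.2 h5)
      (zpowers_le.2 (mem_normalizer_fintype (by
        rintro _ ⟨y, rfl⟩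
        obtain ⟨y', h⟩ := (mem_normalizer_iff.1 hg _).1 ⟨y, rfl⟩
        have := (conj_iff hθ hs g y y').1 h.symm
        rw [h2, ← fa_apply, map_one, MulAut.one_apply] at this
        exact ⟨y', this.symm⟩))) (mem_zpowers _)
    exact ⟨x, Subtype.ext (h3.trans (congrArg _ hx.symm)).symm⟩
  · obtain ⟨l, m, h1, e⟩ := g.2
    obtain ⟨x, l', m', e'⟩ := hN _ e fun y => by
      obtain ⟨y', h⟩ := hg ((dg l m g.1.right)⁻¹ y)
      rw [conj_iff, conj_dec (l := l) (m := m), MulAut.apply_inv_self] at h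
      exact ⟨y', h⟩
    refine ⟨x, _, H.mul_mem (hd l' m') h1, fun y => ?_⟩
    rw [conj_iff, conj_dec (l := l) (m := m), e']
    rfl
  · obtain ⟨l, m, φ, rfl⟩ := hH h hh
    exact ⟨⟨⟨Dl l m, φ⟩, l, m, hh, by simp⟩, fun y => (conj_iff hθ hs _ _ _).2 (Dl_gl l m φ y)⟩
  · have hn : n1 ∈ G0 K e :=
      mul_mem (hR 0 (by decide)) (mul_mem (hR 12 (by decide)) (hR 0 (by decide)))
    refine ⟨⟨_, inl_mem hθ hs H hn⟩, fun y hy => ?_, inl_conj hθ hs hn ?_⟩
    · obtain ⟨y', h1, h2⟩ := weyl (n := n1) (Q1 K) (y := y)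
        ⟨1, one_mem _, by simp [mem_Q1.1 hy, rr_zero]⟩ (n1_gl (by decide) (by decide) _)
        (n1_gl (by decide) (by decide) _) fun k hk h0 _ _ => n1_gl hk h0
      exact ⟨y', h1, inl_conj hθ hs hn h2⟩
    · change n1 * gl (rr 11 1) * n1⁻¹ = gl (rr 10 1)
      rw [gl_rr (by decide), gl_rr (by decide), n1_R (by decide)]
      rfl
  · have hn : n8 ∈ G0 K e := mul_mem (hR 3 (by decide)) (mul_mem (hR 14 (by decide))
      (mul_mem (hR 3 (by decide)) (mul_mem (hR 14 (by decide)) (hR 3 (by decide)))))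
    refine ⟨⟨_, inl_mem hθ hs H hn⟩, fun y hy => ?_, inl_conj hθ hs hn ?_⟩
    · obtain ⟨y', h1, h2⟩ := weyl (n := n8) (Q2 K) (y := y) (n8_gl (by decide) (by decide) (by decide) _)
        ⟨1, one_mem _, by simp [(mem_Q2.1 hy).1, rr_zero]⟩
        ⟨1, one_mem _, by simp [(mem_Q2.1 hy).2, rr_zero]⟩ fun k hk _ h1 h3 => n8_gl hk h1 h3
      exact ⟨y', h1, inl_conj hθ hs hn h2⟩
    · change n8 * gl (rr 10 1) * n8⁻¹ = gl (rr 6 1)
      rw [gl_rr (by decide), gl_rr (by decide), n8_R (by decide)]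
      rfl

end Cfsg.Agent.F4
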