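import Cfsg.Agent.Lib.F4.Mw
import Cfsg.Agent.Lib.F4.Bas0

/-! The relations between the root elements of the coordinate group. -/

set_option autoImplicit false
set_option maxRecDepth 100000
set_option linter.unusedSectionVars false
set_option linter.unusedSimpArgs false

namespace Cfsg.Agent.F4.Md

variable {K : Type} [Field K] [Rf K]

/-- Root elements in the order of the upper central series. -/
def rr : ℕ → K → P K
  | 0 => rx1 | 1 => ry8 | 2 => ry2 | 3 => rz8 | 4 => ry6 | 5 => ry4 | 6 => rz2 | 7 => rx7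
  | 8 => rx3 | 9 => rx5 | 10 => rz6 | 11 => rz4 | _ => fun _ => 1

/-- Words in the root elements. -/
def pp (t u : K) (w : List (ℕ × Mon)) : P K := (w.map fun p => rr p.1 (ev t u p.2)).prod

theorem rr_rl0 {j : ℕ} (hj : j < 12) (h : 0 < j) (t u : K) :
    rr j u * rr 0 t = rr 0 t * pp t u (rl 0 j) := by
  interval_cases j <;> simp only [pp, rl, rr, ev, List.map_cons, List.map_nil, List.prod_cons,
    List.prod_nil, pow_zero, pow_one, mul_one, one_mul] <;> ext <;> simp [Rf.s_s] <;> grind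

theorem rr_rl1 {j : ℕ} (hj : j < 12) (h : 1 < j) (t u : K) :
    rr j u * rr 1 t = rr 1 t * pp t u (rl 1 j) := by
  interval_cases j <;> simp only [pp, rl, rr, ev, List.map_cons, List.map_nil, List.prod_cons,
    List.prod_nil, pow_zero, pow_one, mul_one, one_mul] <;> ext <;> simp [Rf.s_s] <;> grind

theorem rr_rl2 {j : ℕ} (hj : j < 12) (h : 2 < j) (t u : K) :
    rr j u * rr 2 t = rr 2 t * pp t u (rl 2 j) := by
  interval_cases j <;> simp only [pp, rl, rr, ev, List.map_cons, List.map_nil, List.prod_cons,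
    List.prod_nil, pow_zero, pow_one, mul_one, one_mul] <;> ext <;> simp [Rf.s_s] <;> grind

theorem rr_rl3 {j : ℕ} (hj : j < 12) (h : 3 < j) (t u : K) :
    rr j u * rr 3 t = rr 3 t * pp t u (rl 3 j) := by
  interval_cases j <;> simp only [pp, rl, rr, ev, List.map_cons, List.map_nil, List.prod_cons,
    List.prod_nil, pow_zero, pow_one, mul_one, one_mul] <;> ext <;> simp [Rf.s_s] <;> grind

theorem rr_rl4 {j : ℕ} (hj : j < 12) (h : 4 < j) (t u : K) :
    rr j u * rr 4 t = rr 4 t * pp t u (rl 4 j) := by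
  interval_cases j <;> simp only [pp, rl, rr, ev, List.map_cons, List.map_nil, List.prod_cons,
    List.prod_nil, pow_zero, pow_one, mul_one, one_mul] <;> ext <;> simp [Rf.s_s] <;> grind

set_option maxHeartbeats 1000000 in
theorem rr_rl5 {i j : ℕ} (hj : j < 12) (hi : 5 ≤ i) (h : i < j) (t u : K) :
    rr j u * rr i t = rr i t * pp t u (rl i j) := by
  have : i < 11 := by omega
  interval_cases i <;> interval_cases j <;> simp only [pp, rl, rr, ev, List.map_cons, List.map_nil,
    List.prod_cons, List.prod_nil, pow_zero, pow_one, mul_one, one_mul] <;> ext <;>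
    simp [Rf.s_s] <;> grind

theorem rr_rl {i j : ℕ} (hj : j < 12) (h : i < j) (t u : K) :
    rr j u * rr i t = rr i t * pp t u (rl i j) := by
  rcases i with _ | _ | _ | _ | _ | i
  exacts [rr_rl0 hj h t u, rr_rl1 hj h t u, rr_rl2 hj h t u, rr_rl3 hj h t u, rr_rl4 hj h t u,
    rr_rl5 hj (by omega) h t u]

theorem rr_add {k : ℕ} (hk : k < 12) (t u : K) :
    rr k t * rr k u = rr k (t + u) * rr (zk k) (t * σ u) := by
  interval_cases k <;> simp only [zk, rr] <;> ext <;> simp

theorem rr_zero (k : ℕ) : rr k (0 : K) = 1 := by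
  unfold rr; split <;> rfl

theorem ind (M : Submonoid (P K)) (g : P K) (h0 : rr 0 g.x1 ∈ M) (h1 : rr 1 g.y8 ∈ M)
    (h3 : rr 3 g.z8 ∈ M) (h : ∀ k < 12, k ≠ 0 → k ≠ 1 → k ≠ 3 → ∀ t, rr k t ∈ M) : g ∈ M := by
  rw [nf g]
  repeat' apply M.mul_mem
  exacts [h0, h 2 (by decide) (by decide) (by decide) (by decide) _,
    h 6 (by decide) (by decide) (by decide) (by decide) _,
    h 8 (by decide) (by decide) (by decide) (by decide) _,
    h 5 (by decide) (by decide) (by decide) (by decide) _,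
    h 11 (by decide) (by decide) (by decide) (by decide) _,
    h 9 (by decide) (by decide) (by decide) (by decide) _,
    h 4 (by decide) (by decide) (by decide) (by decide) _,
    h 10 (by decide) (by decide) (by decide) (by decide) _,
    h 7 (by decide) (by decide) (by decide) (by decide) _, h1, h3]

theorem ind' (M : Submonoid (P K)) (h : ∀ k < 12, ∀ t, rr k t ∈ M) (g : P K) : g ∈ M :=
  ind M g (h 0 (by decide) _) (h 1 (by decide) _) (h 3 (by decide) _) fun k hk _ _ _ => h k hk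

theorem eq_of_central {g : P K} (h : ∀ x, x * g = g * x) : g = rr 11 g.z4 := by
  have a1 : g.x1 = 0 := by simpa using congrArg P.z4 (h (rz6 1))
  have a2 : g.y2 = 0 := by simpa using congrArg P.z4 (h (rx5 1))
  have a3 : g.y8 = 0 := by simpa using congrArg P.z6 (h (rx5 1))
  have a4 : g.z8 = 0 := by simpa using congrArg P.z6 (h (rx3 1))
  have a5 : g.y6 = 0 := by simpa [a1, a2, a3, a4] using congrArg P.z4 (h (rx3 1))
  have a6 : g.y4 = 0 := by simpa [a1, a2, a3, a4] using congrArg P.z6 (h (rx7 1))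
  have a7 : g.z2 = 0 := by simpa [a1, a2, a3, a4] using congrArg P.z4 (h (rx7 1))
  have a8 : g.x7 = 0 := by simpa [a1, a2, a3, a4] using congrArg P.z4 (h (rz2 1))
  have a9 : g.x3 = 0 := by simpa [a1, a2, a3, a4] using congrArg P.z4 (h (ry6 1))
  have a10 : g.x5 = 0 := by simpa [a1, a2, a3, a4, a5, a6, a8] using congrArg P.z4 (h (ry2 1))
  have a11 : g.z6 = 0 := by simpa [a1, a2, a3, a4, a5, a6, a8] using congrArg P.z4 (h (rx1 1))
  ext <;> simp [rr, a1, a2, a3, a4, a5, a6, a7, a8, a9, a10, a11]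

/-- The character of a letter. -/
def ch (l m : K) : ℕ → K
  | 0 => l | 1 => m | 2 => l * m | 3 => m * σ m | 4 => l * m * σ m | 5 => σ l * m * σ m
  | 6 => l * σ l * m * σ m | 7 => l * m ^ 2 * σ m | 8 => l * σ l * m ^ 2 * σ m
  | 9 => l * σ l * m ^ 2 * σ m ^ 2 | 10 => l * σ l * m ^ 3 * σ m ^ 2
  | 11 => l ^ 2 * σ l * m ^ 3 * σ m ^ 2 | 12 => l⁻¹ | 13 => m⁻¹ | _ => (m * σ m)⁻¹

theorem dg_rr (l m : Kˣ) (φ : K ≃+* K) {k : ℕ} (hk : k < 12) (t : K) :
    dg l m φ (rr k t) = rr k (ch (l : K) m k * φ t) := by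
  interval_cases k <;> ext <;> simp [rr, ch]

theorem rr_Q1 {k : ℕ} (hk : k ≠ 0) (t : K) : rr k t ∈ Q1 K := by
  unfold rr; split <;> first | exact absurd rfl hk | rfl

theorem rr_Q2 {k : ℕ} (h1 : k ≠ 1) (h3 : k ≠ 3) (t : K) : rr k t ∈ Q2 K := by
  unfold rr; split <;> first | exact absurd rfl h1 | exact absurd rfl h3 | exact ⟨rfl, rfl⟩

end Cfsg.Agent.F4.Md
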