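import Cfsg.Agent.Lib.F4.Mw

/-! The group `²F₄(q)` as a `Tw` structure (adapted from Lib/Chev/TwW, WF4). -/

set_option autoImplicit false
set_option maxRecDepth 100000

namespace Cfsg.Agent.F4.Md

open Cfsg.Lie Cfsg.Agent.Chev TwTab Sys

section
variable {T : Tab} {K : Type} [Field K] [Finite K]

theorem exists_tw {D : ChevalleyDatum} (ok : T.OK D.rank D.nroots)
    (hl : T.cLink D D.rank D.nroots = true) {V : TwTab} (h : V.cTw T D.rank D.nroots = true)
    (θ : K →+* K) (hP : (V.P : K) = 0) {rk : ℕ → ℕ}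
    (hc : T.cConn D.rank D.nroots V.cid rk = true) (Ws : Set (List (ℕ × K)))
    (hfix : ∀ w ∈ Ws, (wprod ok w, wprod ok w) ∈ (mkTw0 ok h θ hP).Γ)
    (hlev : ∀ w ∈ Ws, ∃ k < D.rank, (w.map Prod.fst).all (V.inB T D.rank k) = true)
    (g : ℕ → ℕ) (Ks : List (ℕ × List ℕ × List ℕ))
    (hK : ((allN D.rank fun i => Ks.any fun k => Nat.beq (V.cid i) (V.cid k.1)) &&
      Ks.all fun k => V.cStep T D.rank D.nroots k.1 g k.2.1 k.2.2) = true)
    (hA : ∀ k ∈ Ks, ∀ β ∈ k.2.1, ∀ c, ∃ w : List (ℕ × K), (w.map Prod.fst).all (fun r =>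
      posB T D.rank r && V.inB T D.rank k.1 r &&
        Nat.ble (fB T D.rank g β + 1) (fB T D.rank g r)) = true ∧
      ∃ w' ∈ Ws, wprod ok ((β, c) :: w) = wprod ok w')
    (hC : ∀ k ∈ Ks, ∀ β ∈ k.2.2, ∀ c, (-1) ^ V.sg β * θ c ^ V.mm β = c → [(β, c)] ∈ Ws)
    (hcrd : ∀ i < D.rank, ∃ w ∈ Ws, (w.map Prod.fst).all (fun r =>
      posB T D.rank r && V.inB T D.rank i r) = true ∧
      (w.map fun p => if p.1 = T.siN i then p.2 else 0).sum ≠ 0)
    (hV : ∀ k ∈ Ks, ∃ r c w, (r, c) :: w ∈ Ws ∧ c ≠ 0 ∧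
      ((r :: w.map Prod.fst).all (fun r => !(posB T D.rank r) && V.inB T D.rank k.1 r) &&
        (Nat.ble (r + 1) D.nroots && Nat.ble (fB T D.rank g r) (sumN D.rank fun j => g j * 8) &&
      (w.map Prod.fst).all fun s => Nat.ble (fB T D.rank g s + 1) (fB T D.rank g r))) = true) :
    ∃ W : Tw (Tab.mkSys ok K), W.toTw0 = mkTw0 ok h θ hP ∧ W.H = D.genSubgroup K Ws := by
  rw [gen_eq ok hl]
  have hmem : ∀ w ∈ Ws, wprod ok w ∈ Subgroup.closure (wprod ok '' Ws) := fun w hw =>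
    Subgroup.subset_closure ⟨w, hw, rfl⟩
  have hH : ∀ y ∈ Subgroup.closure (wprod ok '' Ws), (y, y) ∈ (mkTw0 ok h θ hP).Γ := by
    have : Subgroup.closure (wprod ok '' Ws) ≤ (mkTw0 ok h θ hP).Γ.comap
        ((MonoidHom.id _).prod (MonoidHom.id _)) :=
      (Subgroup.closure_le _).2 (by rintro _ ⟨w, hw, rfl⟩; exact hfix w hw)
    exact fun y hy => this hy
  simp only [Bool.and_eq_true, allN_iff, List.any_eq_true, List.all_eq_true, beq_t] at hK
  obtain ⟨hK1, hK2⟩ := hK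
  refine ⟨
    { toTw0 := mkTw0 ok h θ hP
      H := Subgroup.closure (wprod ok '' Ws)
      H_le := fun Q hQ => (Subgroup.closure_le _).2 ?_
      U_fix := fun i u hu hf => ?_
      crd := fun i => ?_
      V_ne := fun i => ?_
      conn := fun J h1 h2 h3 => Tab.conn_sound ok hc J h1 h2 h3 }, rfl, rfl⟩
  · rintro _ ⟨w, hw, rfl⟩
    obtain ⟨k, hk, h1⟩ := hlev w hw
    exact hQ _ (hmem w hw) (hfix w hw) ⟨k, hk⟩
      (wprod_mem ok (fun r hr t => xN_mem_G ok hr t) h1)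
  · obtain ⟨k, hk, e⟩ := hK1 i i.2
    change u ∈ (Tab.mkSys ok K).U ((Tab.mkSys ok K).PJ {j | V.cid j = V.cid i}) at hu
    rw [e] at hu
    refine U_fix_tab ok h θ hP _ hH (hK2 k hk) (fun β hβ c => ?_) (fun β hβ c hc => ?_) hu hf
    · obtain ⟨w, h1, w', hw', h2⟩ := hA k hk β hβ c
      refine ⟨wprod ok w, wprod_mem ok (fun r hr t => xN_mem_AJ ok hr t) h1, ?_⟩
      rw [wprod_cons, xN_eq ok β.2] at h2
      rw [h2]
      exact hmem w' hw'
    · have := hmem _ (hC k hk β hβ c hc)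
      rwa [wprod_cons, wprod_nil, mul_one, xN_eq ok β.2] at this
  · obtain ⟨w, hw, h1, h2⟩ := hcrd i i.2
    exact ⟨_, wprod_mem ok (fun r hr t => xN_mem_UP ok hr t) h1, hmem w hw,
      by rwa [crd_wprod ok h1]⟩
  · obtain ⟨k, hk, e⟩ := hK1 i i.2
    obtain ⟨r, c, w, hw, hc, h1⟩ := hV k hk
    rw [Bool.and_eq_true] at h1
    refine ⟨_, ?_, hmem _ hw, wprod_ne_one ok h1.2 hc⟩
    change _ ∈ (Tab.mkSys ok K).U {r | ¬ (Tab.mkSys ok K).Pos r ∧
      (Tab.mkSys ok K).In {j | V.cid j = V.cid i} r}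
    rw [e]
    exact wprod_mem ok (fun r hr t => xN_mem_UN ok hr t) h1.1

end

/-- The Chevalley system. -/
noncomputable abbrev SD (K : Type) [Field K] := Tab.mkSys ok4 K

theorem twok4 : twF4.cTw tabF4 4 48 = true := twokF4

variable {K : Type} [Field K] [Finite K] [CharP K 2]

omit [Finite K] in
theorem hP2 : ((twF4.P : ℕ) : K) = 0 := CharP.cast_eq_zero K 2

/-- The twisting data. -/
noncomputable abbrev T0 (θ : K →+* K) : Tw0 (SD K) := TwTab.mkTw0 ok4 twok4 θ hP2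

theorem exists_tw2 {e : ℕ} (θ : K →+* K) (hθ : ∀ x, θ x = x ^ e) (h2 : ∀ x, θ (θ x) ^ 2 = x) :
    ∃ W : Tw (SD K), W.toTw0 = T0 θ ∧ W.H = twistedF4 K e := by
  have hP : ((twF4.P : ℕ) : K) = 0 := CharP.cast_eq_zero K 2
  have hsur : Function.Surjective θ := Finite.surjective_of_injective θ.injective
  have e1 : ∀ a b, ∀ t : K, f4PairWord e a b t = [(a, θ t), (b, t)] := by
    intro a b t; rw [hθ]; rfl
  have e2 : ∀ a b c d, ∀ t u : K, b2ClassWord e a b c d t u =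
      [(a, θ t), (b, t), (c, θ t * t + u), (d, θ u ^ 2)] := by
    intro a b c d t u
    rw [hθ, hθ, ← pow_succ, ← pow_mul, mul_comm e 2]; rfl
  have p1 : ∀ t : K, [(33, θ t), (24, t)] ∈ f4Words K e :=
    fun t => Or.inl ⟨t, Or.inl (e1 _ _ t).symm⟩
  have p2 : ∀ t : K, [(14, θ t), (23, t)] ∈ f4Words K e :=
    fun t => Or.inl ⟨t, Or.inr (e1 _ _ t).symm⟩
  have p3 : ∀ t u : K, [(27, θ t), (25, t), (28, θ t * t + u), (30, θ u ^ 2)] ∈ f4Words K e :=
    fun t u => Or.inr ⟨t, u, Or.inl (e2 _ _ _ _ t u).symm⟩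
  have p4 : ∀ t u : K, [(20, θ t), (22, t), (19, θ t * t + u), (17, θ u ^ 2)] ∈ f4Words K e :=
    fun t u => Or.inr ⟨t, u, Or.inr (e2 _ _ _ _ t u).symm⟩
  have f1 : ∀ a b, (Nat.ble (a + 1) 48 && Nat.beq (twF4.rho a) b && Nat.beq (twF4.sg a) 0 &&
      Nat.beq (twF4.mm a) 2) = true → (Nat.ble (b + 1) 48 && Nat.beq (twF4.rho b) a &&
      Nat.beq (twF4.sg b) 0 && Nat.beq (twF4.mm b) 1) = true →
      (∀ t u : K, xN okF4 a t * xN okF4 b u = xN okF4 b u * xN okF4 a t) → ∀ t : K,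
      (wprod okF4 [(a, θ t), (b, t)], wprod okF4 [(a, θ t), (b, t)]) ∈
        (mkTw0 okF4 twokF4 θ hP).Γ := by
    intro a b ha hb hc t
    have := (mkTw0 okF4 twokF4 θ hP).gmul (xN_Γ okF4 twokF4 θ hP ha (θ t))
      (xN_Γ okF4 twokF4 θ hP hb t)
    simp only [pow_zero, pow_one, one_mul, h2, ← hc] at this
    simpa [wprod_cons, wprod_nil] using this
  have f2 : ∀ a b c d, (Nat.ble (a + 1) 48 && Nat.beq (twF4.rho a) b && Nat.beq (twF4.sg a) 0 &&
      Nat.beq (twF4.mm a) 2) = true → (Nat.ble (b + 1) 48 && Nat.beq (twF4.rho b) a &&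
      Nat.beq (twF4.sg b) 0 && Nat.beq (twF4.mm b) 1) = true →
      (Nat.ble (c + 1) 48 && Nat.beq (twF4.rho c) d && Nat.beq (twF4.sg c) 0 &&
      Nat.beq (twF4.mm c) 2) = true → (Nat.ble (d + 1) 48 && Nat.beq (twF4.rho d) c &&
      Nat.beq (twF4.sg d) 0 && Nat.beq (twF4.mm d) 1) = true →
      ((([(b, 0, 2), (a, 0, 3), (d, 0, 3 * 3 * 2), (d, 0, 7), (c, 0, 5)] ++
        [(a, 0, 3), (b, 0, 2), (c, 0, 3 * 2), (c, 0, 5), (d, 0, 7)] : List (ℕ × ℕ × ℕ)).all
        (fun q => Nat.ble (q.1 + 1) 48) && eqW (4 + 48) 2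
        ([(b, 0, 2), (a, 0, 3), (d, 0, 3 * 3 * 2), (d, 0, 7), (c, 0, 5)].map
          fun q : ℕ × ℕ × ℕ => tabF4.xl 4 48 q.1 q.2.1 1 q.2.2)
        ([(a, 0, 3), (b, 0, 2), (c, 0, 3 * 2), (c, 0, 5), (d, 0, 7)].map
          fun q : ℕ × ℕ × ℕ => tabF4.xl 4 48 q.1 q.2.1 1 q.2.2)) = true) → ∀ t u : K,
      (wprod okF4 [(a, θ t), (b, t), (c, θ t * t + u), (d, θ u ^ 2)],
        wprod okF4 [(a, θ t), (b, t), (c, θ t * t + u), (d, θ u ^ 2)]) ∈
        (mkTw0 okF4 twokF4 θ hP).Γ := by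
    intro a b c d ha hb hc hd hw t u
    have := (mkTw0 okF4 twokF4 θ hP).gmul (xN_Γ okF4 twokF4 θ hP ha (θ t))
      ((mkTw0 okF4 twokF4 θ hP).gmul (xN_Γ okF4 twokF4 θ hP hb t)
      ((mkTw0 okF4 twokF4 θ hP).gmul (xN_Γ okF4 twokF4 θ hP hc (θ t * t + u))
      (xN_Γ okF4 twokF4 θ hP hd (θ u ^ 2))))
    have e3 : θ (θ t * t + u) ^ 2 = θ t * θ t * t + θ u ^ 2 := by
      rw [map_add, map_mul, add_pow_char, mul_pow, h2]; ring
    simp only [pow_zero, pow_one, one_mul, h2, e3, map_pow] at this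
    obtain ⟨φ, q2, q3, q5, q7, -⟩ := exists_φ t (θ t) u (θ u ^ 2) 0
    have h4 := wprod_eq okF4 (P := 2) hP φ hw
    simp only [List.map_cons, List.map_nil, wprod_cons, wprod_nil, pow_zero, one_mul, mul_one,
      map_mul, q2, q3, q5, q7] at h4
    simp only [wprod_cons, wprod_nil, mul_one, xN_add, mul_assoc] at this h4 ⊢
    rwa [h4] at this
  refine exists_tw okF4 linkF4 twokF4 θ hP twconnF4 (f4Words K e) ?_ ?_ (fld 0x2321 4)
    [(0, [33], []), (1, [27, 28], [])] (by decide +kernel) ?_ ?_ ?_ ?_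
  · rintro _ (⟨t, rfl | rfl⟩ | ⟨t, u, rfl | rfl⟩)
    · rw [e1]
      exact f1 _ _ (by decide +kernel) (by decide +kernel)
        (xN_comm okF4 (P := 2) hP (by decide +kernel)) t
    · rw [e1]
      exact f1 _ _ (by decide +kernel) (by decide +kernel)
        (xN_comm okF4 (P := 2) hP (by decide +kernel)) t
    · rw [e2]
      exact f2 _ _ _ _ (by decide +kernel) (by decide +kernel) (by decide +kernel)
        (by decide +kernel) (by decide +kernel) t u
    · rw [e2]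
      exact f2 _ _ _ _ (by decide +kernel) (by decide +kernel) (by decide +kernel)
        (by decide +kernel) (by decide +kernel) t u
  · rintro _ (⟨t, rfl | rfl⟩ | ⟨t, u, rfl | rfl⟩) <;>
      simp only [e1, e2, List.map_cons, List.map_nil] <;> decide +kernel
  · intro k hk β hβ c
    obtain ⟨t, ht⟩ := hsur c
    simp only [List.mem_cons, List.not_mem_nil, or_false] at hk
    rcases hk with rfl | rfl <;> simp only [List.mem_cons, List.not_mem_nil, or_false] at hβ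
    · subst hβ ht
      exact ⟨_, by simp only [List.map_cons, List.map_nil]; decide +kernel, _, p1 t, rfl⟩
    · rcases hβ with rfl | rfl
      · subst ht
        exact ⟨_, by simp only [List.map_cons, List.map_nil]; decide +kernel, _, p3 t 0, rfl⟩
      · exact ⟨[(30, θ c ^ 2)], by simp only [List.map_cons, List.map_nil]; decide +kernel, _, p3 0 c,
          by simp [wprod_cons, xN_zero]⟩
  · intro k hk β hβ c hc
    simp only [List.mem_cons, List.not_mem_nil, or_false] at hk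
    rcases hk with rfl | rfl <;> simp only [List.not_mem_nil] at hβ
  · intro i hi
    change i < 4 at hi
    interval_cases i
    · exact ⟨_, p1 1, by simp only [List.map_cons, List.map_nil]; decide +kernel,
        by rw [show tabF4.siN 0 = 33 by decide +kernel]; simp⟩
    · exact ⟨_, p3 1 0, by simp only [List.map_cons, List.map_nil]; decide +kernel,
        by rw [show tabF4.siN 1 = 27 by decide +kernel]; simp⟩
    · exact ⟨_, p3 1 0, by simp only [List.map_cons, List.map_nil]; decide +kernel,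
        by rw [show tabF4.siN 2 = 25 by decide +kernel]; simp⟩
    · exact ⟨_, p1 1, by simp only [List.map_cons, List.map_nil]; decide +kernel,
        by rw [show tabF4.siN 3 = 24 by decide +kernel]; simp⟩
  · intro k hk
    simp only [List.mem_cons, List.not_mem_nil, or_false] at hk
    rcases hk with rfl | rfl
    · exact ⟨_, _, _, p2 1, by simp, by simp only [List.map_cons, List.map_nil]; decide +kernel⟩
    · exact ⟨_, _, _, p4 1 0, by simp, by simp only [List.map_cons, List.map_nil]; decide +kernel⟩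

end Cfsg.Agent.F4.Md
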