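import Cfsg.Agent.Lib.F4.Mi
import Cfsg.Agent.Lib.F4.Mt

/-! The Sylow subgroup of `²F₄(q)` and its normalizer. -/

set_option autoImplicit false
set_option maxRecDepth 100000
set_option linter.unusedSectionVars false

namespace Cfsg.Agent.F4.Md

open Subgroup Matrix Cfsg.Lie Cfsg.Agent.Chev Cfsg.Agent.Tr TwTab Sys Sum

theorem U_fix_tab {V V' : TwTab} {T : Tab} {l n : ℕ} {K : Type} [Field K] [Finite K]
    (hρ : V'.rho = V.rho) (ok : T.OK l n) (h : V.cTw T l n = true) (θ : K →+* K) (hP : (V.P : K) = 0)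
    (H : Subgroup (GL (Fin l ⊕ Fin n) K)) (hH : ∀ y ∈ H, (y, y) ∈ (mkTw0 ok h θ hP).Γ)
    {k : ℕ} {g : ℕ → ℕ} {A C : List ℕ} (hs : V'.cStep T l n k g A C = true)
    (hA : ∀ β : Fin n, (β : ℕ) ∈ A → ∀ c, ∃ y ∈ (Tab.mkSys ok K).U
      ((Tab.mkSys ok K).AJ {j : Fin l | V'.cid j = V'.cid k} (fun j => (g j : ℤ))
      (fn (fun j : Fin l => (g j : ℤ)) ((Tab.mkSys ok K).rt β) + 1)),
        (Tab.mkSys ok K).x β c * y ∈ H)
    (hC : ∀ β : Fin n, (β : ℕ) ∈ C → ∀ c, (-1) ^ V.sg β * θ c ^ V.mm β = c →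
      (Tab.mkSys ok K).x β c ∈ H)
    {u : GL (Fin l ⊕ Fin n) K}
    (hu : u ∈ (Tab.mkSys ok K).U ((Tab.mkSys ok K).PJ {j : Fin l | V'.cid j = V'.cid k}))
    (hf : (u, u) ∈ (mkTw0 ok h θ hP).Γ) : u ∈ H := by
  simp only [cStep, Bool.and_eq_true, Bool.or_eq_true, allN_iff, beq_t, Nat.ble_eq,
    Bool.not_eq_true', beq_f, List.any_eq_true, Bool.and_eq_false_iff, hρ] at hs
  obtain ⟨h1, h2⟩ := hs
  have hpj : ∀ r : Fin n, r ∈ (Tab.mkSys ok K).PJ {j : Fin l | V'.cid j = V'.cid k} →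
      ¬ (posB T l r = false ∨ V'.inB T l k r = false) := by
    intro r hr
    rw [(posB_iff ok.rd r).2 hr.1, (inB_iff ok.rd k r).2 hr.2]; simp
  have ef : ∀ r : Fin n, fn (fun j : Fin l => (g j : ℤ)) ((Tab.mkSys ok K).rt r) =
      fB T l g r - ∑ j : Fin l, (g j : ℤ) * 8 := fB_eq ok.rd g
  refine U_fix_of (mkTw0 ok h θ hP) H hH (g := fun j => (g j : ℤ))
    (fun j => by have := h1 j j.2; omega) ?_ ?_ hu hf
  · intro r hr r' hr' e
    rw [ef, ef] at e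
    rcases ((h2 r r.2).resolve_left (hpj r hr)).1 r' r'.2 with (h3 | h3) | h3
    · exact absurd h3 (hpj r' hr')
    · omega
    · exact Fin.ext h3
  · intro β hβ
    rcases ((h2 β β.2).resolve_left (hpj β hβ)).2 with (⟨x, hx, e⟩ | ⟨h3, h4⟩) | ⟨⟨⟨x, hx, e⟩, h3⟩, h4⟩
    · exact Or.inl (hA β (e ▸ hx))
    · refine Or.inr (Or.inl ⟨?_, fun s hs => ?_⟩)
      · rw [ef, ef]
        change (fB T l g (V.rho β) : ℤ) - _ < _
        omega
      · have h5 := hs.2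
        rw [ef, ef] at h5
        rw [ef, ef]
        change (fB T l g (V.rho β) : ℤ) - _ < (fB T l g (V.rho s) : ℤ) - _
        rcases h4 s s.2 with (h6 | h6) | h6
        · exact absurd h6 (hpj s hs.1)
        · omega
        · omega
    · refine Or.inr (Or.inr ⟨Fin.ext h3, Set.eq_empty_of_forall_notMem fun s hs => ?_,
        hC β (e ▸ hx)⟩)
      have h5 := hs.2
      rw [ef, ef] at h5
      rcases h4 s s.2 with h6 | h6
      · exact absurd h6 (hpj s hs.1)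
      · omega

/-- One class only. -/
def twU : TwTab := { twF4 with CID := 0 }

theorem twU_univ : {j : Fin 4 | twU.cid j = twU.cid 0} = Set.univ :=
  Set.eq_univ_of_forall (by decide +kernel : ∀ j : Fin 4, twU.cid j = twU.cid 0)

/-- The roots. -/
def rtF : Fin 48 → Fin 4 → ℤ :=
  ![![-2, -4, -3, -2], ![-2, -4, -3, -1], ![-2, -4, -2, -1], ![-2, -3, -2, -1], ![-2, -2, -2,
    -1], ![-2, -2, -1, -1], ![-2, -2, -1, 0], ![-1, -3, -2, -1], ![-1, -2, -2, -1], ![-1, -2,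
    -1, -1], ![-1, -2, -1, 0], ![-1, -1, -1, -1], ![-1, -1, -1, 0], ![-1, -1, 0, 0], ![-1, 0, 0,
    0], ![0, -2, -2, -1], ![0, -2, -1, -1], ![0, -2, -1, 0], ![0, -1, -1, -1], ![0, -1, -1, 0],
    ![0, -1, 0, 0], ![0, 0, -1, -1], ![0, 0, -1, 0], ![0, 0, 0, -1], ![0, 0, 0, 1], ![0, 0, 1,
    0], ![0, 0, 1, 1], ![0, 1, 0, 0], ![0, 1, 1, 0], ![0, 1, 1, 1], ![0, 2, 1, 0], ![0, 2, 1,
    1], ![0, 2, 2, 1], ![1, 0, 0, 0], ![1, 1, 0, 0], ![1, 1, 1, 0], ![1, 1, 1, 1], ![1, 2, 1,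
    0], ![1, 2, 1, 1], ![1, 2, 2, 1], ![1, 3, 2, 1], ![2, 2, 1, 0], ![2, 2, 1, 1], ![2, 2, 2,
    1], ![2, 3, 2, 1], ![2, 4, 2, 1], ![2, 4, 3, 1], ![2, 4, 3, 2]]

theorem rtF_eq : ∀ (r : Fin 48) (j : Fin 4), (tabF4.rtN r j : ℤ) - 8 = rtF r j := by
  decide +kernel

variable {K : Type} [Field K]

theorem rt_eq (r : Fin 48) : (SD K).rt r = rtF r := funext fun j => rtF_eq r j

/-- Diagonal entries. -/
noncomputable def ce (n : GL (Fin 4 ⊕ Fin 48) K) (r : ℕ) : K :=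
  if h : r < 48 then (n : Matrix (Fin 4 ⊕ Fin 48) (Fin 4 ⊕ Fin 48) K) (inr ⟨r, h⟩) (inr ⟨r, h⟩) else 1

/-- Field maps. -/
noncomputable abbrev gmap (φ : K →+* K) : GL (Fin 4 ⊕ Fin 48) K →* GL (Fin 4 ⊕ Fin 48) K :=
  Matrix.GeneralLinearGroup.map φ

theorem gmap_X (φ : K →+* K) (r : ℕ) (t : K) : gmap φ (X r t) = X r (φ t) := by
  unfold X xN
  split_ifs with h
  · ext1
    exact cmat_map φ true _ t
  · exact map_one _

variable [Finite K]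

theorem mono_X {n : GL (Fin 4 ⊕ Fin 48) K} (h : (n, 1) ∈ (SD K).Mono) (r : ℕ) (t : K) :
    n * X r t * n⁻¹ = X r (ce n r * t) := by
  unfold X xN ce
  split_ifs with hr
  · exact Mono.conj h ⟨r, hr⟩ t
  · simp

theorem ce_ne {n : GL (Fin 4 ⊕ Fin 48) K} (h : (n, 1) ∈ (SD K).Mono) (r : ℕ) : ce n r ≠ 0 := by
  unfold ce
  split_ifs with hr
  · exact Sys.Mono.c_ne h ⟨r, hr⟩
  · exact one_ne_zero

theorem ce_step {n : GL (Fin 4 ⊕ Fin 48) K} (h : (n, 1) ∈ (SD K).Mono) {s β s' k : ℕ}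
    (hc : s < 48 ∧ β < 48 ∧ s' < 48 ∧ k < 4 ∧
      coefZ (decT (tabF4.colX 4 48 β (4 + s'))) (4 + s) k ^ 2 = 1) :
    ce n s = ce n β ^ k * ce n s' := by
  obtain ⟨hs, hβ, hs', hk, hc⟩ := hc
  have hE : (SD K).E ⟨β, hβ⟩ k (inr ⟨s, hs⟩) (inr ⟨s', hs'⟩) ≠ 0 := fun h0 => by
    change ((coefZ (decT (tabF4.colX 4 48 β (4 + s'))) (4 + s) k : ℤ) : K) = 0 at h0
    have := congrArg (Int.cast : ℤ → K) hc
    rw [Int.cast_pow, h0] at this
    simp at this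
  obtain ⟨k1, hw⟩ := (SD K).E_wt _ _ _ _ hE
  have he : ∀ t, (SD K).xm ⟨β, hβ⟩ t (inr ⟨s, hs⟩) (inr ⟨s', hs'⟩) =
      t ^ k * (SD K).E ⟨β, hβ⟩ k (inr ⟨s, hs⟩) (inr ⟨s', hs'⟩) := fun t => by
    have hne : (inr ⟨s, hs⟩ : Fin 4 ⊕ Fin 48) ≠ inr ⟨s', hs'⟩ := fun e => by
      rw [e, left_eq_add, ← zero_nsmul ((SD K).rt ⟨β, hβ⟩)] at hw
      have := RD.nsmul_inj hw
      omega
    rw [(SD K).xm_eq, Matrix.add_apply, one_apply_ne hne, zero_add, Matrix.sum_apply,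
      Finset.sum_eq_single k]
    · simp
    · intro j _ hj
      by_contra h0
      have h2 := ((SD K).E_wt ⟨β, hβ⟩ j (inr ⟨s, hs⟩) (inr ⟨s', hs'⟩)
        (fun h1 => h0 (by simp [h1]))).2
      exact hj (RD.nsmul_inj (add_left_cancel (h2.symm.trans hw)))
    · simp [hk]
  have h1 := congrArg (fun g : GL (Fin 4 ⊕ Fin 48) K => g.1 (inr ⟨s, hs⟩)
    (inr ⟨s', hs'⟩)) (h.2.2 ⟨β, hβ⟩ 1)
  have h2 := Mono.row h ((SD K).xm ⟨β, hβ⟩ 1) ⟨s, hs⟩ (inr ⟨s', hs'⟩)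
  simp only [Units.val_mul, x_val, Equiv.Perm.one_apply] at h1 h2
  rw [h2, Mono.col h, Equiv.Perm.one_apply, he, he] at h1
  simp only [ce, dif_pos hs, dif_pos hβ, dif_pos hs']
  exact mul_right_cancel₀ hE (by linear_combination h1)

theorem ce_ext {n n' : GL (Fin 4 ⊕ Fin 48) K} (h : (n, 1) ∈ (SD K).Mono)
    (h' : (n', 1) ∈ (SD K).Mono) (h33 : ce n 33 = ce n' 33) (h27 : ce n 27 = ce n' 27)
    (h25 : ce n 25 = ce n' 25) (h24 : ce n 24 = ce n' 24) {r : ℕ} (hr : 24 ≤ r) :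
    ce n r = ce n' r := by
  have st : ∀ s β s' k, s < 48 ∧ β < 48 ∧ s' < 48 ∧ k < 4 ∧
      coefZ (decT (tabF4.colX 4 48 β (4 + s'))) (4 + s) k ^ 2 = 1 → ce n β = ce n' β →
      ce n s' = ce n' s' → ce n s = ce n' s := fun s β s' k hc a b => by
    rw [ce_step h hc, ce_step h' hc, a, b]
  have h26 := st 26 25 24 1 (by decide +kernel) h25 h24
  have h28 := st 28 27 25 1 (by decide +kernel) h27 h25
  have h29 := st 29 27 26 1 (by decide +kernel) h27 h26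
  have h30 := st 30 27 25 2 (by decide +kernel) h27 h25
  have h31 := st 31 24 30 1 (by decide +kernel) h24 h30
  have h32 := st 32 25 31 1 (by decide +kernel) h25 h31
  have h34 := st 34 33 27 1 (by decide +kernel) h33 h27
  have h35 := st 35 33 28 1 (by decide +kernel) h33 h28
  have h36 := st 36 33 29 1 (by decide +kernel) h33 h29
  have h37 := st 37 33 30 1 (by decide +kernel) h33 h30
  have h38 := st 38 33 31 1 (by decide +kernel) h33 h31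
  have h39 := st 39 33 32 1 (by decide +kernel) h33 h32
  have h40 := st 40 27 39 1 (by decide +kernel) h27 h39
  have h41 := st 41 33 30 2 (by decide +kernel) h33 h30
  have h42 := st 42 24 41 1 (by decide +kernel) h24 h41
  have h43 := st 43 25 42 1 (by decide +kernel) h25 h42
  have h44 := st 44 33 40 1 (by decide +kernel) h33 h40
  have h45 := st 45 30 42 1 (by decide +kernel) h30 h42
  have h46 := st 46 25 45 1 (by decide +kernel) h25 h45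
  have h47 := st 47 24 46 1 (by decide +kernel) h24 h46
  by_cases h48 : r < 48
  · interval_cases r <;> assumption
  · simp only [ce, dif_neg h48]

variable [Rf K]

/-- The torus. -/
noncomputable def Dl (l m : Kˣ) : GL (Fin 4 ⊕ Fin 48) K :=
  (SD K).tor 0 l l.ne_zero * (SD K).tor 1 m m.ne_zero * (SD K).tor 2 (σ m) (s_ne m.ne_zero) *
    (SD K).tor 3 (σ l) (s_ne l.ne_zero)

theorem Dl_mono (l m : Kˣ) : (Dl l m, 1) ∈ (SD K).Mono := by
  have := mul_mem (mul_mem (mul_mem ((SD K).tor_mono 0 l l.ne_zero)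
    ((SD K).tor_mono 1 m m.ne_zero)) ((SD K).tor_mono 2 (σ m) (s_ne m.ne_zero)))
    ((SD K).tor_mono 3 (σ l) (s_ne l.ne_zero))
  simpa [Dl] using this

theorem Dl_val (l m : Kˣ) : (Dl l m).1 = diagonal fun a => (l : K) ^ (SD K).wt a 0 *
    (m : K) ^ (SD K).wt a 1 * σ (m : K) ^ (SD K).wt a 2 * σ (l : K) ^ (SD K).wt a 3 := by
  simp only [Dl, Sys.tor, Units.val_mul, diagonal_mul_diagonal]

theorem ce_Dl (l m : Kˣ) {r : ℕ} (hr : r < 48) : ce (Dl l m) r =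
    (l : K) ^ rtF ⟨r, hr⟩ 0 * (m : K) ^ rtF ⟨r, hr⟩ 1 * σ (m : K) ^ rtF ⟨r, hr⟩ 2 *
      σ (l : K) ^ rtF ⟨r, hr⟩ 3 := by
  simp only [ce, dif_pos hr, Dl_val, diagonal_apply_eq, RD.wt_inr, rt_eq]

theorem ce_ch (l m : Kˣ) {k : ℕ} (hk : k < 15) : ce (Dl l m) (tb k).1 = ch (l : K) m k ∧
    ce (Dl l m) (tb k).2.1 = σ (ch (l : K) m k) ∧ ((tb k).2.2 = 48 ∨
      ce (Dl l m) (tb k).2.2 = ch (l : K) m k * σ (ch (l : K) m k)) := by
  interval_cases k <;> simp only [tb, ch] <;> refine ⟨?_, ?_, ?_⟩ <;>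
    first
    | exact Or.inl trivial
    | (try refine Or.inr ?_
       rw [ce_Dl _ _ (by decide)]
       simp [rtF, Rf.s_s, zpow_ofNat] <;> ring)

theorem Dl_R (l m : Kˣ) (φ : K ≃+* K) {k : ℕ} (hk : k < 15) (t : K) :
    Dl l m * gmap φ (R k t) * (Dl l m)⁻¹ = R k (ch (l : K) m k * φ t) := by
  obtain ⟨h1, h2, h3⟩ := ce_ch l m hk
  have e : ∀ a b c d : GL (Fin 4 ⊕ Fin 48) K,
      d * (a * (b * c)) * d⁻¹ = d * a * d⁻¹ * (d * b * d⁻¹ * (d * c * d⁻¹)) := fun _ _ _ _ => by group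
  simp only [R, map_mul, gmap_X, e, mono_X (Dl_mono l m), h1, h2, RingHom.coe_coe, map_s]
  rcases h3 with h3 | h3
  · rw [h3, X_big (r := 48) (by decide), X_big (r := 48) (by decide)]
  · rw [h3]
    congr 3
    ring

theorem hom_ext {G : Type} [Group G] {f g : P K →* G} (h : ∀ k < 12, ∀ t, f (rr k t) = g (rr k t))
    (y : P K) : f y = g y := ind' (f.eqLocusM g) h y

theorem Dl_gl (l m : Kˣ) (φ : K ≃+* K) (y : P K) :
    Dl l m * gmap φ (gl y) * (Dl l m)⁻¹ = gl (dg l m φ y) := by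
  have := hom_ext (f := (MulAut.conj (Dl l m)).toMonoidHom.comp ((gmap φ).comp gl))
    (g := gl.comp (dg l m φ).toMonoidHom) (fun k hk t => by
      simp only [MonoidHom.comp_apply, MulEquiv.coe_toMonoidHom, MulAut.conj_apply]
      rw [dg_rr l m φ hk, gl_rr hk, gl_rr hk, Dl_R l m φ (by omega)]) y
  simpa only [MonoidHom.comp_apply, MulEquiv.coe_toMonoidHom, MulAut.conj_apply] using this

/-- The twisted group. -/
abbrev G0 (K : Type) [Field K] (e : ℕ) : Subgroup (GL (Fin 4 ⊕ Fin 48) K) := twistedF4 K e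

variable {θ : K →+* K} {e : ℕ} (hθ : ∀ x, θ x = x ^ e) (hs : ∀ x, σ (θ x) = x)
include hs

theorem θ_s (x : K) : θ (σ x) = x := s_inj (hs _)

theorem θ_sq (x : K) : θ x ^ 2 = σ x := by rw [← Rf.s_s, hs]

include hθ

theorem G0_eq : G0 K e = Subgroup.closure {g | ∃ t u, g = R 0 t ∨ g = R 12 t ∨ g = R 1 t * R 3 u ∨
    g = R 13 t * R 14 u} := by
  have e1 : ∀ k a b, tb k = (a, b, 48) → ∀ t, wprod okF4 (f4PairWord e a b t) = R k (θ t) :=
    fun k a b h t => by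
      simp only [R, h, hs, X_big (r := 48) (by decide), f4PairWord, wprod_cons, wprod_nil, ← hθ]
      rfl
  have e2 : ∀ k k' a b c d, tb k = (a, b, c) → tb k' = (c, d, 48) → ∀ t u,
      wprod okF4 (b2ClassWord e a b c d t u) = R k (θ t) * R k' u := fun k k' a b c d h h' t u => by
    simp only [R, h, h', hs, X_big (r := 48) (by decide), b2ClassWord, wprod_cons, wprod_nil,
      pow_succ, mul_comm 2 e, pow_mul, ← hθ, pow_zero, one_mul, ← sq, θ_sq hs, xN_add, mul_assoc]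
    rfl
  refine (gen_eq okF4 linkF4 (f4Words K e)).trans ?_
  congr 1
  ext g
  constructor
  · rintro ⟨_, ⟨t, rfl | rfl⟩ | ⟨t, u, rfl | rfl⟩, rfl⟩
    · exact ⟨_, 0, Or.inl (e1 0 _ _ rfl t)⟩
    · exact ⟨_, 0, Or.inr (Or.inl (e1 12 _ _ rfl t))⟩
    · exact ⟨_, _, Or.inr (Or.inr (Or.inl (e2 1 3 _ _ _ _ rfl rfl t u)))⟩
    · exact ⟨_, _, Or.inr (Or.inr (Or.inr (e2 13 14 _ _ _ _ rfl rfl t u)))⟩
  · rintro ⟨t, u, rfl | rfl | rfl | rfl⟩ <;> rw [← θ_s hs t]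
    · exact ⟨_, Or.inl ⟨_, Or.inl rfl⟩, e1 0 _ _ rfl _⟩
    · exact ⟨_, Or.inl ⟨_, Or.inr rfl⟩, e1 12 _ _ rfl _⟩
    · exact ⟨_, Or.inr ⟨_, _, Or.inl rfl⟩, e2 1 3 _ _ _ _ rfl rfl _ u⟩
    · exact ⟨_, Or.inr ⟨_, _, Or.inr rfl⟩, e2 13 14 _ _ _ _ rfl rfl _ u⟩

theorem R_mem {k : ℕ} (hk : k < 15) (t : K) : R k t ∈ G0 K e := by
  have b : ∀ {g}, (∃ t u, g = R 0 t ∨ g = R 12 t ∨ g = R 1 t * R 3 u ∨ g = R 13 t * R 14 u) →
      g ∈ G0 K e := fun h => G0_eq hθ hs ▸ Subgroup.subset_closure h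
  have h0 : ∀ t, R 0 t ∈ G0 K e := fun t => b ⟨t, 0, Or.inl rfl⟩
  have h12 : ∀ t, R 12 t ∈ G0 K e := fun t => b ⟨t, 0, Or.inr (Or.inl rfl)⟩
  have h1 : ∀ t, R 1 t ∈ G0 K e := fun t => b ⟨t, 0, by simp [R_zero]⟩
  have h3 : ∀ t, R 3 t ∈ G0 K e := fun t => b ⟨0, t, by simp [R_zero]⟩
  have h13 : ∀ t, R 13 t ∈ G0 K e := fun t => b ⟨t, 0, by simp [R_zero]⟩
  have h14 : ∀ t, R 14 t ∈ G0 K e := fun t => b ⟨0, t, by simp [R_zero]⟩
  have m1 : n1 ∈ G0 K e := mul_mem (h0 _) (mul_mem (h12 _) (h0 _))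
  have m8 : n8 ∈ G0 K e := mul_mem (h3 _) (mul_mem (h14 _) (mul_mem (h3 _) (mul_mem (h14 _) (h3 _))))
  have c1 : ∀ k < 12, (∀ t, R k t ∈ G0 K e) → ∀ t, R (p1 k) t ∈ G0 K e := fun k hk h t =>
    n1_R hk t ▸ mul_mem (mul_mem m1 (h t)) (inv_mem m1)
  have c8 : ∀ k < 12, (∀ t, R k t ∈ G0 K e) → ∀ t, R (p8 k) t ∈ G0 K e := fun k hk h t =>
    n8_R hk t ▸ mul_mem (mul_mem m8 (h t)) (inv_mem m8)
  have h7 : ∀ t, R 7 t ∈ G0 K e := c8 0 (by decide) h0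
  have h8 : ∀ t, R 8 t ∈ G0 K e := c1 7 (by decide) h7
  have h9 : ∀ t, R 9 t ∈ G0 K e := c8 8 (by decide) h8
  have h2 : ∀ t, R 2 t ∈ G0 K e := c1 1 (by decide) h1
  have h6 : ∀ t, R 6 t ∈ G0 K e := c1 3 (by decide) h3
  have h4 : ∀ t, R 4 t ∈ G0 K e := c8 2 (by decide) h2
  have h10 : ∀ t, R 10 t ∈ G0 K e := c8 6 (by decide) h6
  have h5 : ∀ t, R 5 t ∈ G0 K e := c1 4 (by decide) h4
  have h11 : ∀ t, R 11 t ∈ G0 K e := c1 10 (by decide) h10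
  interval_cases k
  exacts [h0 t, h1 t, h2 t, h3 t, h4 t, h5 t, h6 t, h7 t, h8 t, h9 t, h10 t, h11 t, h12 t, h13 t,
    h14 t]

theorem G0_le {M : Subgroup (GL (Fin 4 ⊕ Fin 48) K)} (h : ∀ k < 15, ∀ t, R k t ∈ M) :
    G0 K e ≤ M := by
  rw [G0_eq hθ hs]
  refine (Subgroup.closure_le _).2 ?_
  rintro _ ⟨t, u, rfl | rfl | rfl | rfl⟩
  exacts [h 0 (by decide) t, h 12 (by decide) t, mul_mem (h 1 (by decide) t) (h 3 (by decide) u),
    mul_mem (h 13 (by decide) t) (h 14 (by decide) u)]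

theorem gl_mem (y : P K) : gl y ∈ G0 K e :=
  ind' ((G0 K e).comap gl).toSubmonoid (fun k hk t => by
    change gl _ ∈ G0 K e
    rw [gl_rr hk]
    exact R_mem hθ hs (by omega) t) y

theorem sylow_gl : SylowIn 2 gl.range (G0 K e) ∧
    ∀ g ∈ G0 K e, (∀ y : P K, ∃ y', g * gl y * g⁻¹ = gl y') →
      ∃ x l m, ∀ y : P K, g * gl y * g⁻¹ = gl (x * dg l m (RingEquiv.refl K) y * x⁻¹) := by
  obtain ⟨W, h1, h2⟩ := exists_tw2 θ hθ fun x => by rw [θ_sq hs, hs]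
  change W.H = G0 K e at h2
  have hΓ : W.Γ = (T0 θ).Γ := congrArg Tw0.Γ h1
  have hU : gl.range = W.UH := by
    refine le_antisymm ?_ fun u hu => ?_
    · rintro _ ⟨y, rfl⟩
      refine ⟨ind' (((SD K).U ((SD K).PJ Set.univ)).comap gl).toSubmonoid (fun k hk t => ?_) y,
        h2 ▸ gl_mem hθ hs y⟩
      change gl _ ∈ (SD K).U _
      obtain ⟨a, b, c⟩ := (by decide +kernel : ∀ k < 12,
        (posB tabF4 4 (tb k).1 && twU.inB tabF4 4 0 (tb k).1) = true ∧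
        (posB tabF4 4 (tb k).2.1 && twU.inB tabF4 4 0 (tb k).2.1) = true ∧ ((tb k).2.2 = 48 ∨
        (posB tabF4 4 (tb k).2.2 && twU.inB tabF4 4 0 (tb k).2.2) = true)) k hk
      rw [gl_rr hk, ← twU_univ]
      refine mul_mem (xN_mem_UP ok4 a _) (mul_mem (xN_mem_UP ok4 b _) ?_)
      rcases c with c | c
      · rw [c, X_big (by decide)]; exact one_mem _
      · exact xN_mem_UP ok4 c _
    · refine U_fix_tab (V := twF4) (V' := twU) rfl ok4 twok4 θ hP2 _ ?_ (k := 0)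
        (g := fld 0x3542 4) (A := (List.range 12).map fun k => (tb k).1) (C := [])
        (by decide +kernel) (fun β hβ c => ?_) (fun _ h => absurd h List.not_mem_nil)
        (twU_univ ▸ hu.1) (hΓ ▸ W.fix hu.2)
      · rintro _ ⟨y, rfl⟩
        exact hΓ ▸ W.fix (h2 ▸ gl_mem hθ hs y)
      obtain ⟨k, hk, e⟩ := List.mem_map.1 hβ
      rw [List.mem_range] at hk
      obtain ⟨a, b⟩ := (by decide +kernel : ∀ k < 12,
        (posB tabF4 4 (tb k).2.1 && twU.inB tabF4 4 0 (tb k).2.1 &&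
          Nat.ble (fB tabF4 4 (fld 0x3542 4) (tb k).1 + 1) (fB tabF4 4 (fld 0x3542 4) (tb k).2.1)) =
          true ∧ ((tb k).2.2 = 48 ∨ (posB tabF4 4 (tb k).2.2 && twU.inB tabF4 4 0 (tb k).2.2 &&
          Nat.ble (fB tabF4 4 (fld 0x3542 4) (tb k).1 + 1) (fB tabF4 4 (fld 0x3542 4) (tb k).2.2)) =
          true)) k hk
      rw [e] at a b
      refine ⟨X (tb k).2.1 (σ c) * X (tb k).2.2 (c * σ c), mul_mem (xN_mem_AJ ok4 a _) ?_,
        rr k c, ?_⟩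
      · rcases b with b | b
        · rw [b, X_big (by decide)]; exact one_mem _
        · exact xN_mem_AJ ok4 b _
      · rw [gl_rr hk, R, e, X, xN_eq ok4 β.2]
  refine ⟨hU ▸ h2 ▸ W.sylow 2, fun g hg hgN => ?_⟩
  replace hgN : g ∈ Subgroup.normalizer (W.UH : Set (GL (Fin 4 ⊕ Fin 48) K)) :=
    hU ▸ mem_normalizer_fintype (by
      rintro _ ⟨y, rfl⟩
      obtain ⟨y', h⟩ := hgN y
      exact ⟨y', h.symm⟩)
  obtain ⟨u, hu, n, w, hn, hnH, u', hu', rfl⟩ := W.bruhatH (h2 ▸ hg)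
  have e : n = u⁻¹ * (u * n * u') * u'⁻¹ := by group
  have hnN : n ∈ Subgroup.normalizer (W.UH : Set (GL (Fin 4 ⊕ Fin 48) K)) :=
    e ▸ mul_mem (mul_mem (inv_mem (Subgroup.le_normalizer hu)) hgN)
      (inv_mem (Subgroup.le_normalizer hu'))
  have hM := Sys.N_le_Mono _ hn
  have hw : w = 1 := RD.W_eq_one (Sys.N_snd hn) fun i _ => by
    rcases W.dich hM (W.fix hnH) i with h | h
    · exact h i (W.cl_self i)
    · exfalso
      obtain ⟨d, hd, hdH, hd0⟩ := W.crd i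
      have h3 : n * d * n⁻¹ ∈ (SD K).U {r | ¬ (SD K).Pos r} :=
        Sys.Mono.conj_U hM (fun r hr => (Sys.Mono.lin hM).not_pos h hr.1 hr.2) hd
      have h4 := conj_mem_of_mem_normalizer hnN
        (show d ∈ W.UH from ⟨Sys.U_mono (Sys.PJ_sub _) hd, hdH⟩)
      have h5 := Sys.eq_one_of_neg (fun r hr => hr) h3 h4.1
      rw [mul_inv_eq_one, mul_eq_left] at h5
      exact hd0 (h5 ▸ Sys.crd_one i)
  subst hw
  have hf : (n, n) ∈ (T0 θ).Γ := hΓ ▸ W.fix hnH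
  have tw : ∀ a b, b < 48 → (Nat.ble (a + 1) 48 && Nat.beq (twF4.rho a) b &&
      Nat.beq (twF4.sg a) 0 && Nat.beq (twF4.mm a) 2) = true → ce n b = σ (ce n a) :=
    fun a b hb h => by
      have h1 := (T0 θ).gmul ((T0 θ).gmul hf (xN_Γ ok4 twok4 θ hP2 h 1)) ((T0 θ).ginv hf)
      rw [mono_X hM, mono_X hM] at h1
      have h2 := (T0 θ).uniq h1 (xN_Γ ok4 twok4 θ hP2 h _)
      rw [X, xN_eq ok4 hb, xN_eq ok4 hb] at h2
      simpa [θ_sq hs] using Sys.x_par_inj _ h2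
  let l := Units.mk0 _ (ce_ne hM 33)
  let m := Units.mk0 _ (ce_ne hM 27)
  have hc : ∀ r, 24 ≤ r → ∀ t, n * X r t * n⁻¹ = Dl l m * X r t * (Dl l m)⁻¹ := fun r hr t => by
    rw [mono_X hM, mono_X (Dl_mono l m), ce_ext hM (Dl_mono l m) (ce_ch l m (k := 0) (by decide)).1.symm
      (ce_ch l m (k := 1) (by decide)).1.symm
      ((tw 27 25 (by decide) (by decide +kernel)).trans (ce_ch l m (k := 1) (by decide)).2.1.symm)
      ((tw 33 24 (by decide) (by decide +kernel)).trans (ce_ch l m (k := 0) (by decide)).2.1.symm) hr]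
  obtain ⟨x, hx⟩ : u * (n * u' * n⁻¹) ∈ gl.range :=
    hU ▸ mul_mem hu (conj_mem_of_mem_normalizer hnN hu')
  refine ⟨x, l, m, fun y => ?_⟩
  have e2 : MulAut.conj n (gl y) = MulAut.conj (Dl l m) (gl y) :=
    hom_ext (f := (MulAut.conj n).toMonoidHom.comp gl)
      (g := (MulAut.conj (Dl l m)).toMonoidHom.comp gl) (fun k hk t => by
        obtain ⟨a, b, c⟩ := (by decide : ∀ k < 12, 24 ≤ (tb k).1 ∧ 24 ≤ (tb k).2.1 ∧
          24 ≤ (tb k).2.2) k hk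
        simp only [MonoidHom.comp_apply, MulEquiv.coe_toMonoidHom, gl_rr hk, R, map_mul]
        simp only [MulAut.conj_apply, hc _ a, hc _ b, hc _ c]) y
  rw [MulAut.conj_apply, MulAut.conj_apply] at e2
  rw [map_mul, map_mul, map_inv, ← Dl_gl, hx]
  change _ = _ * (Dl l m * gl y * (Dl l m)⁻¹) * _
  rw [← e2]
  group

end Cfsg.Agent.F4.Md
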