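import Cfsg.Agent.Lib.Chev.WF4
import Cfsg.Agent.Lib.F4.Defs

/-! Words in the twisted root elements of `²F₄(q)`. -/

set_option autoImplicit false
set_option maxRecDepth 100000
set_option linter.unusedSectionVars false

namespace Cfsg.Agent.F4.Md

open Cfsg.Lie Cfsg.Agent.Chev

theorem ok4 : tabF4.OK 4 48 := okF4

/-- Monomials in `t, σ t, u, σ u`. -/
abbrev Mon := ℕ × ℕ × ℕ × ℕ

/-- The code of a monomial. -/
def cd (m : Mon) : ℕ := 2 ^ m.1 * 3 ^ m.2.1 * 5 ^ m.2.2.1 * 7 ^ m.2.2.2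

/-- The twist of a monomial. -/
def sm (m : Mon) : Mon := (2 * m.2.1, m.1, 2 * m.2.2.2, m.2.2.1)

/-- The roots of a twisted letter. -/
def tb : ℕ → ℕ × ℕ × ℕ
  | 0 => (33, 24, 48) | 1 => (27, 25, 28) | 2 => (34, 26, 36) | 3 => (28, 30, 48)
  | 4 => (35, 31, 40) | 5 => (29, 41, 44) | 6 => (36, 42, 48) | 7 => (37, 32, 48)
  | 8 => (38, 43, 48) | 9 => (39, 45, 48) | 10 => (40, 46, 48) | 11 => (44, 47, 48)
  | 12 => (14, 23, 48) | 13 => (20, 22, 19) | 14 => (19, 17, 48) | _ => (48, 48, 48)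

/-- The expansion of a twisted word. -/
def ex (w : List (ℕ × Mon)) : List (ℕ × ℕ) :=
  w.flatMap fun p => [((tb p.1).1, cd p.2), ((tb p.1).2.1, cd (sm p.2)),
    ((tb p.1).2.2, cd p.2 * cd (sm p.2))]

/-- Deleting trivial letters. -/
def fl (w : List (ℕ × ℕ)) : List (ℕ × ℕ × ℕ) :=
  (w.filter fun p => Nat.ble (p.1 + 1) 48).map fun p => (p.1, 0, p.2)

/-- The kernel check. -/
noncomputable def ck (a b : List (ℕ × ℕ)) : Bool :=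
  (fl a ++ fl b).all (fun q => Nat.ble (q.1 + 1) 48) && eqW (4 + 48) 2
    ((fl a).map fun q => tabF4.xl 4 48 q.1 q.2.1 1 q.2.2)
    ((fl b).map fun q => tabF4.xl 4 48 q.1 q.2.1 1 q.2.2)

/-- The conjugation relations. -/
def rl : ℕ → ℕ → List (ℕ × Mon)
  | 0, 1 => [(1, 0, 0, 1, 0), (2, 1, 0, 1, 0), (5, 0, 1, 1, 1), (7, 1, 0, 2, 1), (10, 1, 1, 3, 2),
      (11, 2, 1, 3, 2)]
  | 0, 3 => [(3, 0, 0, 1, 0), (4, 1, 0, 1, 0), (5, 0, 1, 1, 0), (6, 1, 1, 1, 0), (7, 1, 0, 0, 1),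
      (8, 1, 1, 0, 1), (9, 1, 1, 2, 0), (11, 2, 1, 1, 1)]
  | 0, 4 => [(4, 0, 0, 1, 0), (6, 0, 1, 1, 0), (8, 1, 0, 0, 1), (11, 1, 0, 1, 1)]
  | 0, 5 => [(5, 0, 0, 1, 0), (6, 1, 0, 1, 0)]
  | 0, 7 => [(7, 0, 0, 1, 0), (8, 0, 1, 1, 0), (9, 1, 0, 0, 1)]
  | 0, 10 => [(10, 0, 0, 1, 0), (11, 1, 0, 1, 0)]
  | 1, 2 => [(2, 0, 0, 1, 0), (4, 0, 1, 1, 0), (5, 1, 0, 0, 1), (7, 1, 1, 1, 0), (8, 1, 0, 1, 1),
      (9, 1, 1, 1, 1), (10, 2, 1, 1, 1), (11, 1, 1, 2, 1)]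
  | 1, 4 => [(4, 0, 0, 1, 0), (7, 1, 0, 1, 0)]
  | 1, 6 => [(6, 0, 0, 1, 0), (8, 1, 0, 1, 0), (10, 2, 1, 1, 0), (11, 1, 1, 0, 1)]
  | 1, 8 => [(8, 0, 0, 1, 0), (9, 0, 1, 1, 0), (10, 1, 1, 1, 0), (11, 1, 0, 0, 1)]
  | 1, 9 => [(9, 0, 0, 1, 0), (10, 1, 0, 1, 0)]
  | 2, 3 => [(3, 0, 0, 1, 0), (7, 1, 0, 1, 0), (10, 1, 1, 0, 1), (11, 2, 1, 1, 0)]
  | 2, 5 => [(5, 0, 0, 1, 0), (8, 1, 0, 1, 0)]
  | 2, 7 => [(7, 0, 0, 1, 0), (9, 0, 1, 1, 0), (10, 1, 0, 0, 1), (11, 1, 1, 1, 0)]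
  | 2, 9 => [(9, 0, 0, 1, 0), (11, 1, 0, 1, 0)]
  | 3, 6 => [(6, 0, 0, 1, 0), (9, 1, 0, 1, 0), (10, 0, 1, 1, 0), (11, 1, 0, 0, 1)]
  | 3, 8 => [(8, 0, 0, 1, 0), (10, 1, 0, 1, 0)]
  | 4, 5 => [(5, 0, 0, 1, 0), (9, 1, 0, 1, 0)]
  | 4, 8 => [(8, 0, 0, 1, 0), (11, 1, 0, 1, 0)]
  | 5, 7 => [(7, 0, 0, 1, 0), (10, 1, 0, 1, 0)]
  | 6, 7 => [(7, 0, 0, 1, 0), (11, 1, 0, 1, 0)]
  | _, j => [(j, 0, 0, 1, 0)]

/-- The `z`-letter of a `y`-letter. -/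
def zk : ℕ → ℕ
  | 1 => 3 | 2 => 6 | 4 => 10 | 5 => 11 | 13 => 14 | _ => 15

/-- The first Weyl element. -/
def w1 : List (ℕ × Mon) := [(0, 0), (12, 0), (0, 0)]

/-- The second Weyl element. -/
def w8 : List (ℕ × Mon) := [(3, 0), (14, 0), (3, 0), (14, 0), (3, 0)]

/-- The action of the first Weyl element. -/
def p1 : ℕ → ℕ
  | 0 => 12 | 1 => 2 | 2 => 1 | 3 => 6 | 4 => 5 | 5 => 4 | 6 => 3 | 7 => 8 | 8 => 7 | 9 => 9
  | 10 => 11 | _ => 10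

/-- The action of the second Weyl element. -/
def p8 : ℕ → ℕ
  | 0 => 7 | 1 => 13 | 2 => 4 | 3 => 14 | 4 => 2 | 5 => 5 | 6 => 10 | 7 => 0 | 8 => 9 | 9 => 8
  | 10 => 6 | _ => 11

theorem ck_rl : ∀ i < 12, ∀ j < 12, i < j → ck (ex [(j, 0, 0, 1, 0), (i, 1, 0, 0, 0)])
    (ex ((i, 1, 0, 0, 0) :: rl i j)) = true := by decide +kernel

theorem rl_lt : ∀ i < 12, ∀ j < 12, i < j → ∀ p ∈ rl i j, i < p.1 ∧ p.1 < 12 := by decide +kernel

theorem ck_add : ∀ k < 15, ck (ex [(k, 1, 0, 0, 0), (k, 0, 0, 1, 0)])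
    ([((tb k).1, 2), ((tb k).1, 5), ((tb k).2.1, 3), ((tb k).2.1, 7), ((tb k).2.2, 2 * 3),
      ((tb k).2.2, 5 * 3), ((tb k).2.2, 2 * 7), ((tb k).2.2, 5 * 7)] ++
      ex [(zk k, 1, 0, 0, 1)]) = true := by decide +kernel

theorem ck_w1 : ∀ k < 12, ck (ex (w1 ++ [(k, 1, 0, 0, 0)])) (ex ((p1 k, 1, 0, 0, 0) :: w1)) = true := by
  decide +kernel

theorem ck_w8 : ∀ k < 12, ck (ex (w8 ++ [(k, 1, 0, 0, 0)])) (ex ((p8 k, 1, 0, 0, 0) :: w8)) = true := by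
  decide +kernel

variable {K : Type} [Field K]

/-- Root elements. -/
noncomputable abbrev X (r : ℕ) (t : K) : GL (Fin 4 ⊕ Fin 48) K := xN ok4 r t

theorem X_big {r : ℕ} (h : ¬ r < 48) (t : K) : X r t = 1 := dif_neg h

theorem prod_fl (φ : ℕ →* K) (w : List (ℕ × ℕ)) :
    wprod ok4 ((fl w).map fun q => (q.1, (-1) ^ q.2.1 * φ q.2.2)) =
      (w.map fun p => X p.1 (φ p.2)).prod := by
  induction w with
  | nil => rfl
  | cons a w ih =>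
    simp only [fl, List.filter_cons, List.map_cons, List.prod_cons] at ih ⊢
    split_ifs with h
    · rw [List.map_cons, List.map_cons, wprod_cons, ih, pow_zero, one_mul]
    · rw [ih, X_big (by simpa [Nat.succ_le_iff] using h), one_mul]

variable [Rf K]

theorem ck_sound (φ : ℕ →* K) {a b : List (ℕ × ℕ)} (h : ck a b = true) :
    (a.map fun p => X p.1 (φ p.2)).prod = (b.map fun p => X p.1 (φ p.2)).prod := by
  rw [← prod_fl, ← prod_fl]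
  exact wprod_eq ok4 (P := 2) (CharP.cast_eq_zero K 2) φ h

/-- The value of a monomial. -/
def ev (t u : K) (m : Mon) : K := t ^ m.1 * σ t ^ m.2.1 * u ^ m.2.2.1 * σ u ^ m.2.2.2

theorem ev_sm (t u : K) (m : Mon) : ev t u (sm m) = σ (ev t u m) := by
  simp only [ev, sm, map_mul, map_pow, Rf.s_s]; ring

/-- Twisted letters. -/
noncomputable def R (k : ℕ) (t : K) : GL (Fin 4 ⊕ Fin 48) K :=
  X (tb k).1 t * (X (tb k).2.1 (σ t) * X (tb k).2.2 (t * σ t))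

/-- Twisted words. -/
noncomputable def pr (t u : K) (w : List (ℕ × Mon)) : GL (Fin 4 ⊕ Fin 48) K :=
  (w.map fun p => R p.1 (ev t u p.2)).prod

theorem exists_ev (t u : K) : ∃ φ : ℕ →* K, φ 2 = t ∧ φ 3 = σ t ∧ φ 5 = u ∧ φ 7 = σ u ∧
    ∀ w, ((ex w).map fun p => X p.1 (φ p.2)).prod = pr t u w := by
  obtain ⟨φ, h2, h3, h5, h7, -⟩ := exists_φ t (σ t) u (σ u) 0
  have h : ∀ m, φ (cd m) = ev t u m := fun m => by
    simp only [cd, ev, map_mul, map_pow, h2, h3, h5, h7]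
  refine ⟨φ, h2, h3, h5, h7, fun w => ?_⟩
  induction w with
  | nil => rfl
  | cons a w ih =>
    simp only [ex, pr, List.flatMap_cons, List.map_append, List.prod_append, List.map_cons,
      List.prod_cons] at ih ⊢
    simp only [ih, R, h, map_mul, ev_sm, List.map_nil, List.prod_nil, mul_one]

theorem pr_eq {a b : List (ℕ × Mon)} (h : ck (ex a) (ex b) = true) (t u : K) :
    pr t u a = pr t u b := by
  obtain ⟨φ, -, -, -, -, e⟩ := exists_ev t u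
  rw [← e, ← e, ck_sound φ h]

theorem R_rl {i j : ℕ} (hj : j < 12) (h : i < j) (t u : K) :
    R j u * R i t = R i t * pr t u (rl i j) := by
  simpa [pr, ev] using pr_eq (ck_rl i (h.trans hj) j hj h) t u

/-- The first Weyl element. -/
noncomputable def n1 : GL (Fin 4 ⊕ Fin 48) K := R 0 1 * (R 12 1 * R 0 1)

/-- The second Weyl element. -/
noncomputable def n8 : GL (Fin 4 ⊕ Fin 48) K := R 3 1 * (R 14 1 * (R 3 1 * (R 14 1 * R 3 1)))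

theorem n1_R {k : ℕ} (hk : k < 12) (t : K) : n1 * R k t * n1⁻¹ = R (p1 k) t := by
  rw [mul_inv_eq_iff_eq_mul]
  simpa [pr, ev, w1, n1, mul_assoc] using pr_eq (ck_w1 k hk) t 0

theorem n8_R {k : ℕ} (hk : k < 12) (t : K) : n8 * R k t * n8⁻¹ = R (p8 k) t := by
  rw [mul_inv_eq_iff_eq_mul]
  simpa [pr, ev, w8, n8, mul_assoc] using pr_eq (ck_w8 k hk) t 0

variable [Finite K]

theorem R_zero (k : ℕ) : R k (0 : K) = 1 := by simp [R, xN_zero]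

theorem R_add {k : ℕ} (hk : k < 15) (t u : K) :
    R k t * R k u = R k (t + u) * R (zk k) (t * σ u) := by
  obtain ⟨φ, h2, h3, h5, h7, e⟩ := exists_ev t u
  have := ck_sound φ (ck_add k hk)
  rw [List.map_append, List.prod_append, e, e] at this
  simp only [pr, ev, List.map_cons, List.map_nil, List.prod_cons, List.prod_nil, map_mul, h2, h3,
    h5, h7, pow_zero, pow_one, mul_one, one_mul] at this
  rw [this, R, R, map_add, mul_add, add_mul, add_mul]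
  simp only [xN_add, mul_assoc]

end Cfsg.Agent.F4.Md
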