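import Cfsg.Agent.Lib.F4.Basic
import Cfsg.Agent.Lib.Solv.SZ
import Cfsg.Agent.Lib.Ess.Ctl

/-!
Row NRM: the normal form of `Aut_F(S)`.
-/

set_option autoImplicit false
set_option linter.unusedSectionVars false
set_option linter.unusedSimpArgs false
set_option linter.unnecessarySeqFocus false
set_option linter.style.haveILetI false

namespace Cfsg.Agent.F4

open Cfsg.Agent.Fus Cfsg.Agent.Fus2 Subgroup

namespace Nr

variable {K : Type} [Field K] [Rf K]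

theorem map_icj (α : MulAut (P K)) (g x : P K) :
    α (x⁻¹ * (g * x * g⁻¹)) = (α x)⁻¹ * (α g * α x * (α g)⁻¹) := by
  simp only [map_mul, map_inv]

theorem map_icj' (α : MulAut (P K)) (g x : P K) :
    (α x)⁻¹ * (g * α x * g⁻¹) = α (x⁻¹ * (α⁻¹ g * x * (α⁻¹ g)⁻¹)) := by
  rw [map_icj, MulAut.apply_inv_self]

theorem map_icj'' (α : MulAut (P K)) (g x : P K) :
    x⁻¹ * (α g * x * (α g)⁻¹) = α ((α⁻¹ x)⁻¹ * (g * α⁻¹ x * g⁻¹)) := by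
  rw [map_icj, MulAut.apply_inv_self]

theorem comm' (α : MulAut (P K)) {x y : P K} (h : x * α⁻¹ y = α⁻¹ y * x) : α x * y = y * α x := by
  simpa only [map_mul, MulAut.apply_inv_self] using congrArg α h

section Upper

variable {x : P K}

theorem mem_Z7_of (h : ∀ g, x⁻¹ * (g * x * g⁻¹) ∈ D3 K) : x ∈ Z7 K :=
  ⟨by simpa using (icj_D3_iff.1 (h (ry8 1))).2.2.1, by simpa using (icj_D3_iff.1 (h (rx1 1))).2.2.1⟩

theorem mem_D3_of (h : ∀ g, x⁻¹ * (g * x * g⁻¹) ∈ J0 K) : x ∈ D3 K := by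
  obtain ⟨a1, a2⟩ := mem_Z7_of fun g => J0_le_D3 (h g)
  exact ⟨a1, a2, by simpa [a1, a2] using (icj_J0_iff.1 (h (ry8 1))).2.2.2.2.1,
    by simpa [a1, a2] using (icj_J0_iff.1 (h (rx1 1))).2.2.2.2.1⟩

theorem mem_J0_of (h : ∀ g, x⁻¹ * (g * x * g⁻¹) ∈ U4 K) : x ∈ J0 K := by
  obtain ⟨a1, a2, a3, a4⟩ := mem_D3_of fun g => U4_le_J0 (h g)
  have a5 : x.y6 = 0 := by simpa [a1, a2, a3, a4] using (icj_U4_iff.1 (h (ry8 1))).2.2.2.2.2.2.2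
  exact ⟨a1, a2, a3, a4, a5,
    by simpa [a1, a2, a3, a4, a5] using (icj_U4_iff.1 (h (rx1 1))).2.2.2.2.2.2.1⟩

theorem mem_U4_of (h : ∀ g, x⁻¹ * (g * x * g⁻¹) ∈ U3 K) : x ∈ U4 K := by
  obtain ⟨a1, a2, a3, a4, a5, a6⟩ := mem_J0_of fun g => U3_le_U4 (h g)
  exact ⟨a1, a2, a3, a4, a5, a6,
    by simpa [a1, a2, a3, a4, a5, a6] using (icj_U3_iff.1 (h (ry8 1))).2.2.2.2.2.2.2.2,
    by simpa [a1, a2, a3, a4, a5, a6] using (icj_U3_iff.1 (h (rx1 1))).2.2.2.2.2.2.2.2⟩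

theorem mem_U3_of (h : ∀ g, x⁻¹ * (g * x * g⁻¹) ∈ V1 K) : x ∈ U3 K := by
  obtain ⟨a1, a2, a3, a4, a5, a6, a7, a8⟩ := mem_U4_of fun g => V1_le_U3 (h g)
  exact ⟨a1, a2, a3, a4, a5, a6, a7, a8,
    by simpa [a1, a2, a3, a4, a5, a6, a7, a8] using (icj_V1_iff.1 (h (ry8 1))).2.2.2.2.2.2.2.2.2⟩

theorem mem_V1_of (h : ∀ g, x⁻¹ * (g * x * g⁻¹) ∈ Z K) : x ∈ V1 K := by
  obtain ⟨a1, a2, a3, a4, a5, a6, a7, a8, a9⟩ := mem_U3_of fun g => Z_le_V1 (h g)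
  exact ⟨a1, a2, a3, a4, a5, a6, a7, a8, a9, by
    simpa [a1, a2, a3, a4, a5, a6, a7, a8, a9] using (icj_Z_iff.1 (h (ry8 1))).2.2.2.2.2.2.2.2.2.2⟩

theorem mem_Z_of (h : ∀ g, x * g = g * x) : x ∈ Z K := by
  obtain ⟨a1, a2, a3, a4, a5, a6, a7, a8, a9, a10⟩ := mem_V1_of (x := x) fun g => by
    rw [← h g, mul_inv_cancel_right, inv_mul_cancel]; exact one_mem _
  exact ⟨a1, a2, a3, a4, a5, a6, a7, a8, a9, a10, by
    simpa [a1, a2, a3, a4, a5, a6, a7, a8, a9, a10] using congrArg P.z4 (h (rx1 1))⟩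

variable (α : MulAut (P K))

theorem inv_Z (hx : x ∈ Z K) : α x ∈ Z K := mem_Z_of fun _ => comm' α (comm_Z hx _)

theorem inv_V1 (hx : x ∈ V1 K) : α x ∈ V1 K :=
  mem_V1_of fun g => by rw [map_icj']; exact inv_Z α (icj_S_V1 _ hx)

theorem inv_U3 (hx : x ∈ U3 K) : α x ∈ U3 K :=
  mem_U3_of fun g => by rw [map_icj']; exact inv_V1 α (icj_S_U3 _ hx)

theorem inv_U4 (hx : x ∈ U4 K) : α x ∈ U4 K :=
  mem_U4_of fun g => by rw [map_icj']; exact inv_U3 α (icj_S_U4 _ hx)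

theorem inv_J0 (hx : x ∈ J0 K) : α x ∈ J0 K :=
  mem_J0_of fun g => by rw [map_icj']; exact inv_U4 α (icj_S_J0 _ hx)

theorem inv_D3 (hx : x ∈ D3 K) : α x ∈ D3 K :=
  mem_D3_of fun g => by rw [map_icj']; exact inv_J0 α (icj_S_D3 _ hx)

theorem inv_Z7 (hx : x ∈ Z7 K) : α x ∈ Z7 K :=
  mem_Z7_of fun g => by rw [map_icj']; exact inv_D3 α (icj_S_Z7 _ hx)

theorem inv_Q1 (hx : x ∈ Q1 K) : α x ∈ Q1 K :=
  mem_Q1_of_comm one_ne_zero (comm' α (comm_V1 (inv_V1 _ (Zm_le_V1 (rz6_mem 1))) hx).symm)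

theorem inv_N8 (hx : x ∈ N8 K) : α x ∈ N8 K := mem_N8_of_icj one_ne_zero (by
  rw [map_icj'']; exact inv_Z α (icj_N8_U3 hx (inv_U3 _ (by simp [mem_U3]))))

theorem inv_D1' (hx : x ∈ D1 K) : α x ∈ D1 K :=
  mem_D1_of_comm fun _ hu => comm' α (comm_U3 (inv_U3 _ hu) hx).symm

theorem inv_D2 (hx : x ∈ D2 K) : α x ∈ D2 K :=
  mem_D2_of_comm fun _ hu => comm' α (comm_U4 (inv_U4 _ hu) hx).symm

end Upper

section Formulas

variable {g x : P K}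

theorem f_y2 (g x : P K) : (x⁻¹ * (g * x * g⁻¹)).y2 = g.y8 * x.x1 + x.y8 * g.x1 := by
  simp; grind

theorem f_y6 (g : P K) (hx : x ∈ D1 K) : (x⁻¹ * (g * x * g⁻¹)).y6 = x.z8 * g.x1 := by
  obtain ⟨a1, a2, a3⟩ := hx
  simp [*]; grind

theorem f_z2 (g : P K) (hx : x ∈ D2 K) : (x⁻¹ * (g * x * g⁻¹)).z2 = x.y4 * g.x1 := by
  obtain ⟨a1, a2, a3, a4, a5⟩ := hx
  simp [*, Rf.s_s]; grind

theorem f_x7 (g : P K) (hx : x ∈ D3 K) : (x⁻¹ * (g * x * g⁻¹)).x7 = g.y8 * x.y6 := by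
  obtain ⟨a1, a2, a3, a4⟩ := hx
  simp [*, Rf.s_s]; grind

theorem f_x3 (hg : g ∈ N8 K) (hx : x ∈ J0 K) : (x⁻¹ * (g * x * g⁻¹)).x3 = x.x7 * σ g.x1 := by
  obtain ⟨a1, a2, a3, a4, a5, a6⟩ := hx
  simp [*, mem_N8.1 hg, Rf.s_s]; grind

theorem f_x5 (g : P K) (hx : x ∈ U4 K) : (x⁻¹ * (g * x * g⁻¹)).x5 = σ g.y8 * x.x3 := by
  obtain ⟨a1, a2, a3, a4, a5, a6, a7, a8⟩ := hx
  simp [*, Rf.s_s]; grind

theorem f_z6 (g : P K) (hx : x ∈ U3 K) : (x⁻¹ * (g * x * g⁻¹)).z6 = g.y8 * x.x5 := by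
  obtain ⟨a1, a2, a3, a4, a5, a6, a7, a8, a9⟩ := hx
  simp [*, Rf.s_s]; grind

theorem f_z6' (hg : g ∈ J0 K) (hx : x ∈ D2 K) : (x⁻¹ * (g * x * g⁻¹)).z6 = g.x7 * x.y4 := by
  obtain ⟨a1, a2, a3, a4, a5, a6⟩ := hg
  obtain ⟨b1, b2, b3, b4, b5⟩ := hx
  simp [*, Rf.s_s]; grind

theorem f_z4 (g : P K) (hx : x ∈ V1 K) : (x⁻¹ * (g * x * g⁻¹)).z4 = g.x1 * x.z6 := by
  have h₁ : g * x = x⁻¹ * (g * x * g⁻¹) * (x * g) := by
    rw [← mul_assoc, comm_Z (icj_S_V1 g hx) x]; group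
  rw [eq_rz4 (icj_S_V1 g hx)] at h₁
  have := congrArg P.z4 h₁
  obtain ⟨a1, a2, a3, a4, a5, a6, a7, a8, a9, a10⟩ := hx
  generalize x⁻¹ * (g * x * g⁻¹) = m at this
  simp [a1, a2, a3, a4, a5, a6, a7, a8, a9, a10] at this
  grind

end Formulas

theorem inv_V2 (α : MulAut (P K)) {x : P K} (hx : x ∈ V2 K) : α x ∈ V2 K := by
  have h₁ : ry4 (1 : K) ∈ D2 K := by simp [mem_D2]
  have h₂ := icj_S_D2 (rx1 x.z2) h₁
  have h₃ := mul_mem (inv_mem h₂) hx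
  rw [← mul_inv_cancel_left ((ry4 1)⁻¹ * (rx1 x.z2 * ry4 1 * (rx1 x.z2)⁻¹)) x, map_mul, map_icj]
  refine mul_mem (icj_S_D2 _ (inv_D2 α h₁)) (U4_le_V2 (inv_U4 α ?_))
  obtain ⟨a1, a2, a3, a4, a5, a6, a7⟩ := mod_V2.1 h₃
  exact mod_U4.2 ⟨a1, a2, a3, a4, a5, a6, by rw [f_z2 _ h₁]; simp, a7⟩

variable [Finite K]

theorem exists_dg (α : MulAut (P K)) : ∃ (l m : Kˣ) (φ : K ≃+* K),
    ∀ x, (α x).x1 = l * φ x.x1 ∧ (α x).y8 = m * φ x.y8 := by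
  have hA : ∀ x, (α x).x1 = (α (rx1 x.x1)).x1 := fun x =>
    mod_Q1.1 (by rw [← map_inv, ← map_mul]; exact inv_Q1 α (mod_Q1.2 rfl))
  have hB : ∀ x, (α x).y8 = (α (ry8 x.y8)).y8 := fun x =>
    mod_N8.1 (by rw [← map_inv, ← map_mul]; exact inv_N8 α (mod_N8.2 rfl))
  have hD : ∀ x ∈ Z7 K, (α x).y2 = (α (ry2 x.y2)).y2 := fun x hx =>
    (mod_D1.1 (by rw [← map_inv, ← map_mul]; exact inv_D1' α (mod_D1.2 ⟨hx.1, hx.2, rfl⟩))).2.2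
  have hm : ∀ a b, (α (ry2 (a * b))).y2 = (α (rx1 a)).x1 * (α (ry8 b)).y8 := fun a b => by
    have := hD _ (icj_S_S (ry8 b) (rx1 a))
    rw [map_icj, f_y2, f_y2, show (α (ry8 b)).x1 = 0 from inv_Q1 α rfl] at this
    simpa [mul_comm] using this.symm
  have h₁ : (α (ry2 1)).y2 ≠ 0 := fun e => by
    have h := inv_Z7 α (x := ry2 1) ⟨rfl, rfl⟩
    simpa using (inv_D1' α⁻¹ ⟨h.1, h.2, e⟩).2.2
  haveI := Fintype.ofFinite K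
  obtain ⟨φ, a₁, a₂, -⟩ := U5.semilin (fun a => (α (rx1 a)).x1) (fun b => (α (ry8 b)).y8)
    (fun d => (α (ry2 d)).y2) (fun d d' => by
      have := hD (ry2 d * ry2 d') (mul_mem ⟨rfl, rfl⟩ ⟨rfl, rfl⟩)
      rw [map_mul, P.mul_y2, P.mul_y2, show (α (ry2 d)).y8 = 0 from inv_N8 α rfl] at this
      simpa using this.symm) hm h₁
  have h₂ := hm 1 1
  rw [one_mul] at h₂
  rw [h₂] at h₁
  exact ⟨Units.mk0 _ (left_ne_zero_of_mul h₁), Units.mk0 _ (right_ne_zero_of_mul h₁), φ,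
    fun x => ⟨(hA x).trans (a₁ _), (hB x).trans (a₂ _)⟩⟩

theorem step {β : MulAut (P K)} {M N : Subgroup (P K)} (c : P K → K)
    (hc : ∀ a ∈ M, ∀ b ∈ M, c a = c b → a⁻¹ * b ∈ N) (hM : ∀ x ∈ M, β x ∈ M) (hN : ∀ x ∈ N, β x ∈ N)
    (h : ∀ t, ∃ m ∈ M, c m = t ∧ c (β m) = t) : TrivOn β M N := fun x hx => by
  obtain ⟨m, hm, e₁, e₂⟩ := h (c x)
  have h₁ := hc m hm x hx e₁
  simpa [mul_assoc] using
    mul_mem (mul_mem (inv_mem h₁) (hc m hm _ (hM m hm) (e₁.trans e₂.symm))) (hN _ h₁)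

theorem pow_eq_one {β : MulAut (P K)} (h : TrivOn β ⊤ (Z7 K)) : ∃ k : ℕ, β ^ 2 ^ k = 1 := by
  have h1 : ∀ x, (β x).x1 = x.x1 := fun x => (mod_Z7.1 (h x trivial)).1.symm
  have h8 : ∀ x, (β x).y8 = x.y8 := fun x => (mod_Z7.1 (h x trivial)).2.symm
  have t₁ : TrivOn β (Z7 K) (D1 K) := step P.y2
    (fun a ha b hb e => mod_D1.2 ⟨ha.1.trans hb.1.symm, ha.2.trans hb.2.symm, e⟩)
    (fun _ => inv_Z7 β) (fun _ => inv_D1' β) fun t =>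
      ⟨_, icj_S_S (ry8 1) (rx1 t), by rw [f_y2]; simp, by rw [map_icj, f_y2]; simp [h1, h8]⟩
  have t₂ : TrivOn β (D1 K) (D3 K) := step P.z8
    (fun a ⟨a1, a2, a3⟩ b ⟨b1, b2, b3⟩ e => mod_D3.2 (by simp [*]))
    (fun _ => inv_D1' β) (fun _ => inv_D3 β) fun t => by
      obtain ⟨c, rfl⟩ := exists_N t
      exact ⟨ry8 c * ry8 c, by simp [mem_D1, CharTwo.add_self_eq_zero], by simp,
        by simp [h8, CharTwo.add_self_eq_zero]⟩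
  have t₃ : TrivOn β (D3 K) (D2 K) := step P.y6
    (fun a ⟨a1, a2, a3, a4⟩ b ⟨b1, b2, b3, b4⟩ e => mod_D2.2 (by simp [*]))
    (fun _ => inv_D3 β) (fun _ => inv_D2 β) fun t => by
      have hz : rz8 (1 : K) ∈ D1 K := by simp [mem_D1]
      exact ⟨_, icj_S_Z7 (rx1 t) (D1_le_Z7 hz), by rw [f_y6 _ hz]; simp, by
        rw [map_icj, f_y6 _ (inv_D1' β hz), ← (mod_D3.1 (t₂ _ hz)).2.2.2, h1]; simp⟩
  have t₅ : TrivOn β (J0 K) (V2 K) := step P.x7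
    (fun a ⟨a1, a2, a3, a4, a5, a6⟩ b ⟨b1, b2, b3, b4, b5, b6⟩ e => mod_V2.2 (by simp [*]))
    (fun _ => inv_J0 β) (fun _ => inv_V2 β) fun t => by
      have hz : ry6 t ∈ D3 K := by simp [mem_D3]
      exact ⟨_, icj_S_D3 (ry8 1) hz, by rw [f_x7 _ hz]; simp, by
        rw [map_icj, f_x7 _ (inv_D3 β hz), ← (mod_D2.1 (t₃ _ hz)).2.2.2.2, h8]; simp⟩
  have t₇ : TrivOn β (U4 K) (U3 K) := step P.x3
    (fun a ⟨a1, a2, a3, a4, a5, a6, a7, a8⟩ b ⟨b1, b2, b3, b4, b5, b6, b7, b8⟩ e =>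
      mod_U3.2 (by simp [*]))
    (fun _ => inv_U4 β) (fun _ => inv_U3 β) fun t => by
      have hz : rx7 t ∈ J0 K := by simp [mem_J0]
      exact ⟨_, icj_S_J0 (rx1 1) hz, by rw [f_x3 rfl hz]; simp, by
        rw [map_icj, f_x3 (inv_N8 β rfl) (inv_J0 β hz), ← (mod_V2.1 (t₅ _ hz)).2.2.2.2.2.2, h1]
        simp⟩
  have t₈ : TrivOn β (U3 K) (V1 K) := step P.x5
    (fun a ⟨a1, a2, a3, a4, a5, a6, a7, a8, a9⟩ b ⟨b1, b2, b3, b4, b5, b6, b7, b8, b9⟩ e =>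
      mod_V1.2 (by simp [*]))
    (fun _ => inv_U3 β) (fun _ => inv_V1 β) fun t => by
      have hz : rx3 t ∈ U4 K := by simp [mem_U4]
      exact ⟨_, icj_S_U4 (ry8 1) hz, by rw [f_x5 _ hz]; simp, by
        rw [map_icj, f_x5 _ (inv_U4 β hz), ← (mod_U3.1 (t₇ _ hz)).2.2.2.2.2.2.2.2, h8]; simp⟩
  have t₉ : TrivOn β (V1 K) (Z K) := step P.z6
    (fun a ⟨a1, a2, a3, a4, a5, a6, a7, a8, a9, a10⟩ b ⟨b1, b2, b3, b4, b5, b6, b7, b8, b9, b10⟩ e =>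
      mod_Z.2 (by simp [*]))
    (fun _ => inv_V1 β) (fun _ => inv_Z β) fun t => by
      have hz : rx5 t ∈ U3 K := by simp [mem_U3]
      exact ⟨_, icj_S_U3 (ry8 1) hz, by rw [f_z6 _ hz]; simp, by
        rw [map_icj, f_z6 _ (inv_U3 β hz), ← (mod_V1.1 (t₈ _ hz)).2.2.2.2.2.2.2.2.2, h8]; simp⟩
  have t₁₀ : TrivOn β (Z K) ⊥ := step P.z4
    (fun a ha b hb e => by rw [eq_rz4 ha, eq_rz4 hb, e, inv_mul_cancel]; exact one_mem _)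
    (fun _ => inv_Z β) (fun x hx => by rw [mem_bot.1 hx, map_one]; exact one_mem _) fun t => by
      have hz := Zm_le_V1 (rz6_mem t)
      exact ⟨_, icj_S_V1 (rx1 1) hz, by rw [f_z4 _ hz]; simp, by
        rw [map_icj, f_z4 _ (inv_V1 β hz), ← (mod_Z.1 (t₉ _ hz)).2.2.2.2.2.2.2.2.2.2, h1]; simp⟩
  have t₄ : TrivOn β (D2 K) (J0 K) := fun x hx => by
    have hz : rx7 (1 : K) ∈ J0 K := by simp [mem_J0]
    have e := (mod_Z.1 (t₉ _ (icj_J0_D3 hz (D2_le_D3 hx)))).2.2.2.2.2.2.2.2.2.2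
    rw [map_icj, f_z6' hz hx, f_z6' (inv_J0 β hz) (inv_D2 β hx),
      ← (mod_V2.1 (t₅ _ hz)).2.2.2.2.2.2] at e
    obtain ⟨a1, a2, a3, a4, a5⟩ := mod_D2.1 (mul_mem (inv_mem hx) (inv_D2 β hx))
    exact mod_J0.2 ⟨a1, a2, a3, a4, a5, by simpa using e⟩
  have t₆ : TrivOn β (V2 K) (U4 K) := step P.z2
    (fun a ⟨a1, a2, a3, a4, a5, a6, a7⟩ b ⟨b1, b2, b3, b4, b5, b6, b7⟩ e => mod_U4.2 (by simp [*]))
    (fun _ => inv_V2 β) (fun _ => inv_U4 β) fun t => by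
      have hz : ry4 (1 : K) ∈ D2 K := by simp [mem_D2]
      exact ⟨_, icj_S_D2 (rx1 t) hz, by rw [f_z2 _ hz]; simp, by
        rw [map_icj, f_z2 _ (inv_D2 β hz), ← (mod_J0.1 (t₄ _ hz)).2.2.2.2.2, h1]; simp⟩
  have hG := pg K
  obtain ⟨k, hk⟩ := h.exists_pow_fix hG le_top <| t₁.exists_pow_fix hG D1_le_Z7 <|
    t₂.exists_pow_fix hG D3_le_D1 <| t₃.exists_pow_fix hG D2_le_D3 <|
    t₄.exists_pow_fix hG J0_le_D2 <| t₅.exists_pow_fix hG V2_le_J0 <|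
    t₆.exists_pow_fix hG U4_le_V2 <| t₇.exists_pow_fix hG U3_le_U4 <|
    t₈.exists_pow_fix hG V1_le_U3 <| t₉.exists_pow_fix hG Z_le_V1 <|
    t₁₀.exists_pow_fix hG bot_le ⟨0, fun x hx => by rw [mem_bot.1 hx, map_one]⟩
  exact ⟨k, MulEquiv.ext fun x => hk x trivial⟩

theorem dg_mul (l m l' m' : Kˣ) (φ φ' : K ≃+* K) : dg l m φ * dg l' m' φ' =
    dg (l * Units.map (φ : K →* K) l') (m * Units.map (φ : K →* K) m') (φ'.trans φ) := by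
  ext x <;> simp [map_s] <;> ring

theorem dg_one : dg 1 1 (RingEquiv.refl K) = 1 := by ext x <;> simp

theorem dg_inv (l m : Kˣ) (φ : K ≃+* K) : (dg l m φ)⁻¹ = dg (Units.map (φ.symm : K →* K) l⁻¹)
    (Units.map (φ.symm : K →* K) m⁻¹) φ.symm := by
  rw [inv_eq_iff_mul_eq_one, dg_mul, ← dg_one]
  congr 1
  · ext; simp
  · ext; simp
  · ext; simp

variable (K) in
/-- The diagonal and field automorphisms. -/
def Dg : Subgroup (MulAut (P K)) where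
  carrier := {h | ∃ l m φ, h = dg l m φ}
  one_mem' := ⟨1, 1, _, dg_one.symm⟩
  mul_mem' := by
    rintro _ _ ⟨l, m, φ, rfl⟩ ⟨l', m', φ', rfl⟩
    exact ⟨_, _, _, dg_mul ..⟩
  inv_mem' := by
    rintro _ ⟨l, m, φ, rfl⟩
    exact ⟨_, _, _, dg_inv ..⟩

theorem exists_conj {A : Subgroup (MulAut (P K))} (hA : ¬ 2 ∣ Nat.card A) :
    ∃ θ : MulAut (P K), ∀ a ∈ A, θ⁻¹ * a * θ ∈ Dg K := by
  have h₁ : IsPGroup 2 (Ess.trivSub ⊤ (Z7 K) le_top) := fun β => by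
    obtain ⟨k, hk⟩ := pow_eq_one β.2
    exact ⟨k, Subtype.ext hk⟩
  have : (Ess.trivSub ⊤ (Z7 K) le_top).Normal :=
    ⟨fun β hβ γ => TrivOn.conj hβ (fun _ _ => trivial) fun _ => inv_Z7 γ⟩
  obtain ⟨θ, -, h⟩ := Solv.sz_star (A := A) (K := Ess.trivSub ⊤ (Z7 K) le_top) (S := Dg K)
    le_normalizer_of_normal (by
      obtain ⟨k, hk⟩ := h₁.exists_card_eq
      rw [hk]
      exact ((Nat.prime_two.coprime_iff_not_dvd.2 hA).symm).pow_right k)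
    (.inr (by have := h₁.isNilpotent; infer_instance)) fun a _ => by
      obtain ⟨l, m, φ, h⟩ := exists_dg a
      refine ⟨a * (dg l m φ)⁻¹, fun x _ => ?_, l, m, φ, by group⟩
      obtain ⟨x, rfl⟩ := (dg l m φ).surjective x
      exact mod_Z7.2 ⟨by simp [(h x).1], by simp [(h x).2]⟩
  exact ⟨θ, h⟩

end Nr

theorem nrm : NrmStmt := by
  intro K _ _ _ F hF
  have hs := sat_sylow_top (pg_top K) hF
  have := Inn_subgroupOf_normal (F.autGroup ⊤)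
  obtain ⟨H, hH⟩ := exists_right_complement'_of_coprime
    (N := (Inn (⊤ : Subgroup (P K))).subgroupOf (F.autGroup ⊤)) (by
      obtain ⟨k, hk⟩ := (hs.isPGroup.comap_subtype (K := F.autGroup ⊤)).exists_card_eq
      rw [show Nat.card ((Inn (⊤ : Subgroup (P K))).subgroupOf (F.autGroup ⊤)) = _ from hk]
      exact (Nat.prime_two.coprime_iff_not_dvd.2 hs.not_dvd_relIndex).pow_left k)
  let e : F.autGroup ⊤ →* MulAut (P K) :=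
    (MulAut.congr topEquiv).toMonoidHom.comp (F.autGroup ⊤).subtype
  obtain ⟨θ, hθ⟩ := Nr.exists_conj (A := H.map e) fun h => hs.not_dvd_relIndex (by
    rw [relIndex, hH.symm.index_eq_card]
    exact h.trans (card_map_dvd H e))
  refine ⟨θ⁻¹, fun f hf => ?_⟩
  obtain ⟨β, hβ, eβ⟩ := hf.exists_aut' fun _ _ => trivial
  obtain ⟨⟨⟨n, hn⟩, h⟩, e₁⟩ := hH.2 ⟨β, hβ⟩
  obtain ⟨g, -, hg⟩ := (Fus2.mem_Inn_iff (α := n.1)).1 hn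
  obtain ⟨l, m, φ, e₂⟩ := hθ _ ⟨h, h.2, rfl⟩
  refine ⟨θ⁻¹ g, l, m, φ, fun y => ?_⟩
  have e₃ : β = n.1 * h.1.1 := (congrArg Subtype.val e₁).symm
  rw [← eβ _ trivial, e₃, afn_mul, hg _ trivial, ← e₂, afn_apply _ (mem_top _), map_mul, map_mul,
    map_inv]
  rfl

end Cfsg.Agent.F4
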