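import Cfsg.Agent.Lib.F4.Ms

/-! Sylow subgroups of `²F₄(q)`. -/

set_option autoImplicit false

namespace Cfsg.Agent.F4

open Subgroup Matrix Cfsg.Lie Cfsg.Agent.Tr

namespace Md

universe u v

variable (D : ChevalleyDatum) {K : Type u} {L : Type v} [Field K] [Field L]

theorem xMat_map (φ : K →+* L) (r : Fin D.nroots) (t : K) :
    (D.xMat K r t).map φ = D.xMat L r (φ t) := by
  ext a b
  rcases a with a | a <;> rcases b with b | b <;>
    simp only [ChevalleyDatum.xMat, map_apply, of_apply] <;> split_ifs <;>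
    simp [map_list_sum, Function.comp_def]

theorem wordMat_map (φ : K →+* L) (w : List (ℕ × K)) :
    (D.wordMat K w).map φ = D.wordMat L (w.map fun p => (p.1, φ p.2)) := by
  induction w with
  | nil => simp [ChevalleyDatum.wordMat]
  | cons a w ih =>
    simp only [ChevalleyDatum.wordMat, List.map_cons, List.prod_cons, Matrix.map_mul] at ih ⊢
    rw [ih]
    congr 1
    unfold ChevalleyDatum.x
    split_ifs
    · exact xMat_map D φ _ _
    · simp

theorem genSubgroup_le (φ : K →+* L) {S : Set (List (ℕ × K))} {S' : Set (List (ℕ × L))}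
    (h : ∀ w ∈ S, (w.map fun p => (p.1, φ p.2)) ∈ S') :
    D.genSubgroup K S ≤ (D.genSubgroup L S').comap (GeneralLinearGroup.map φ) :=
  (closure_le _).2 fun g ⟨w, hw, e⟩ => subset_closure ⟨_, h w hw, by
    rw [← wordMat_map, ← e]; rfl⟩

/-- Transport of word-generated groups along a field isomorphism. -/
theorem gen_equiv (φ : K ≃+* L) {S : Set (List (ℕ × K))} {S' : Set (List (ℕ × L))}
    (h : ∀ w ∈ S, (w.map fun p => (p.1, φ p.2)) ∈ S')
    (h' : ∀ w ∈ S', (w.map fun p => (p.1, φ.symm p.2)) ∈ S) :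
    Nonempty (D.genSubgroup K S ≃* D.genSubgroup L S') :=
  ⟨{ toFun := fun g => ⟨_, genSubgroup_le D (φ : K →+* L) h g.2⟩
     invFun := fun g => ⟨_, genSubgroup_le D (φ.symm : L →+* K) h' g.2⟩
     left_inv := fun g => by ext; simp [GeneralLinearGroup.map]
     right_inv := fun g => by ext; simp [GeneralLinearGroup.map]
     map_mul' := fun _ _ => Subtype.ext (map_mul _ _ _) }⟩

theorem f4Words_map (φ : K ≃+* L) (e : ℕ) :
    ∀ w ∈ f4Words K e, (w.map fun p => (p.1, φ p.2)) ∈ f4Words L e := by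
  rintro _ (⟨t, rfl | rfl⟩ | ⟨t, u, rfl | rfl⟩)
  · exact Or.inl ⟨φ t, Or.inl (by simp [f4PairWord])⟩
  · exact Or.inl ⟨φ t, Or.inr (by simp [f4PairWord])⟩
  · exact Or.inr ⟨φ t, φ u, Or.inl (by simp [b2ClassWord])⟩
  · exact Or.inr ⟨φ t, φ u, Or.inr (by simp [b2ClassWord])⟩

end Md

open Md

universe v

theorem syl : SylStmt.{v} := by
  intro K _ _ m hK T
  let L := GaloisField 2 (2 * m + 1)
  let _ : Fintype L := Fintype.ofFinite L
  have hL : Fintype.card L = 2 ^ (2 * m + 1) := by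
    rw [← Nat.card_eq_fintype_card, GaloisField.card 2 _ (by omega)]
  let φ : K ≃+* L := FiniteField.ringEquivOfCardEq (hK.trans hL.symm)
  have h : ∀ x : L, x ^ 2 ^ (2 * m + 1) = x := fun x => hL ▸ FiniteField.pow_card x
  let _ : Rf L :=
    { s := iterateFrobenius L 2 (m + 1)
      s_s := fun x => by
        rw [iterateFrobenius_def, iterateFrobenius_def, ← pow_mul, ← pow_add,
          show m + 1 + (m + 1) = 2 * m + 1 + 1 by ring, pow_succ, pow_mul, h]
      e := 2 ^ (m + 1)
      s_eq := fun _ => rfl }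
  obtain ⟨e⟩ := gen_equiv chevF4 φ (f4Words_map φ (2 ^ m)) (f4Words_map φ.symm (2 ^ m))
  have hS := (sylow_gl (θ := iterateFrobenius L 2 m) (e := 2 ^ m) (fun _ => rfl) fun x => by
    change (x ^ 2 ^ m) ^ 2 ^ (m + 1) = x
    rw [← pow_mul, ← pow_add, show m + (m + 1) = 2 * m + 1 by ring, h]).1
  refine ⟨L, inferInstance, inferInstance, inferInstance, ⟨?_⟩⟩
  exact ((T.equiv (hS.toSylow.mapSurjective (f := e.symm.toMonoidHom) e.symm.surjective)).trans
    (e.symm.subgroupMap _).symm).trans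
    ((subgroupOfEquivOfLe hS.le).trans (MonoidHom.ofInjective gl_inj).symm)

end Cfsg.Agent.F4
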