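import Cfsg.Agent.Lib.F4.Basic
import Cfsg.Agent.Lib.U5.ESS12
import Cfsg.Agent.Lib.Ess.Conj

/-!
Tools for essential subgroups at the prime two: chains, dihedral arguments, conjugates.
-/

set_option autoImplicit false
set_option linter.unusedVariables false
set_option linter.unusedSectionVars false
set_option linter.style.haveILetI false
set_option linter.deprecated false

namespace Cfsg.Agent.F4

open Cfsg.Agent.Fus Cfsg.Agent.Fus2 Cfsg.Agent.Ess Subgroup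
open Cfsg.Agent.U5 (SEd sed_of_ess)

theorem dih_aux {G : Type*} [Group G] {x y : G} (hx : x * x = 1) (hy : y * y = 1) (k : ℕ) :
    y * (x * y) ^ k * y⁻¹ = ((x * y) ^ k)⁻¹ ∧ x * (x * y) ^ k * x⁻¹ = ((x * y) ^ k)⁻¹ := by
  have ex := eq_inv_of_mul_eq_one_left hx
  have ey := eq_inv_of_mul_eq_one_left hy
  rw [← conj_pow, ← conj_pow, ← inv_pow, mul_inv_rev, ← ex, ← ey]
  constructor <;> congr 1
  · rw [mul_assoc, mul_assoc, hy, mul_one]
  · rw [← mul_assoc, hx, one_mul]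

/-- Two involutions modulo `I`, one in `T` and one conjugated out of `Mx`, generate a dihedral
group with odd rotation order. -/
theorem sed_dih {Γ : Type*} [Group Γ] [Finite Γ] {A T I Mx : Subgroup Γ} (h : SEd 2 A T I Mx)
    [I.Normal] (hI : IsPGroup 2 I) (hIT : I ≤ T) {b c : Γ} (hb : b ∈ T) (hbI : b ∉ I)
    (hb2 : b * b ∈ I) (hc : c ∈ A) (hcM : c ∉ Mx) (hc2 : c * c ∈ I) :
    ∃ k : ℕ, ((b * c) ^ k)⁻¹ * c * (b * c) ^ k * b⁻¹ ∈ I := by
  let π := QuotientGroup.mk' I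
  have hπ : ∀ x, x ∈ I ↔ π x = 1 := fun x => (QuotientGroup.eq_one_iff x).symm
  have eb : π b * π b = 1 := by rw [← map_mul, ← hπ]; exact hb2
  have ec : π c * π c = 1 := by rw [← map_mul, ← hπ]; exact hc2
  have ho := pow_orderOf_eq_one (π b * π c)
  obtain ⟨k, hk | hk⟩ := Nat.even_or_odd' (orderOf (π b * π c))
  · exfalso
    obtain ⟨d₁, d₂⟩ := dih_aux eb ec k
    have hz : (π b * π c) ^ k * (π b * π c) ^ k = 1 := by rw [← pow_add, ← two_mul, ← hk, ho]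
    have hz' := eq_inv_of_mul_eq_one_left hz
    have hk0 : 0 < k := by have := orderOf_pos (π b * π c); omega
    have hA : (b * c) ^ k ∈ A := pow_mem (mul_mem (h.syl.le hb) hc) k
    have hcm : Commute (π b) ((π b * π c) ^ k) := by
      rw [← hz'] at d₂
      exact mul_inv_eq_iff_eq_mul.1 d₂
    have hX : IsPGroup 2 (closure {π b, (π b * π c) ^ k}) := by
      letI := closureCommGroupOfComm (k := {π b, (π b * π c) ^ k}) (by
        rintro _ (rfl | rfl) _ (rfl | rfl)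
        exacts [rfl, hcm, hcm.symm, rfl])
      rintro ⟨x, hx⟩
      refine ⟨1, ?_⟩
      induction hx using closure_induction with
      | mem x hx => rcases hx with rfl | rfl <;> exact Subtype.ext (by simpa [sq])
      | one => exact one_pow _
      | mul x y hx hy h₁ h₂ =>
        change ((⟨x, hx⟩ * ⟨y, hy⟩ : closure {π b, (π b * π c) ^ k})) ^ _ = 1
        rw [mul_pow, h₁, h₂, one_mul]
      | inv x hx h₁ =>
        change ((⟨x, hx⟩⁻¹ : closure {π b, (π b * π c) ^ k})) ^ _ = 1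
        rw [inv_pow, h₁, inv_one]
    have hX' := hX.comap_of_ker_isPGroup π (by rwa [QuotientGroup.ker_mk'])
    have hM : (b * c) ^ k ∈ Mx := h.le_of_isPGroup inf_le_right hX'.to_inf_left
      ⟨subset_closure (.inl rfl), h.syl.le hb⟩ hb hbI
      ⟨subset_closure (.inr (by simp [π])), hA⟩
    have h2 : (b * c) ^ k * (b * c) ^ k ∈ I := by rw [hπ]; simpa using hz
    obtain ⟨j, hj⟩ := hI ⟨_, h2⟩
    have := h.se c hc hcM _ hA hM ⟨j + 1, by
      rw [pow_succ', pow_mul, sq]; exact congrArg Subtype.val hj⟩ (by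
      have : c * (b * c) ^ k * c⁻¹ * (b * c) ^ k ∈ I := by
        rw [hπ]; simp only [map_mul, map_inv, map_pow, d₁, inv_mul_cancel]
      simpa using Mx.mul_mem (h.le (hIT this)) (Mx.inv_mem hM))
    rw [hπ, map_pow, map_mul] at this
    have := Nat.le_of_dvd hk0 (orderOf_dvd_of_pow_eq_one this)
    omega
  refine ⟨k, (hπ _).2 ?_⟩
  simp only [map_mul, map_inv, map_pow]
  have d₁ := mul_inv_eq_iff_eq_mul.1 (dih_aux eb ec k).1
  rw [hk, pow_succ, two_mul, pow_add] at ho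
  have e := eq_inv_of_mul_eq_one_right ho
  rw [mul_assoc _ (π c), d₁, ← mul_assoc, ← mul_inv_rev, ← e, mul_assoc (π b), ec]
  simp

section Fusion

variable {Ω : Type*} [Group Ω] {S : Subgroup Ω} [Finite S] {F : FusionSystem S} {E : Subgroup Ω}

theorem ess_conj {p : ℕ} [Fact p.Prime] (hE : F.IsEssential p E) {s : Ω} (hs : s ∈ S) :
    ∃ E', F.IsEssential p E' ∧ ∀ x, x ∈ E' ↔ s⁻¹ * x * s ∈ E :=
  ⟨_, isEssential_img hE (M_conj F le_rfl hs), fun x => by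
    rw [(homOn_conj E s).mem_img]
    exact ⟨by rintro ⟨y, hy, rfl⟩; simpa [mul_assoc], fun h => ⟨_, h, by group⟩⟩⟩

/-- `Q` acts trivially on the factors of `E ∩ D ≥ E ∩ D₁ ≥ … ≥ 1`. -/
def Ch (Q E : Subgroup Ω) : Subgroup Ω → List (Subgroup Ω) → Prop
  | D, [] => ∀ g ∈ Q, ∀ x ∈ E, x ∈ D → g * x = x * g
  | D, D₁ :: l => (∀ g ∈ Q, ∀ x ∈ E, x ∈ D → x⁻¹ * (g * x * g⁻¹) ∈ D₁) ∧ Ch Q E D₁ l

/-- `D ∩ E` is invariant under `H`. -/
def Iv (H : Subgroup (MulAut E)) (D : Subgroup Ω) : Prop := ∀ β ∈ H, ∀ x ∈ E, x ∈ D → afn β x ∈ D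

theorem Ch.mono {Q : Subgroup Ω} {l : List (Subgroup Ω)} {D D' : Subgroup Ω} (h : Ch Q E D l)
    (hD : D' ≤ D) : Ch Q E D' l := by
  cases l with
  | nil => exact fun g hg x hx h' => h g hg x hx (hD h')
  | cons D₁ l => exact ⟨fun g hg x hx h' => h.1 g hg x hx (hD h'), h.2⟩

variable {p : ℕ} [Fact p.Prime] (hS : IsPGroup p S) (hc : F.IsCentric E)
  {H Mx : Subgroup (MulAut E)}
include hS hc

/-- The chain lemma for `H`-invariant chains of any length. -/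
theorem chain_of_sed (h : SEd p H (autInducedBy S E) (Inn E) Mx) {Q : Subgroup Ω} (hQ : Q ≤ S)
    (hn : E ≤ normalizer (Q : Set Ω)) (l : List (Subgroup Ω)) (hl : ∀ D ∈ l, Iv H D)
    (hC : Ch Q E ⊤ l) : Q ≤ E := by
  haveI := Fus.finite_of_le hc.1
  by_contra hcon
  obtain ⟨g, hg, hN, hgE⟩ := exists_mem_normalizer_of_not_le hS hc.1 hQ hn hcon
  have hG := isPGroup_of_le hS hc.1
  have hH := h.syl.le (conjAut_mem_autInducedBy (hQ hg) hN)
  have key : ∀ (l : List (Subgroup Ω)) (D : Subgroup Ω), Iv H D → (∀ D ∈ l, Iv H D) → Ch Q E D l →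
      Ctl p (ncl H {conjAut E g hN}) (D.subgroupOf E) ⊥ := by
    intro l
    induction l with
    | nil =>
      exact fun D hD _ hC => ctl_ncl_single bot_le (inv_subgroupOf_iff.2 hD) (inv_bot _)
        (trivOn_bot_iff.2 fun x hx => Subtype.ext (mul_inv_eq_iff_eq_mul.2 (hC g hg x x.2 hx)))
    | cons D₁ l ih =>
      intro D hD hl hC
      have h₁ : Iv H (D ⊓ D₁) := fun β hβ x hx hx' =>
        ⟨hD β hβ x hx hx'.1, hl D₁ (by simp) β hβ x hx hx'.2⟩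
      refine Ctl.trans_bot hG (ctl_ncl_single (comap_mono inf_le_left) (inv_subgroupOf_iff.2 hD)
        (inv_subgroupOf_iff.2 h₁) (trivOn_conjAut_iff.2 fun x hx hx' => ⟨?_, hC.1 g hg x hx hx'⟩))
        (ih _ h₁ (fun D hD => hl D (by simp [hD])) (hC.2.mono inf_le_right))
      exact D.mul_mem (D.inv_mem hx') (afn_conjAut hN hx ▸ hD _ hH x hx hx')
  have := key l ⊤ (fun _ _ _ _ _ => trivial) hl hC
  rw [top_subgroupOf] at this
  exact hgE (h.mem_of_ctl hS hc (hQ hg) hN this)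

omit hc in
/-- The chain lemma for essential subgroups. -/
theorem chain (hF : F.IsSaturated p) (hE : F.IsEssential p E) {Q : Subgroup Ω} (hQ : Q ≤ S)
    (hn : E ≤ normalizer (Q : Set Ω)) (l : List (Subgroup Ω)) (hl : ∀ D ∈ l, Iv (F.autGroup E) D)
    (hC : Ch Q E ⊤ l) : Q ≤ E :=
  let ⟨_, h⟩ := sed_of_ess hS hF hE
  chain_of_sed hS hE.1 h hQ hn l hl hC

end Fusion

section Two

variable {Ω : Type*} [Group Ω] {S : Subgroup Ω} [Finite S] {F : FusionSystem S} {E : Subgroup Ω}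
  (hS : IsPGroup 2 S) (hc : F.IsCentric E) {H Mx : Subgroup (MulAut E)}
  (h : SEd 2 H (autInducedBy S E) (Inn E) Mx) {a b : Ω} (ha : a ∈ S)
  (haN : a ∈ normalizer (E : Set Ω)) (haE : a ∉ E) (ha2 : a * a ∈ E) (hb : b ∈ S)
  (hbN : b ∈ normalizer (E : Set Ω)) (hbE : b ∉ E) (hb2 : b * b ∈ E)
include hS hc h ha haN haE ha2 hb hbN hbE hb2

theorem dih_fus {γ : MulAut E} (hγ : γ ∈ H) (hγM : γ ∉ Mx) : ∃ ρ ∈ H, (∀ w ∈ E, b * w * b⁻¹ = w →
      afn γ (a * afn γ⁻¹ w * a⁻¹) = w → afn ρ w = w) ∧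
    ∃ e ∈ E, ∀ x ∈ E, afn (ρ * γ) (a * x * a⁻¹) = e * b * afn (ρ * γ) x * (e * b)⁻¹ := by
  haveI := Fus.finite_of_le hc.1
  haveI := innNormal E
  have hI : IsPGroup 2 (Inn E) :=
    (isPGroup_of_le hS hc.1).of_surjective _ (MonoidHom.rangeRestrict_surjective _)
  have sq : ∀ {a : Ω} (ha : a ∈ S) (haN : a ∈ normalizer (E : Set Ω)), a * a ∈ E →
      conjAut E a haN * conjAut E a haN ∈ Inn E := fun ha haN h2 => by
    rw [← conjAut_mul]; exact (mem_iff_conjAut_mem_Inn hc (mul_mem ha ha) _).2 h2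
  have hA := conjAut_mem_autInducedBy (P := E) ha haN
  have hB := conjAut_mem_autInducedBy (P := E) hb hbN
  have hC := mul_mem (mul_mem hγ (h.syl.le hA)) (inv_mem hγ)
  obtain ⟨k, hk⟩ := sed_dih h hI (Inn_le_autInducedBy hc.1) hB
    (fun e => hbE ((mem_iff_conjAut_mem_Inn hc hb hbN).1 e)) (sq hb hbN hb2) hC
    (h.conj_notMem hγ hγM hA fun e => haE ((mem_iff_conjAut_mem_Inn hc ha haN).1 e))
    (by rw [conj_mul]; exact Normal.conj_mem inferInstance _ (sq ha haN ha2) _)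
  obtain ⟨e, he, hk⟩ := Fus2.mem_Inn_iff.1 hk
  refine ⟨_, inv_mem (pow_mem (mul_mem (h.syl.le hB) hC) k), fun w hw h₁ h₂ => ?_, e, he,
    fun x hx => ?_⟩
  · have : ∀ k : ℕ, afn ((conjAut E b hbN * (γ * conjAut E a haN * γ⁻¹)) ^ k) w = w := fun k => by
      induction k with
      | zero => simp
      | succ k ih =>
        rw [pow_succ, afn_mul, afn_mul, afn_mul, afn_mul, afn_conjAut haN (afn_mem _ hw), h₂,
          afn_conjAut hbN hw, h₁, ih]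
    conv_lhs => rw [← this k]
    exact afn_inv_afn _ w
  · have hy := afn_mem ((((conjAut E b hbN * (γ * conjAut E a haN * γ⁻¹)) ^ k)⁻¹) * γ) hx
    have := hk _ (afn_mem (conjAut E b hbN) hy)
    rw [← afn_mul, ← afn_mul, afn_conjAut hbN hy] at this
    rw [← afn_conjAut haN hx, ← afn_mul]
    refine Eq.trans ?_ (this.trans (by group))
    congr 1
    group

/-- All involutions modulo `E` are conjugate. -/
theorem inv_conj : ∃ β ∈ H, ∃ e ∈ E, ∀ x ∈ E, afn β (a * x * a⁻¹) = e * b * afn β x * (e * b)⁻¹ := by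
  obtain ⟨γ, hγ, hγM⟩ := h.exists_notMem
  obtain ⟨ρ, hρ, -, e⟩ := dih_fus hS hc h ha haN haE ha2 hb hbN hbE hb2 hγ hγM
  exact ⟨_, mul_mem hρ hγ, e⟩

/-- A commutator of a conjugate of `a` outside `Mx` fixed by `b` is a commutator of `b`. -/
theorem rlem {γ : MulAut E} (hγ : γ ∈ H) (hγM : γ ∉ Mx) {x : Ω} (hx : x ∈ E)
    (hz : ∀ e ∈ E, x * e = e * x) (hx2 : x * x = 1)
    (hw : b * afn γ (x⁻¹ * (a * x * a⁻¹)) = afn γ (x⁻¹ * (a * x * a⁻¹)) * b) :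
    ∃ β ∈ H, afn γ (x⁻¹ * (a * x * a⁻¹)) = (afn β x)⁻¹ * (b * afn β x * b⁻¹) := by
  haveI := Fus.finite_of_le hc.1
  obtain ⟨ρ, hρ, h₁, e, he, h₂⟩ := dih_fus hS hc h ha haN haE ha2 hb hbN hbE hb2 hγ hγM
  have hax : a * x * a⁻¹ ∈ E := (mem_normalizer_iff.1 haN x).1 hx
  have hm := mul_mem (inv_mem hx) hax
  have ex := eq_inv_of_mul_eq_one_left hx2
  refine ⟨ρ * γ, mul_mem hρ hγ, ?_⟩
  rw [← h₁ _ (afn_mem γ hm) (mul_inv_eq_iff_eq_mul.2 hw) (by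
      rw [afn_inv_afn, ← ex]
      congr 1
      calc a * (x * (a * x * a⁻¹)) * a⁻¹ = a * x * a⁻¹ * (a * a * x * (a * a)⁻¹) := by group
        _ = x * (a * x * a⁻¹) := by rw [← hz _ ha2, mul_inv_cancel_right, hz _ hax]),
    ← afn_mul, (homOn_afn _).map_mul (inv_mem hx) hax, (homOn_afn _).map_inv hx, h₂ x hx]
  have hy := afn_mem (ρ * γ) hx
  have hb' : b⁻¹ * e * b ∈ E := by simpa using (mem_normalizer_iff.1 (inv_mem hbN) e).1 he
  have := U5.E3.afn_comm (ρ * γ) hx (afn_mem (ρ * γ)⁻¹ hb') (hz _ (afn_mem _ hb'))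
  rw [afn_afn_inv] at this
  congr 1
  calc e * b * afn (ρ * γ) x * (e * b)⁻¹
      = b * (b⁻¹ * e * b * afn (ρ * γ) x) * (e * b)⁻¹ := by group
    _ = b * afn (ρ * γ) x * b⁻¹ := by rw [← this]; group

end Two

variable {K : Type} [Field K] [Finite K] [Rf K] {F : FusionSystem (⊤ : Subgroup (P K))}
  {E : Subgroup (P K)}

theorem le_of_cent {p : ℕ} (hE : F.IsEssential p E) {g : P K} (h : ∀ e ∈ E, g * e = e * g) : g ∈ E :=
  IsCentric_centralizerIn_le hE.1 (Fus.mem_centralizerIn.2 ⟨mem_top _, fun x hx => (h x hx).symm⟩)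

theorem Z_le {p : ℕ} (hE : F.IsEssential p E) : Z K ≤ E := fun z hz => le_of_cent hE fun e _ => comm_Z hz e

theorem mem_N_of_icj {g : P K} (h : ∀ e ∈ E, e⁻¹ * (g * e * g⁻¹) ∈ E) :
    g ∈ normalizer (E : Set (P K)) :=
  mem_normalizer_of_conj_mem fun e he => by simpa using E.mul_mem he (h e he)

variable (E) in
/-- The central involutions of `E`. -/
def Z1 : Subgroup (P K) where
  carrier := {x | x ∈ E ∧ (∀ e ∈ E, x * e = e * x) ∧ x * x = 1}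
  one_mem' := ⟨one_mem _, by simp, by simp⟩
  mul_mem' := fun {x y} hx hy => ⟨mul_mem hx.1 hy.1, fun e he => by
    rw [mul_assoc, hy.2.1 e he, ← mul_assoc, hx.2.1 e he, mul_assoc], by
    rw [mul_assoc, ← mul_assoc y, ← hx.2.1 y hy.1, mul_assoc, hy.2.2, mul_one, hx.2.2]⟩
  inv_mem' := fun {x} hx => by rwa [← eq_inv_of_mul_eq_one_left hx.2.2]

theorem afn_sq (β : MulAut E) {x : P K} (hx : x ∈ E) (h : x * x = 1) : afn β x * afn β x = 1 := by
  rw [← (homOn_afn β).map_mul hx hx, h, (homOn_afn β).map_one]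

theorem afn_Z1 (β : MulAut E) {x : P K} (hx : x ∈ Z1 E) : afn β x ∈ Z1 E :=
  ⟨afn_mem β hx.1, fun e he => by
    rw [← afn_afn_inv β e]
    exact U5.E3.afn_comm β hx.1 (afn_mem _ he) (hx.2.1 _ (afn_mem _ he)), afn_sq β hx.1 hx.2.2⟩

theorem iv_Z1 (H : Subgroup (MulAut E)) : Iv H (Z1 E) := fun β _ _ _ hx => afn_Z1 β hx

theorem iv_cr (H : Subgroup (MulAut E)) (X : Subgroup (P K)) : Iv H (U5.E3.cr H X) := U5.E3.cr_inv

theorem Z_le_Z1 {p : ℕ} (hE : F.IsEssential p E) : Z K ≤ Z1 E :=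
  fun z hz => ⟨Z_le hE hz, fun e _ => comm_Z hz e, sq_V2 (Z_le_V2 hz)⟩

/-- The commutator of `e` with an image of an element of a normal elementary subgroup. -/
theorem afn_icj_sq (β : MulAut E) {A : Subgroup (P K)} [A.Normal] (hA : A ≤ E)
    (h : ∀ x ∈ A, x * x = 1) {v e : P K} (hv : v ∈ A) (he : e ∈ E) :
    (afn β v)⁻¹ * (e * afn β v * e⁻¹) * ((afn β v)⁻¹ * (e * afn β v * e⁻¹)) = 1 := by
  have hm : v⁻¹ * (afn β⁻¹ e * v * (afn β⁻¹ e)⁻¹) ∈ A :=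
    mul_mem (inv_mem hv) (Normal.conj_mem inferInstance v hv _)
  have := afn_sq β (hA hm) (h _ hm)
  have e₁ := U5.E3.afn_icj β (hA hv) (afn_mem β⁻¹ he)
  rw [afn_afn_inv] at e₁
  exact e₁ ▸ this

theorem le_Q2_of_A (β : MulAut E) {A : Subgroup (P K)} [A.Normal] (hA : A ≤ E)
    (h : ∀ x ∈ A, x * x = 1) {v : P K} (hv : v ∈ A) (h₁ : (afn β v).x1 ≠ 0) : E ≤ Q2 K :=
  fun _ he => elA (afn_sq β (hA hv) (h v hv)) h₁ (afn_icj_sq β hA h hv he)

theorem le_Q1_of_B (β : MulAut E) {A : Subgroup (P K)} [A.Normal] (hA : A ≤ E)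
    (h : ∀ x ∈ A, x * x = 1) {v : P K} (hv : v ∈ A) (h₁ : (afn β v).x1 = 0)
    (h₂ : (afn β v).z8 ≠ 0) : E ≤ Q1 K :=
  fun _ he => elB (afn_sq β (hA hv) (h v hv)) h₁ h₂ (afn_icj_sq β hA h hv he)

/-- If an automorphism image of `Z` contains `Z`, it equals `Z`. -/
theorem map_Z_of (β : MulAut E) (h : ∀ u, ∃ z ∈ Z K, afn β z = rz4 u) :
    ∀ z ∈ Z K, afn β z ∈ Z K :=
  U5.E3.inv_of_inv fun x hx => by
    obtain ⟨z, hz, e⟩ := h x.z4
    rw [eq_rz4 hx, ← e, afn_inv_afn]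
    exact hz

/-- The counting contradiction RR. -/
theorem rr (hF : F.IsSaturated 2) (hE : F.IsEssential 2 E) {w : P K} (hw : w ∈ Z1 E)
    (hV : V1 K ≤ Z1 E) (hB : ∀ v ∈ V1 K, v ≠ 1 → ∃ b ∈ normalizer (E : Set (P K)), b ∉ E ∧ b * b ∈ E ∧
      v = w⁻¹ * (b * w * b⁻¹)) {b₁ b₂ : P K} (n₁ : b₁ ∈ normalizer (E : Set (P K))) (e₁ : b₁ ∉ E)
    (s₁ : b₁ * b₁ ∈ E) (n₂ : b₂ ∈ normalizer (E : Set (P K))) (e₂ : b₂ ∉ E) (s₂ : b₂ * b₂ ∈ E)
    (φ : P K → K) (hφ : ∀ x ∈ Z1 E, ∀ y ∈ Z1 E, φ x = φ y →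
      b₁ * (x * y) = x * y * b₁ ∧ b₂ * (x * y) = x * y * b₂)
    (h₁ : ∀ y ∈ Z1 E, y⁻¹ * (b₁ * y * b₁⁻¹) ∈ Z K) (h₂ : ∀ y ∈ Z1 E, y⁻¹ * (b₂ * y * b₂⁻¹) ∈ Zm K) :
    False := by
  obtain ⟨Mx, h⟩ := sed_of_ess (pg_top K) hF hE
  obtain ⟨γ, hγ, hγM⟩ := h.exists_notMem
  have hm : ∀ u : K × K, rz4 u.1 * rz6 u.2 ∈ V1 K := fun u => by simp [mem_V1]
  obtain ⟨u, u', e, hne⟩ : ∃ u u' : K × K, φ (afn γ (rz4 u.1 * rz6 u.2)) =
      φ (afn γ (rz4 u'.1 * rz6 u'.2)) ∧ u ≠ u' := by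
    by_contra hc
    push Not at hc
    have := Nat.card_le_card_of_injective _ hc
    rw [Nat.card_prod] at this
    have := Finite.one_lt_card (α := K)
    nlinarith
  obtain ⟨c₁, c₂⟩ := hφ _ (afn_Z1 γ (hV (hm u))) _ (afn_Z1 γ (hV (hm u'))) e
  rw [← (homOn_afn γ).map_mul (hV (hm u)).1 (hV (hm u')).1] at c₁ c₂
  have hv : rz4 u.1 * rz6 u.2 * (rz4 u'.1 * rz6 u'.2) ≠ 1 := fun e => by
    have a₁ := congrArg P.z4 e
    have a₂ := congrArg P.z6 e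
    simp at a₁ a₂
    exact hne (Prod.ext (by grind) (by grind))
  obtain ⟨b, n, hbE, s, e'⟩ := hB _ (mul_mem (hm u) (hm u')) hv
  rw [e'] at c₁ c₂ hv
  obtain ⟨β₁, -, k₁⟩ := rlem (pg_top K) hE.1 h trivial n hbE s trivial n₁ e₁ s₁ hγ hγM hw.1 hw.2.1
    hw.2.2 c₁
  obtain ⟨β₂, -, k₂⟩ := rlem (pg_top K) hE.1 h trivial n hbE s trivial n₂ e₂ s₂ hγ hγM hw.1 hw.2.1
    hw.2.2 c₂
  have j₁ := h₁ _ (afn_Z1 β₁ hw)
  have j₂ := h₂ _ (afn_Z1 β₂ hw)
  rw [← k₁] at j₁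
  rw [← k₂] at j₂
  exact hv (afn_injective γ ((eq_one_of_Z_Zm j₁ j₂).trans (homOn_afn γ).map_one.symm))

end Cfsg.Agent.F4
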