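import Cfsg.Agent.Lib.F4.Tool
import Cfsg.Agent.Lib.F4.Nrm

/-!
Row TOR: the whole torus lies in `F`.
-/

set_option autoImplicit false

namespace Cfsg.Agent.F4

open Cfsg.Agent.Fus Cfsg.Agent.Fus2 Subgroup
open Cfsg.Agent.U5 (SEd sed_of_ess)

namespace To

variable {K : Type} [Field K] [Finite K] [Rf K] {F : FusionSystem (⊤ : Subgroup (P K))}

theorem au {E : Subgroup (P K)} {β : MulAut E} (hβ : β ∈ F.autGroup E) : Au F E (afn β) :=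
  ⟨M_afn le_top hβ, fun _ hx => afn_mem β hx⟩

theorem isAut {E : Subgroup (P K)} {f : P K → P K} (hf : Au F E f) : IsAut E f :=
  ⟨hf.1.homOn, fun x hx y hy => hf.1.inj x hx y hy, hf.2⟩

theorem exists_inv (hF : F.IsSaturated 2) {E A B : Subgroup (P K)} [E.Normal]
    (hE : F.IsEssential 2 E) (hBA : B ≤ A) (hA : A ≤ E)
    (hi : ∀ f, Au F E f → Mp f A A ∧ Mp f B B) (hT : ∀ g, ∀ x ∈ A, x⁻¹ * (g * x * g⁻¹) ∈ B)
    {a b : P K} (ha : a ∉ E) (ha2 : a * a = 1) (hb : b ∉ E) (hb2 : b * b = 1) :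
    ∃ f, Au F E f ∧ (∀ x ∈ A, x⁻¹ * f x ∈ B) ∧
      ∃ e ∈ E, ∀ x ∈ E, f (a * x * a⁻¹) = e * b * f x * (e * b)⁻¹ := by
  obtain ⟨Mx, h⟩ := sed_of_ess (pg_top K) hF hE
  have hN : ∀ g, g ∈ normalizer (E : Set (P K)) := fun g => (normalizer_eq_top _).ge trivial
  let H := F.autGroup E ⊓ Ess.trivSub (A.subgroupOf E) (B.subgroupOf E) (subgroupOf_mono _ hBA)
  have h₁ : autInducedBy ⊤ E ≤ H := fun τ hτ => ⟨h.syl.le hτ, fun x hx => by
    obtain ⟨g, -, e⟩ := Fus2.mem_autInducedBy_iff.1 hτ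
    have := hT g x hx
    rwa [← e x x.2, afn_coe] at this⟩
  obtain ⟨γ, hγ, hγM⟩ := h.exists_notMem
  have ht := conjAut_mem_autInducedBy (P := E) (mem_top a) (hN a)
  have h₂ : γ * conjAut E a (hN a) * γ⁻¹ ∈ H :=
    mem_inf.2 ⟨mul_mem (mul_mem hγ (h.syl.le ht)) (inv_mem hγ), TrivOn.conj (h₁ ht).2 (fun x hx => by
      have := (hi _ (au (inv_mem hγ))).1 x hx
      rwa [afn_coe] at this) fun x hx => by
      have := (hi _ (au hγ)).2 x hx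
      rwa [afn_coe] at this⟩
  obtain ⟨β, hβ, e⟩ := inv_conj (pg_top K) hE.1 (h.her h₁ inf_le_left fun hle =>
    h.conj_notMem hγ hγM ht (fun e => ha ((Ess.mem_iff_conjAut_mem_Inn hE.1 trivial _).1 e)) (hle h₂))
    trivial (hN a) ha (ha2 ▸ one_mem _) trivial (hN b) hb (hb2 ▸ one_mem _)
  exact ⟨_, au hβ.1, fun x hx => by rw [afn_apply _ (hA hx)]; exact hβ.2 ⟨x, hA hx⟩ hx, e⟩

theorem of_nf {g : P K → P K} (hg : M F ⊤ g) {x : P K} {l m : Kˣ} {φ : K ≃+* K}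
    (e : ∀ y, g y = x * dg l m φ y * x⁻¹) {c : K} (h : ∀ u, c * φ u = u) :
    c = 1 ∧ φ = RingEquiv.refl K ∧ M F ⊤ (dg l m (RingEquiv.refl K)) := by
  obtain rfl : c = 1 := by simpa using h 1
  obtain rfl : φ = RingEquiv.refl K := RingEquiv.ext fun u => by simpa using h u
  exact ⟨rfl, rfl, (hg.comp (M_conj F le_rfl (mem_top x⁻¹)) fun _ _ => trivial).congr fun y _ => by
    simp [e, mul_assoc]⟩

theorem icj_of {E : Subgroup (P K)} {f : P K → P K} (hf : Au F E f) [E.Normal] {a c v : P K}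
    (hv : v ∈ E) (h : f (a * v * a⁻¹) = c * f v * c⁻¹) :
    f (v⁻¹ * (a * v * a⁻¹)) = (f v)⁻¹ * (c * f v * c⁻¹) := by
  rw [hf.1.homOn.map_mul (inv_mem hv) (Normal.conj_mem inferInstance v hv a),
    hf.1.homOn.map_inv hv, h]

theorem side₁ (h1 : Ch1Stmt) (hX : ExtStmt) (hF : F.IsSaturated 2) (hN : NF F)
    (hE : F.IsEssential 2 (Q1 K)) (m : Kˣ) : M F ⊤ (dg (m ^ 2)⁻¹ m (RingEquiv.refl K)) := by
  have a0 : (((m ^ 2)⁻¹ : Kˣ) : K) ≠ 0 := Units.ne_zero _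
  generalize hα : (((m ^ 2)⁻¹ : Kˣ) : K) = α at a0
  obtain ⟨f, hf, ht, e, he, hc⟩ := exists_inv hF hE V1_le_U3 U3_le_Q1
    (fun f hf => ⟨(h1 (isAut hf)).1.2.1, (h1 (isAut hf)).1.1⟩) (fun g _ => icj_S_U3 g)
    (a := rx1 1) (b := rx1 α) (by simp [mem_Q1]) (by ext <;> simp <;> grind) a0
    (by ext <;> simp <;> grind)
  have hV := (h1 (isAut hf)).1.1
  have k : ∀ v ∈ V1 K, (f (v⁻¹ * (rx1 1 * v * (rx1 1)⁻¹))).z4 = α * (f v).z6 := fun v hv => by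
    rw [icj_of hf (V1_le_Q1 hv) (hc v (V1_le_Q1 hv)), Nr.f_z4 _ (hV v hv), P.mul_x1, mem_Q1.1 he,
      zero_add, rx1_x1]
  obtain ⟨g, hg, eg⟩ := (hX hF).1.1 f hf fun z hz => by
    have := k z (Z_le_V1 hz)
    rw [← comm_Z hz, mul_inv_cancel_right, inv_mul_cancel, hf.1.homOn.map_one] at this
    obtain ⟨a1, a2, a3, a4, a5, a6, a7, a8, a9, a10⟩ := hV z (Z_le_V1 hz)
    exact ⟨a1, a2, a3, a4, a5, a6, a7, a8, a9, a10, by simpa [a0] using this⟩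
  obtain ⟨x, l, m', φ, e'⟩ := hN g hg
  replace eg : ∀ y ∈ Q1 K, f y = x * dg l m' φ y * x⁻¹ := fun y hy => (eg y hy).symm.trans (e' y)
  obtain ⟨c1, rfl, h⟩ := of_nf hg e' (c := l * σ (l : K) * m' ^ 2 * σ (m' : K) ^ 2) fun u => by
    have hu : rx5 u ∈ U3 K := by simp [mem_U3]
    have b1 := (mod_V1.1 (ht _ hu)).2.2.2.2.2.2.2.2.2
    rw [eg _ (U3_le_Q1 hu), ← (mod_V1.1 (icj_S_U3 x (Nr.inv_U3 _ hu))).2.2.2.2.2.2.2.2.2] at b1
    exact b1.symm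
  have hv := Zm_le_V1 (rz6_mem (1 : K))
  have b1 := k _ hv
  have b2 := icj_S_V1 (rx1 1) hv
  rw [eg _ (Z_le_Q1 b2), ← comm_Z (Nr.inv_Z _ b2), mul_inv_cancel_right, dg_z4, Nr.f_z4 _ hv,
    eg _ (V1_le_Q1 hv), ← (mod_Z.1 (icj_S_V1 x (Nr.inv_V1 _ hv))).2.2.2.2.2.2.2.2.2.2] at b1
  have l0 := l.ne_zero
  have m0 := m'.ne_zero
  have b3 : (l : K) = α := mul_right_cancel₀ (mul_ne_zero (mul_ne_zero (mul_ne_zero l0 (s_ne l0))
    (pow_ne_zero 3 m0)) (pow_ne_zero 2 (s_ne m0))) (by simp at b1; linear_combination b1)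
  have b4 : (l : K) * m' ^ 2 = 1 := N_inj (by simp only [map_mul, map_pow, map_one]; grind)
  obtain rfl : l = (m ^ 2)⁻¹ := Units.ext (b3.trans hα.symm)
  obtain rfl : m' = m := Units.ext (s_inj (s_inj (by
    rw [Rf.s_s, Rf.s_s]
    exact ((inv_mul_eq_one₀ (by simp)).1 (by simpa using b4)).symm)))
  exact h

theorem side₂ (h2 : Ch2Stmt) (hX : ExtStmt) (hF : F.IsSaturated 2) (hN : NF F)
    (hE : F.IsEssential 2 (Q2 K)) (m : Kˣ) : ∃ l : Kˣ, (l : K) ^ 2 * σ (l : K) * m ^ 3 *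
      σ (m : K) ^ 2 = 1 ∧ M F ⊤ (dg l m (RingEquiv.refl K)) := by
  have a0 : (m : K) * σ (m : K) ≠ 0 := mul_ne_zero m.ne_zero (s_ne m.ne_zero)
  generalize hα : (m : K) * σ (m : K) = α at a0
  obtain ⟨f, hf, ht, e, he, hc⟩ := exists_inv hF hE bot_le Z_le_Q2
    (fun f hf => ⟨(h2 (isAut hf)).1.1, fun x hx => by
      rw [mem_bot.1 hx, hf.1.homOn.map_one]; exact one_mem _⟩)
    (fun g x hx => by rw [← comm_Z hx, mul_inv_cancel_right, inv_mul_cancel]; exact one_mem _)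
    (a := rz8 1) (b := rz8 α) (by simp [mem_Q2]) (by ext <;> simp <;> grind) (fun h => a0 h.2)
    (by ext <;> simp <;> grind)
  replace ht : ∀ x ∈ Z K, f x = x := fun x hx => (inv_mul_eq_one.1 (ht x hx)).symm
  have y0 : (e * rz8 α).y8 = 0 := by simp [he.1]
  have z0 : (e * rz8 α).z8 = α := by simp [he.1, he.2]
  generalize e * rz8 α = c at hc y0 z0
  have hv := Zm_le_V1 (rz6_mem (1 : K))
  obtain ⟨g, hg, eg⟩ := (hX hF).1.2 f hf ((h2 (isAut hf)).2.2.resolve_right fun ⟨s, hs⟩ => by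
    have b1 := (h2 (isAut hf)).1.2.1 _ (V1_le_V2 hv)
    have b2 := hc _ (V1_le_Q2 hv)
    rw [← comm_V1 hv (show rz8 1 ∈ Q1 K from rfl), mul_inv_cancel_right, eq_mul_inv_iff_mul_eq] at b2
    have b3 : s * f (rz6 1) * s⁻¹ ∈ Vm K := hs _ hv
    have b4 : f (rz6 1) ∉ Z K := fun h => by
      simpa using congrArg P.z6 (hf.1.inj _ (Z_le_Q2 h) _ (V1_le_Q2 hv) (ht _ h)) |>.symm.trans
        h.2.2.2.2.2.2.2.2.2.2
    generalize f (rz6 1) = w at b1 b2 b3 b4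
    have b5 : w.z2 = 0 := by
      have := congrArg P.x5 b2
      simp only [mem_V2] at b1
      simp [b1, y0, z0] at this
      grind
    have b6 := (mod_U4.1 (icj_S_J0 s (V2_le_J0 b1))).2.2.2.2.2.2.1
    obtain ⟨a1, a2, a3, a4, a5, a6, a7, a8, a9, a10⟩ := b3
    exact b4 (by
      simpa [mul_assoc] using Normal.conj_mem inferInstance (s * w * s⁻¹ : P K) (show _ ∈ Z K from
        ⟨a1, a2, a3, a4, a5, a6, b6 ▸ b5, a7, a8, a9, a10⟩) s⁻¹))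
  obtain ⟨x, l, m', φ, e'⟩ := hN g hg
  replace eg : ∀ y ∈ Q2 K, f y = x * dg l m' φ y * x⁻¹ := fun y hy => (eg y hy).symm.trans (e' y)
  obtain ⟨c1, rfl, h⟩ := of_nf hg e' (c := l ^ 2 * σ (l : K) * m' ^ 3 * σ (m' : K) ^ 2) fun u => by
    have b1 := ht _ (rz4_mem u)
    rw [eg _ (Z_le_Q2 (rz4_mem u)), ← comm_Z (Nr.inv_Z _ (rz4_mem u)), mul_inv_cancel_right] at b1
    exact congrArg P.z4 b1
  have hu : rx3 (1 : K) ∈ U4 K := by simp [mem_U4]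
  have k : ∀ c : P K, c.y8 = 0 → ∀ w ∈ U4 K, (w⁻¹ * (c * w * c⁻¹)).z6 = c.z8 * w.x3 :=
    fun c hc w hw => by
      simp only [mem_U4] at hw
      simp [hw, hc, Rf.s_s]
      grind
  have b1 := congrArg P.z6 (icj_of hf (U4_le_Q2 hu) (hc _ (U4_le_Q2 hu)))
  have b2 := icj_N8_U4 (show rz8 1 ∈ N8 K from rfl) hu
  rw [eg _ (V1_le_Q2 b2), ← (mod_Z.1 (icj_S_V1 x (Nr.inv_V1 _ b2))).2.2.2.2.2.2.2.2.2.2, dg_z6,
    k _ rfl _ hu, eg _ (U4_le_Q2 hu), k _ y0 _ (Normal.conj_mem inferInstance _ (Nr.inv_U4 _ hu) x),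
    ← (mod_U3.1 (icj_S_U4 x (Nr.inv_U4 _ hu))).2.2.2.2.2.2.2.2, z0] at b1
  have l0 := l.ne_zero
  have m0 := m'.ne_zero
  obtain rfl : m' = m := Units.ext (N_inj (hα ▸ mul_right_cancel₀ (mul_ne_zero (mul_ne_zero
    (mul_ne_zero l0 (s_ne l0)) (pow_ne_zero 2 m0)) (s_ne m0)) (by simp at b1; linear_combination b1)))
  exact ⟨l, c1, h⟩

end To

theorem tor (h1 : Ch1Stmt) (h2 : Ch2Stmt) (hX : ExtStmt) : TorStmt := by
  intro K _ _ _ F hF hN e₁ e₂ l m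
  have c0 : (l : K) * m ^ 2 ≠ 0 := by simp
  let m₂ := Units.mk0 _ (mul_ne_zero (pow_ne_zero 2 c0) (s_ne c0))
  obtain ⟨l₂, h, h₂⟩ := To.side₂ h2 hX hF hN e₂ m₂
  have h₃ : (l₂ : K) * m₂ ^ 2 = l * m ^ 2 := M_inj (by
    rw [show _ * σ ((l : K) * m ^ 2) = (m₂ : K) from rfl, map_mul, map_pow]
    linear_combination (m₂ : K) * h)
  have := h₂.comp (To.side₁ h1 hX hF hN e₁ (m / m₂)) fun _ _ => trivial
  refine this.congr fun y _ => ?_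
  rw [← MulAut.mul_apply, Nr.dg_mul]
  congr 2
  · ext
    simp only [Units.val_mul, Units.val_inv_eq_inv_val, Units.val_pow_eq_pow_val,
      Units.val_div_eq_div_val, Units.coe_map, MonoidHom.coe_coe, RingEquiv.refl_apply]
    field_simp
    linear_combination h₃
  · ext
    simp

end Cfsg.Agent.F4
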