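import Cfsg.Agent.Lib.F4.Two4

/-!
Row TWO: for `q = 2` the Weyl elements are unique up to `Aut(S)`.
-/

set_option autoImplicit false
set_option linter.unusedSectionVars false

namespace Cfsg.Agent.F4.Bit

open Cfsg.Agent.Fus Cfsg.Agent.Fus2 Subgroup

variable {K : Type} [Field K] [Finite K] [Rf K] (hK : ∀ μ : K, μ = 0 ∨ μ = 1)

theorem ap_one (T : Tb (P K)) : apK T 1 = 1 := by simp [apK, pw]

include hK

theorem th_mul (k0 k1 k2 k3 : K) (x y : P K) :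
    apK (ThK k0 k1 k2 k3) (x * y) = apK (ThK k0 k1 k2 k3) x * apK (ThK k0 k1 k2 k3) y := by
  generalize hT : ThK k0 k1 k2 k3 = T
  let R : P K → Prop := fun y => ∀ x, apK T (x * y) = apK T x * apK T y
  have mul : ∀ {y z}, R y → R z → R (y * z) := fun hy hz x => by
    rw [← mul_assoc, hz, hy, hz, mul_assoc]
  have pw' : ∀ {y} (t : K), R y → R (pw y t) := fun t hy => by
    unfold pw
    split_ifs
    exacts [fun x => by rw [mul_one, ap_one, mul_one], hy]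
  have A := fun x => hT ▸ homA hK (x := x) (k0 := k0) (k1 := k1) (k2 := k2) (k3 := k3)
  have B := fun x => hT ▸ homB hK (x := x) (k0 := k0) (k1 := k1) (k2 := k2) (k3 := k3)
  have C := fun x => hT ▸ homC hK (x := x) (k0 := k0) (k1 := k1) (k2 := k2) (k3 := k3)
  have : R (apK ⟨rx1 1, ry2 1, rz2 1, rx3 1, ry4 1, rz4 1, rx5 1, ry6 1, rz6 1, rx7 1, ry8 1,
      rz8 1⟩ y) :=
    mul (mul (mul (mul (mul (mul (mul (mul (mul (mul (mul (pw' _ fun x => (A x).1)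
      (pw' _ fun x => (A x).2.1)) (pw' _ fun x => (A x).2.2.1)) (pw' _ fun x => (A x).2.2.2))
      (pw' _ fun x => (B x).1)) (pw' _ fun x => (B x).2.1)) (pw' _ fun x => (B x).2.2.1))
      (pw' _ fun x => (B x).2.2.2)) (pw' _ fun x => (C x).1)) (pw' _ fun x => (C x).2.1))
      (pw' _ fun x => (C x).2.2.1)) (pw' _ fun x => (C x).2.2.2)
  rw [← nf_pw hK y] at this
  exact this x

/-- The normalising automorphism of `S`. -/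
noncomputable def th (k0 k1 k2 k3 : K) : MulAut (P K) :=
  MulEquiv.ofBijective (MonoidHom.mk' (apK (ThK k0 k1 k2 k3)) (th_mul hK k0 k1 k2 k3))
    (Finite.injective_iff_bijective.1 ((injective_iff_map_eq_one _).2 fun _ h => kerT hK h))

theorem dg_two (l m : Kˣ) (φ : K ≃+* K) (y : P K) : dg l m φ y = y := by
  have hl : (l : K) = 1 := (hK l).resolve_left l.ne_zero
  have hm : (m : K) = 1 := (hK m).resolve_left m.ne_zero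
  have hφ : ∀ t, φ t = t := fun t => by rcases hK t with rfl | rfl <;> simp
  ext <;> simp [hl, hm, hφ]

theorem mp_Z {Q A : Subgroup (P K)} {f : P K → P K} (hf : HomOn Q f) (h : f (rz4 1) ∈ A) :
    Mp f (Z K) A := fun x hx => by
  rw [eq_rz4 hx]
  rcases hK x.z4 with e | e <;> rw [e]
  exacts [(show f 1 ∈ A by rw [hf.map_one]; exact one_mem A), h]

theorem mp_V1 {A : Subgroup (P K)} {f : P K → P K} (hf : HomOn (Q2 K) f) (h : f (rz4 1) ∈ A)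
    (h' : f (rz6 1) ∈ A) : Mp f (V1 K) A := fun x hx => by
  obtain ⟨a1, a2, a3, a4, a5, a6, a7, a8, a9, a10⟩ := hx
  have e : x = rz4 x.z4 * rz6 x.z6 := by ext <;> simp [*]
  rw [e, hf.map_mul ⟨rfl, rfl⟩ ⟨rfl, rfl⟩]
  refine mul_mem (mp_Z hK hf h _ (rz4_mem _)) ?_
  rcases hK x.z6 with e | e <;> rw [e]
  exacts [(show f 1 ∈ A by rw [hf.map_one]; exact one_mem A), h']

variable {F : FusionSystem (⊤ : Subgroup (P K))}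

omit hK in
theorem au_comp {Q : Subgroup (P K)} {f g : P K → P K} (hf : Au F Q f) (hg : Au F Q g) :
    Au F Q fun x => g (f x) := ⟨hf.1.comp hg.1 hf.2, fun x hx => hg.2 _ (hf.2 x hx)⟩

omit hK in
theorem au_conj {Q : Subgroup (P K)} [hQ : Q.Normal] (g : P K) : Au F Q fun x => g * x * g⁻¹ :=
  ⟨M_conj F le_top (mem_top g), fun x hx => hQ.conj_mem x hx g⟩

omit hK in
theorem au_congr {Q : Subgroup (P K)} {f g : P K → P K} (hf : Au F Q f) (e : ∀ x ∈ Q, f x = g x) :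
    Au F Q g := ⟨hf.1.congr e, fun x hx => e x hx ▸ hf.2 x hx⟩

omit hK in
theorem sw1_conj {w : P K → P K} (hw : Sw1 F w) {h : P K} (hh : h ∈ Q1 K) :
    Sw1 F fun x => h * w x * h⁻¹ := by
  obtain ⟨a, b, c, d⟩ := hw
  refine ⟨au_comp a (au_conj h), fun x hx => ?_, fun x hx => ?_, fun x hx => ?_⟩
  · have hU : w x ∈ U3 K := by simpa using mul_mem hx (V1_le_U3 (b x hx))
    simpa [mul_assoc] using mul_mem (b x hx) (icj_S_U3 h hU)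
  · have hV : w x ∈ V1 K := by rw [eq_rz6 (c x hx)]; simp [mem_V1]
    simpa only [← comm_V1 hV hh, mul_inv_cancel_right] using c x hx
  · simpa only [← comm_Z (d x hx), mul_inv_cancel_right] using d x hx

omit hK in
theorem sw2_conj {w : P K → P K} (hw : Sw2 F w) {h : P K} (hh : h ∈ Q2 K) :
    Sw2 F fun x => h * w x * h⁻¹ := by
  obtain ⟨a, b, c, d⟩ := hw
  refine ⟨au_comp a (au_conj h), fun x hx => ?_, fun x hx => ?_,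
    fun x hx => (inferInstance : (V1 K).Normal).conj_mem _ (d x hx) h⟩
  · simp only [b x hx, ← comm_Z hx, mul_inv_cancel_right]
  · obtain ⟨a1, a2, a3, a4, a5, a6, a7, a8, a9, a10⟩ := c x hx
    have := icj_Q2_V2 hh (x := w x) ⟨a1, a2, a3, a4, a5, a6, a7⟩
    obtain ⟨b1, b2, b3, b4, b5, b6, -, b7, b8, b9, b10⟩ := mod_Z.1 this
    exact ⟨b1 ▸ a1, b2 ▸ a2, b3 ▸ a3, b4 ▸ a4, b5 ▸ a5, b6 ▸ a6, b7 ▸ a7, b8 ▸ a8, b9 ▸ a9,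
      b10 ▸ a10⟩

variable (hE : ExtStmt) (hF : F.IsSaturated 2) (hN : NF F)
include hE hF hN

theorem inn1 {f : P K → P K} (hf : Au F (Q1 K) f) (h4 : f (rz4 1) = rz4 1)
    (h6 : f (rz6 1) = rz6 1) : ∃ g : P K, g = ⟨0, g.y2, g.z2, g.x3, g.y4, g.z4, g.x5, g.y6, g.z6,
      g.x7, g.y8, g.z8⟩ ∧ ∀ x ∈ Q1 K, f x = g * x * g⁻¹ := by
  obtain ⟨f', hf', e⟩ := (hE hF).1.1 f hf (mp_Z hK hf.1.homOn (by rw [h4]; exact rz4_mem _))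
  obtain ⟨g, l, m, φ, e'⟩ := hN f' hf'
  have H : ∀ x ∈ Q1 K, f x = g * x * g⁻¹ := fun x hx => by rw [← e x hx, e', dg_two hK]
  refine ⟨g, P.ext (mem_Q1_of_comm one_ne_zero ?_) rfl rfl rfl rfl rfl rfl rfl rfl rfl rfl rfl, H⟩
  rw [← mul_inv_eq_iff_eq_mul, ← H _ rfl, h6]

theorem inn2 {f : P K → P K} (hf : Au F (Q2 K) f) (h : f (rz4 1) = rz4 1 ∧
    (f (rz6 1)).x1 = 0 ∧ (f (rz6 1)).y8 = 0 ∧ (f (rz6 1)).y2 = 0 ∧ (f (rz6 1)).z8 = 0 ∧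
    (f (rz6 1)).y6 = 0 ∧ (f (rz6 1)).y4 = 0 ∧ (f (rz6 1)).z2 = 0 ∧ (f (rz6 1)).x7 = 0 ∧
    (f (rz6 1)).x3 = 0 ∧ (f (rz6 1)).x5 = 0 ∧ (rz2 1)⁻¹ * f (rz2 1) ∈ V1 K) :
    ∃ g : P K, g = ⟨g.x1, g.y2, g.z2, g.x3, g.y4, g.z4, g.x5, g.y6, g.z6, g.x7, 0, 0⟩ ∧
      ∀ x ∈ Q2 K, f x = g * x * g⁻¹ := by
  obtain ⟨h4, a1, a2, a3, a4, a5, a6, a7, a8, a9, a10, h2⟩ := h
  obtain ⟨f', hf', e⟩ := (hE hF).1.2 f hf (mp_V1 hK hf.1.homOn (by rw [h4]; simp [mem_V1])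
    ⟨a1, a2, a3, a4, a5, a6, a7, a8, a9, a10⟩)
  obtain ⟨g, l, m, φ, e'⟩ := hN f' hf'
  have H : ∀ x ∈ Q2 K, f x = g * x * g⁻¹ := fun x hx => by rw [← e x hx, e', dg_two hK]
  obtain ⟨b1, b2⟩ := mem_Q2_of_icj one_ne_zero (H (rz2 1) ⟨rfl, rfl⟩ ▸ h2)
  exact ⟨g, P.ext rfl rfl rfl rfl rfl rfl rfl rfl rfl rfl b1 b2, H⟩

theorem weyl1 (h : Mv1 F) : ∃ w k0 k1 k2, Sw1 F w ∧ ∀ x ∈ Q1 K,
    w x = apK (W1K k0 (k0 + k1 + k0 * k2) (k0 + k0 * k2) k0 k1 k2 k2) x := by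
  obtain ⟨w, hw⟩ := (hE hF).2.2.1 h
  have ne : ∀ x ∈ Q1 K, w x = 1 → x = 1 := fun x hx e =>
    hw.1.1.inj x hx 1 (one_mem _) (e.trans hw.1.1.map_one.symm)
  have h4 : w (rz4 1) = rz6 1 := by
    have e := eq_rz6 (hw.2.2.1 _ (rz4_mem 1))
    rcases hK (w (rz4 1)).z6 with e' | e' <;> rw [e'] at e
    exacts [absurd (congrArg P.z4 (ne _ rfl e)) (by simp), e]
  have h6 : w (rz6 1) = rz4 1 := by
    have e := eq_rz4 (hw.2.2.2 _ (rz6_mem 1))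
    rcases hK (w (rz6 1)).z4 with e' | e' <;> rw [e'] at e
    exacts [absurd (congrArg P.z6 (ne _ rfl e)) (by simp), e]
  obtain ⟨h, hh, j0, j1, j2, j3, j4, j5, j6, e⟩ :=
    cls1 hK hw.1.1.homOn hw.1.2 h4 h6 (hw.2.1 _ (by simp [mem_U3]))
  have hw' := sw1_conj hw hh
  have W := au_congr hw'.1 e
  have C := au_comp (au_conj (rx1 1)) W
  obtain ⟨f₁, f₂, f₃, f₄⟩ := fx1 hK (j0 := j0) (j1 := j1) (j2 := j2) (j3 := j3) (j4 := j4) (j5 := j5)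
    (j6 := j6)
  obtain ⟨g, eg, H⟩ := inn1 hK hE hF hN (au_comp W W) f₁ f₂
  obtain ⟨g', eg', H'⟩ := inn1 hK hE hF hN (au_comp (au_comp C C) C) f₃ f₄
  obtain ⟨s₁, s₂, s₃⟩ := sq1 hK eg (H _ rfl) (H _ rfl) (H _ rfl)
  obtain ⟨t₁, t₂, t₃, t₄⟩ := sol1 hK s₁ s₂ s₃ (cu1 hK eg' (H' _ rfl) (H' _ rfl) (H' _ rfl))
  rw [CharTwo.add_eq_zero] at t₁ t₂ t₃ t₄
  subst t₃ t₄ t₁ t₂
  exact ⟨_, _, _, _, hw', e⟩

theorem weyl2 (h : Mv2 F) : ∃ w k, Sw2 F w ∧ ∀ x ∈ Q2 K, w x = apK (W2K 0 k k 0 0 0) x := by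
  obtain ⟨w, hw⟩ := (hE hF).2.2.2 h
  have ne : ∀ x ∈ Q2 K, w x ∈ Z K → x ∈ Z K := fun x hx e =>
    hw.1.1.inj _ (hw.1.2 x hx) x hx (hw.2.1 _ e) ▸ e
  obtain ⟨a1, a2, a3, a4, a5, a6, a7, a8, a9, a10⟩ := hw.2.2.1 (rz6 1) (by simp [mem_V1])
  obtain ⟨b1, b2, b3, b4, b5, b6, b7, b8, b9, b10⟩ := hw.2.2.2 (rz2 1) (by simp [mem_Vm])
  have a : (w (rz6 1)).z2 = 1 := (hK _).resolve_left fun e => by
    simpa [mem_Z] using ne _ ⟨rfl, rfl⟩ ⟨a1, a2, a3, a4, a5, a6, e, a7, a8, a9, a10⟩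
  have b : (w (rz2 1)).z6 = 1 := (hK _).resolve_left fun e => by
    simpa [mem_Z] using ne _ ⟨rfl, rfl⟩ ⟨b1, b2, b3, b4, b5, b6, b7, b8, b9, b10, e⟩
  obtain ⟨h, hh, j0, j1, j2, j3, j4, j5, e⟩ :=
    cls2 hK hw.1.1.homOn hw.1.2 (hw.2.1 _ (rz4_mem 1)) rfl rfl
      (P.ext a1 a3 a a8 a6 rfl a9 a5 a10 a7 a2 a4) (P.ext b1 b3 b7 b9 b6 rfl b10 b5 b b8 b2 b4)
  have hw' := sw2_conj hw hh
  have W := au_congr hw'.1 e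
  have C : ∀ c, Au F (Q2 K) (stK j0 j1 j2 j3 j4 j5 c) := fun c =>
    au_congr (au_comp (au_conj c) W) fun _ _ => rfl
  have q : ∀ {x : P K}, x.y8 = 0 → x.z8 = 0 → x ∈ Q2 K := fun h h' => ⟨h, h'⟩
  obtain ⟨g₁, e₁, H₁⟩ := inn2 hK hE hF hN (au_comp W W) (sq2f hK)
  obtain ⟨g₂, e₂, H₂⟩ := inn2 hK hE hF hN
    (au_comp (au_comp (au_comp (au_comp (C _) (C _)) (C _)) (C _)) (C _)) (fi2f hK)
  obtain ⟨g₃, e₃, H₃⟩ := inn2 hK hE hF hN (au_comp (au_comp (au_comp (C _) (C _)) (C _)) (C _))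
    (fo2f hK)
  obtain ⟨s₁, s₂⟩ := sq2 hK e₁ (H₁ _ (q rfl rfl)) (H₁ _ (q rfl rfl)) (H₁ _ (q rfl rfl))
    (H₁ _ (q rfl rfl)) (H₁ _ (q rfl rfl))
  obtain ⟨s₃, s₄⟩ := fi2 hK e₂ (H₂ _ (q rfl rfl)) (H₂ _ (q rfl rfl)) (H₂ _ (q rfl rfl))
    (H₂ _ (q rfl rfl)) (H₂ _ (q rfl rfl))
  obtain ⟨t₁, t₂, t₃, t₄, t₅⟩ := sol2 hK s₁ s₂ s₃ s₄ (fo2 hK e₃ (H₃ _ (q rfl rfl))
    (H₃ _ (q rfl rfl)) (H₃ _ (q rfl rfl)) (H₃ _ (q rfl rfl)) (H₃ _ (q rfl rfl)))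
  rw [CharTwo.add_eq_zero] at t₂
  subst t₁ t₂ t₃ t₄ t₅
  exact ⟨_, _, hw', e⟩

end Cfsg.Agent.F4.Bit

namespace Cfsg.Agent.F4

open Bit

/-- Row TWO. -/
theorem two (hE : ExtStmt) : TwoStmt := by
  intro K _ _ _ hK
  refine ⟨apK (W1K 0 0 0 0 0 0 0), apK (W2K 0 0 0 0 0 0), fun {F} hF hN m₁ m₂ => ?_⟩
  obtain ⟨w₁, k0, k1, k2, s₁, e₁⟩ := weyl1 hK hE hF hN m₁
  obtain ⟨w₂, k3, s₂, e₂⟩ := weyl2 hK hE hF hN m₂
  have p₁ : ∀ x ∈ Q1 K, x = ⟨0, x.y2, x.z2, x.x3, x.y4, x.z4, x.x5, x.y6, x.z6, x.x7, x.y8, x.z8⟩ :=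
    fun x hx => P.ext hx rfl rfl rfl rfl rfl rfl rfl rfl rfl rfl rfl
  have p₂ : ∀ x ∈ Q2 K, x = ⟨x.x1, x.y2, x.z2, x.x3, x.y4, x.z4, x.x5, x.y6, x.z6, x.x7, 0, 0⟩ :=
    fun x hx => P.ext rfl rfl rfl rfl rfl rfl rfl rfl rfl rfl hx.1 hx.2
  refine ⟨th hK k0 k1 k2 k3, _, _, sw1_conj s₁ (h := GaK k0 k1 k2 k3) rfl,
    sw2_conj s₂ (h := GbK k0 k1 k2 k3) ⟨rfl, rfl⟩, fun x hx => mapA hK (p₁ x hx),
    fun x hx => mapB hK (p₂ x hx), fun x hx => ?_, fun x hx => ?_⟩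
  · rw [e₁ x hx]
    exact eqA hK (p₁ x hx)
  · rw [e₂ x hx]
    exact eqB hK (p₂ x hx)

end Cfsg.Agent.F4
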