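import Cfsg.Agent.Lib.F4.Bit

/-!
Tables of root images and their evaluation (row TWO).
-/

set_option autoImplicit false
set_option linter.unusedSectionVars false
set_option linter.unusedVariables false
set_option linter.unusedSimpArgs false
set_option maxRecDepth 100000

namespace Cfsg.Agent.F4.Bit

open Cfsg.Agent.Fus Cfsg.Agent.Fus2 Subgroup

variable {K : Type} [Field K] [Rf K]

/-- The commutator. -/
def cm {G : Type} [Mul G] [Inv G] (a b : G) : G := a⁻¹ * b⁻¹ * a * b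

/-- Images of the root elements. -/
structure Tb (G : Type) where
  x1 : G
  y2 : G
  z2 : G
  x3 : G
  y4 : G
  z4 : G
  x5 : G
  y6 : G
  z6 : G
  x7 : G
  y8 : G
  z8 : G

variable (K) in
/-- The member at position `i`. -/
def Tb.ev (i : ℕ) (T : Tb V) : Tb (P K) :=
  ⟨Bit.ev K i T.x1, Bit.ev K i T.y2, Bit.ev K i T.z2, Bit.ev K i T.x3, Bit.ev K i T.y4, Bit.ev K i
    T.z4, Bit.ev K i T.x5, Bit.ev K i T.y6, Bit.ev K i T.z6, Bit.ev K i T.x7, Bit.ev K i T.y8,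
    Bit.ev K i T.z8⟩

/-- Evaluation on the normal form. -/
def apV (T : Tb V) (x : V) : V :=
  T.x1.pw x.x1 * T.y2.pw x.y2 * T.z2.pw x.z2 * T.x3.pw x.x3 * T.y4.pw x.y4 * T.z4.pw x.z4 *
    T.x5.pw x.x5 * T.y6.pw x.y6 * T.z6.pw x.z6 * T.x7.pw x.x7 * T.y8.pw x.y8 * T.z8.pw x.z8

/-- Evaluation on the normal form. -/
noncomputable def apK (T : Tb (P K)) (x : P K) : P K :=
  pw T.x1 x.x1 * pw T.y2 x.y2 * pw T.z2 x.z2 * pw T.x3 x.x3 * pw T.y4 x.y4 * pw T.z4 x.z4 * pw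
    T.x5 x.x5 * pw T.y6 x.y6 * pw T.z6 x.z6 * pw T.x7 x.x7 * pw T.y8 x.y8 * pw T.z8 x.z8

/-- A root element. -/
def vx1 (o : ℕ) : V := ⟨o, 0, 0, 0, 0, 0, 0, 0, 0, 0, 0, 0⟩

/-- A root element. -/
def vy2 (o : ℕ) : V := ⟨0, o, 0, 0, 0, 0, 0, 0, 0, 0, 0, 0⟩

/-- A root element. -/
def vz2 (o : ℕ) : V := ⟨0, 0, o, 0, 0, 0, 0, 0, 0, 0, 0, 0⟩

/-- A root element. -/
def vx3 (o : ℕ) : V := ⟨0, 0, 0, o, 0, 0, 0, 0, 0, 0, 0, 0⟩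

/-- A root element. -/
def vy4 (o : ℕ) : V := ⟨0, 0, 0, 0, o, 0, 0, 0, 0, 0, 0, 0⟩

/-- A root element. -/
def vz4 (o : ℕ) : V := ⟨0, 0, 0, 0, 0, o, 0, 0, 0, 0, 0, 0⟩

/-- A root element. -/
def vx5 (o : ℕ) : V := ⟨0, 0, 0, 0, 0, 0, o, 0, 0, 0, 0, 0⟩

/-- A root element. -/
def vy6 (o : ℕ) : V := ⟨0, 0, 0, 0, 0, 0, 0, o, 0, 0, 0, 0⟩

/-- A root element. -/
def vz6 (o : ℕ) : V := ⟨0, 0, 0, 0, 0, 0, 0, 0, o, 0, 0, 0⟩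

/-- A root element. -/
def vx7 (o : ℕ) : V := ⟨0, 0, 0, 0, 0, 0, 0, 0, 0, o, 0, 0⟩

/-- A root element. -/
def vy8 (o : ℕ) : V := ⟨0, 0, 0, 0, 0, 0, 0, 0, 0, 0, o, 0⟩

/-- A root element. -/
def vz8 (o : ℕ) : V := ⟨0, 0, 0, 0, 0, 0, 0, 0, 0, 0, 0, o⟩

theorem ev_mk (i a0 a1 a2 a3 a4 a5 a6 a7 a8 a9 a10 a11 : ℕ) : ev K i ⟨a0, a1, a2, a3, a4, a5, a6, a7, a8, a9, a10, a11⟩ =
    ⟨bt K i a0, bt K i a1, bt K i a2, bt K i a3, bt K i a4, bt K i a5, bt K i a6, bt K i a7, bt K i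
    a8, bt K i a9, bt K i a10, bt K i a11⟩ := rfl

theorem ev_vx1 {i o : ℕ} (ho : bt K i o = 1) : ev K i (vx1 o) = rx1 1 := by
  simp only [vx1, rx1, ev_mk, bt_zero, ho]

theorem ev_vy2 {i o : ℕ} (ho : bt K i o = 1) : ev K i (vy2 o) = ry2 1 := by
  simp only [vy2, ry2, ev_mk, bt_zero, ho]

theorem ev_vz2 {i o : ℕ} (ho : bt K i o = 1) : ev K i (vz2 o) = rz2 1 := by
  simp only [vz2, rz2, ev_mk, bt_zero, ho]

theorem ev_vx3 {i o : ℕ} (ho : bt K i o = 1) : ev K i (vx3 o) = rx3 1 := by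
  simp only [vx3, rx3, ev_mk, bt_zero, ho]

theorem ev_vy4 {i o : ℕ} (ho : bt K i o = 1) : ev K i (vy4 o) = ry4 1 := by
  simp only [vy4, ry4, ev_mk, bt_zero, ho]

theorem ev_vz4 {i o : ℕ} (ho : bt K i o = 1) : ev K i (vz4 o) = rz4 1 := by
  simp only [vz4, rz4, ev_mk, bt_zero, ho]

theorem ev_vx5 {i o : ℕ} (ho : bt K i o = 1) : ev K i (vx5 o) = rx5 1 := by
  simp only [vx5, rx5, ev_mk, bt_zero, ho]

theorem ev_vy6 {i o : ℕ} (ho : bt K i o = 1) : ev K i (vy6 o) = ry6 1 := by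
  simp only [vy6, ry6, ev_mk, bt_zero, ho]

theorem ev_vz6 {i o : ℕ} (ho : bt K i o = 1) : ev K i (vz6 o) = rz6 1 := by
  simp only [vz6, rz6, ev_mk, bt_zero, ho]

theorem ev_vx7 {i o : ℕ} (ho : bt K i o = 1) : ev K i (vx7 o) = rx7 1 := by
  simp only [vx7, rx7, ev_mk, bt_zero, ho]

theorem ev_vy8 {i o : ℕ} (ho : bt K i o = 1) : ev K i (vy8 o) = ry8 1 := by
  simp only [vy8, ry8, ev_mk, bt_zero, ho]

theorem ev_vz8 {i o : ℕ} (ho : bt K i o = 1) : ev K i (vz8 o) = rz8 1 := by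
  simp only [vz8, rz8, ev_mk, bt_zero, ho]

theorem bt_x1 (i : ℕ) (g : V) : bt K i g.x1 = (ev K i g).x1 := rfl
theorem bt_y2 (i : ℕ) (g : V) : bt K i g.y2 = (ev K i g).y2 := rfl
theorem bt_z2 (i : ℕ) (g : V) : bt K i g.z2 = (ev K i g).z2 := rfl
theorem bt_x3 (i : ℕ) (g : V) : bt K i g.x3 = (ev K i g).x3 := rfl
theorem bt_y4 (i : ℕ) (g : V) : bt K i g.y4 = (ev K i g).y4 := rfl
theorem bt_z4 (i : ℕ) (g : V) : bt K i g.z4 = (ev K i g).z4 := rfl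
theorem bt_x5 (i : ℕ) (g : V) : bt K i g.x5 = (ev K i g).x5 := rfl
theorem bt_y6 (i : ℕ) (g : V) : bt K i g.y6 = (ev K i g).y6 := rfl
theorem bt_z6 (i : ℕ) (g : V) : bt K i g.z6 = (ev K i g).z6 := rfl
theorem bt_x7 (i : ℕ) (g : V) : bt K i g.x7 = (ev K i g).x7 := rfl
theorem bt_y8 (i : ℕ) (g : V) : bt K i g.y8 = (ev K i g).y8 := rfl
theorem bt_z8 (i : ℕ) (g : V) : bt K i g.z8 = (ev K i g).z8 := rfl
theorem tb_x1 (i : ℕ) (T : Tb V) : ev K i T.x1 = (T.ev K i).x1 := rfl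
theorem tb_y2 (i : ℕ) (T : Tb V) : ev K i T.y2 = (T.ev K i).y2 := rfl
theorem tb_z2 (i : ℕ) (T : Tb V) : ev K i T.z2 = (T.ev K i).z2 := rfl
theorem tb_x3 (i : ℕ) (T : Tb V) : ev K i T.x3 = (T.ev K i).x3 := rfl
theorem tb_y4 (i : ℕ) (T : Tb V) : ev K i T.y4 = (T.ev K i).y4 := rfl
theorem tb_z4 (i : ℕ) (T : Tb V) : ev K i T.z4 = (T.ev K i).z4 := rfl
theorem tb_x5 (i : ℕ) (T : Tb V) : ev K i T.x5 = (T.ev K i).x5 := rfl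
theorem tb_y6 (i : ℕ) (T : Tb V) : ev K i T.y6 = (T.ev K i).y6 := rfl
theorem tb_z6 (i : ℕ) (T : Tb V) : ev K i T.z6 = (T.ev K i).z6 := rfl
theorem tb_x7 (i : ℕ) (T : Tb V) : ev K i T.x7 = (T.ev K i).x7 := rfl
theorem tb_y8 (i : ℕ) (T : Tb V) : ev K i T.y8 = (T.ev K i).y8 := rfl
theorem tb_z8 (i : ℕ) (T : Tb V) : ev K i T.z8 = (T.ev K i).z8 := rfl

theorem ev_cm (i : ℕ) (a b : V) : ev K i (cm a b) = cm (ev K i a) (ev K i b) := by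
  simp only [cm, ev_mul, ev_inv]

theorem ev_ap (i : ℕ) (T : Tb V) (x : V) : ev K i (apV T x) = apK (T.ev K i) (ev K i x) := by
  simp only [apV, apK, ev_mul, ev_pw]
  rfl

theorem imp {i C H : ℕ} (h : C ||| H = H) (hH : bt K i H = 0) : bt K i C = 0 :=
  (bt_or_eq_zero.1 (h.symm ▸ hH)).1

/-- `x ∈ Q` is mapped to `y`. -/
def Gd (Q : Subgroup (P K)) (w : P K → P K) (x y : P K) : Prop := x ∈ Q ∧ w x = y

section Gd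

variable {Q : Subgroup (P K)} {w : P K → P K} (hw : HomOn Q w) {x y x' y' : P K}
include hw

theorem Gd.mul (h : Gd Q w x y) (h' : Gd Q w x' y') : Gd Q w (x * x') (y * y') :=
  ⟨mul_mem h.1 h'.1, by rw [hw.map_mul h.1 h'.1, h.2, h'.2]⟩

theorem Gd.inv (h : Gd Q w x y) : Gd Q w x⁻¹ y⁻¹ := ⟨inv_mem h.1, by rw [hw.map_inv h.1, h.2]⟩

theorem Gd.cm (h : Gd Q w x y) (h' : Gd Q w x' y') : Gd Q w (cm x x') (cm y y') :=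
  (((h.inv hw).mul hw (h'.inv hw)).mul hw h).mul hw h'

omit hw in
theorem Gd.eq (h : Gd Q w x y) (h' : Gd Q w x' y') (e : x = x') : y = y' := by
  rw [← h.2, ← h'.2, e]

omit hw in
theorem Gd.of (h : Gd Q w x y) (e : x = x') : Gd Q w x' y := e ▸ h

theorem Gd.pw {t : K} (h : t = 0 ∨ Gd Q w x y) : Gd Q w (pw x t) (pw y t) := by
  unfold Bit.pw
  split_ifs with e
  exacts [⟨one_mem _, hw.map_one⟩, h.resolve_left e]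

end Gd

theorem nf_pw (hK : ∀ μ : K, μ = 0 ∨ μ = 1) (g : P K) :
    g = apK ⟨rx1 1, ry2 1, rz2 1, rx3 1, ry4 1, rz4 1, rx5 1, ry6 1, rz6 1, rx7 1, ry8 1, rz8 1⟩ g := by
  have ex1 : ∀ t : K, pw (rx1 1) t = rx1 t := fun t => by
    rcases hK t with rfl | rfl <;> simp [pw]
    rfl
  have ey2 : ∀ t : K, pw (ry2 1) t = ry2 t := fun t => by
    rcases hK t with rfl | rfl <;> simp [pw]
    rfl
  have ez2 : ∀ t : K, pw (rz2 1) t = rz2 t := fun t => by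
    rcases hK t with rfl | rfl <;> simp [pw]
    rfl
  have ex3 : ∀ t : K, pw (rx3 1) t = rx3 t := fun t => by
    rcases hK t with rfl | rfl <;> simp [pw]
    rfl
  have ey4 : ∀ t : K, pw (ry4 1) t = ry4 t := fun t => by
    rcases hK t with rfl | rfl <;> simp [pw]
    rfl
  have ez4 : ∀ t : K, pw (rz4 1) t = rz4 t := fun t => by
    rcases hK t with rfl | rfl <;> simp [pw]
    rfl
  have ex5 : ∀ t : K, pw (rx5 1) t = rx5 t := fun t => by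
    rcases hK t with rfl | rfl <;> simp [pw]
    rfl
  have ey6 : ∀ t : K, pw (ry6 1) t = ry6 t := fun t => by
    rcases hK t with rfl | rfl <;> simp [pw]
    rfl
  have ez6 : ∀ t : K, pw (rz6 1) t = rz6 t := fun t => by
    rcases hK t with rfl | rfl <;> simp [pw]
    rfl
  have ex7 : ∀ t : K, pw (rx7 1) t = rx7 t := fun t => by
    rcases hK t with rfl | rfl <;> simp [pw]
    rfl
  have ey8 : ∀ t : K, pw (ry8 1) t = ry8 t := fun t => by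
    rcases hK t with rfl | rfl <;> simp [pw]
    rfl
  have ez8 : ∀ t : K, pw (rz8 1) t = rz8 t := fun t => by
    rcases hK t with rfl | rfl <;> simp [pw]
    rfl
  simp only [apK, ex1, ey2, ez2, ex3, ey4, ez4, ex5, ey6, ez6, ex7, ey8, ez8]
  exact nf g

theorem hom_ap (hK : ∀ μ : K, μ = 0 ∨ μ = 1) {Q : Subgroup (P K)} {w : P K → P K} (hw : HomOn Q w)
    {T : Tb (P K)} {x : P K}
    (hx1 : x.x1 = 0 ∨ Gd Q w (rx1 1) T.x1)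
    (hy2 : x.y2 = 0 ∨ Gd Q w (ry2 1) T.y2)
    (hz2 : x.z2 = 0 ∨ Gd Q w (rz2 1) T.z2)
    (hx3 : x.x3 = 0 ∨ Gd Q w (rx3 1) T.x3)
    (hy4 : x.y4 = 0 ∨ Gd Q w (ry4 1) T.y4)
    (hz4 : x.z4 = 0 ∨ Gd Q w (rz4 1) T.z4)
    (hx5 : x.x5 = 0 ∨ Gd Q w (rx5 1) T.x5)
    (hy6 : x.y6 = 0 ∨ Gd Q w (ry6 1) T.y6)
    (hz6 : x.z6 = 0 ∨ Gd Q w (rz6 1) T.z6)
    (hx7 : x.x7 = 0 ∨ Gd Q w (rx7 1) T.x7)
    (hy8 : x.y8 = 0 ∨ Gd Q w (ry8 1) T.y8)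
    (hz8 : x.z8 = 0 ∨ Gd Q w (rz8 1) T.z8)
    : w x = apK T x := by
  conv_lhs => rw [nf_pw hK x]
  exact ((((((((((((Gd.pw hw hx1).mul hw (.pw hw hy2)).mul hw (.pw hw hz2)).mul hw (.pw hw hx3)).mul hw
    (.pw hw hy4)).mul hw (.pw hw hz4)).mul hw (.pw hw hx5)).mul hw (.pw hw hy6)).mul hw (.pw hw
    hz6)).mul hw (.pw hw hx7)).mul hw (.pw hw hy8)).mul hw (.pw hw hz8)).2

/-- The root images under a Weyl element of `Q₁`. -/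
noncomputable def T1K (A : P K) (B : P K) (D : P K) : Tb (P K) :=
  ⟨(⟨0, 0, 0, 0, 0, 0, 0, 0, 0, 0, 0, 0⟩ : P K), A, A * A, cm A D, D, rz6 (1 : K), cm D (D⁻¹ * (cm
    A D) * (cm A B) * (rz6 (1 : K) * (rz4 (1 : K)) * (cm A (B * B))) * (rz4 (1 : K))), D⁻¹ * (cm A
    D) * (cm A B) * (rz6 (1 : K) * (rz4 (1 : K)) * (cm A (B * B))) * (rz4 (1 : K)), rz4 (1 : K), rz6
    (1 : K) * (rz4 (1 : K)) * (cm A (B * B)), B, B * B⟩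

/-- The root images under a Weyl element of `Q₁`. -/
def T1V (o : ℕ) (A : V) (B : V) (D : V) : Tb V :=
  ⟨(⟨0, 0, 0, 0, 0, 0, 0, 0, 0, 0, 0, 0⟩ : V), A, A * A, cm A D, D, vz6 o, cm D (D⁻¹ * (cm A D) *
    (cm A B) * (vz6 o * (vz4 o) * (cm A (B * B))) * (vz4 o)), D⁻¹ * (cm A D) * (cm A B) * (vz6 o *
    (vz4 o) * (cm A (B * B))) * (vz4 o), vz4 o, vz6 o * (vz4 o) * (cm A (B * B)), B, B * B⟩

theorem ev_T1 {i o : ℕ} (ho : bt K i o = 1) (A : V) (B : V) (D : V) :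
    Tb.ev K i (T1V o A B D) = T1K (ev K i A) (ev K i B) (ev K i D) := by
  simp only [T1V, T1K, Tb.ev, ev_mul, ev_inv, ev_mk, bt_and, bt_xor, bt_zero, ho, ev_cm, ev_vz4 ho, ev_vz6 ho]

/-- The root images under a Weyl element of `Q₂`. -/
noncomputable def T2K (p : P K) (r : P K) (u : P K) (v : P K) (d : P K) : Tb (P K) :=
  ⟨p, u, u * u, cm u d, d, rz4 (1 : K), cm d v, v, v * v, r, (⟨0, 0, 0, 0, 0, 0, 0, 0, 0, 0, 0, 0⟩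
    : P K), (⟨0, 0, 0, 0, 0, 0, 0, 0, 0, 0, 0, 0⟩ : P K)⟩

/-- The root images under a Weyl element of `Q₂`. -/
def T2V (o : ℕ) (p : V) (r : V) (u : V) (v : V) (d : V) : Tb V :=
  ⟨p, u, u * u, cm u d, d, vz4 o, cm d v, v, v * v, r, (⟨0, 0, 0, 0, 0, 0, 0, 0, 0, 0, 0, 0⟩ : V),
    (⟨0, 0, 0, 0, 0, 0, 0, 0, 0, 0, 0, 0⟩ : V)⟩

theorem ev_T2 {i o : ℕ} (ho : bt K i o = 1) (p : V) (r : V) (u : V) (v : V) (d : V) :
    Tb.ev K i (T2V o p r u v d) = T2K (ev K i p) (ev K i r) (ev K i u) (ev K i v) (ev K i d) := by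
  simp only [T2V, T2K, Tb.ev, ev_mul, ev_inv, ev_mk, bt_and, bt_xor, bt_zero, ho, ev_cm, ev_vz4 ho]

/-- The candidates for the Weyl element of `Q₁`. -/
noncomputable def W1K (j0 : K) (j1 : K) (j2 : K) (j3 : K) (j4 : K) (j5 : K) (j6 : K) : Tb (P K) :=
  T1K ((⟨0, 0, 0, 0, j0, j1, 0, 0, j2, 0, 1, j3⟩ : P K)) ((⟨0, 1, j0, 0, j3, 0, 0, 0, j4, 0, 0, 0⟩
    : P K)) ((⟨0, 0, 0, 0, 0, j5, j3 + j0 * j3, 1, j6, j3, 0, 0⟩ : P K))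

/-- The candidates for the Weyl element of `Q₁`. -/
def W1V (o : ℕ) (j0 : ℕ) (j1 : ℕ) (j2 : ℕ) (j3 : ℕ) (j4 : ℕ) (j5 : ℕ) (j6 : ℕ) : Tb V :=
  T1V o ((⟨0, 0, 0, 0, j0, j1, 0, 0, j2, 0, o, j3⟩ : V)) ((⟨0, o, j0, 0, j3, 0, 0, 0, j4, 0, 0, 0⟩
    : V)) ((⟨0, 0, 0, 0, 0, j5, j3 ^^^ (j0 &&& j3), o, j6, j3, 0, 0⟩ : V))

theorem ev_W1 {i o : ℕ} (ho : bt K i o = 1) (j0 : ℕ) (j1 : ℕ) (j2 : ℕ) (j3 : ℕ) (j4 : ℕ) (j5 : ℕ) (j6 : ℕ) :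
    Tb.ev K i (W1V o j0 j1 j2 j3 j4 j5 j6) = W1K (bt K i j0) (bt K i j1) (bt K i j2) (bt K i j3) (bt K i j4) (bt K i j5) (bt K i j6) := by
  simp only [W1V, W1K, ev_mul, ev_inv, ev_mk, bt_and, bt_xor, bt_zero, ho, ev_T1 ho]

/-- The candidates for the Weyl element of `Q₂`. -/
noncomputable def W2K (j0 : K) (j1 : K) (j2 : K) (j3 : K) (j4 : K) (j5 : K) : Tb (P K) :=
  T2K ((⟨0, 0, 0, 0, 0, 0, 0, 0, 0, 1, 0, 0⟩ : P K)) ((⟨1, 0, j0, 0, 0, 0, 0, 0, 0, 0, 0, 0⟩ : P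
    K)) ((⟨0, 0, 0, j1, 0, 0, j2, 1, j3, 0, 0, 0⟩ : P K)) ((⟨0, 1, j4, j2, 0, 0, j0 + j1 + j3 + j4,
    0, 0, 0, 0, 0⟩ : P K)) ((⟨0, 0, j1, j1 + j4, 1, j5, j0 + j1 + j4, 0, j0 + j1 + j3 + j4, 0, 0, 0⟩
    : P K))

/-- The candidates for the Weyl element of `Q₂`. -/
def W2V (o : ℕ) (j0 : ℕ) (j1 : ℕ) (j2 : ℕ) (j3 : ℕ) (j4 : ℕ) (j5 : ℕ) : Tb V :=
  T2V o ((⟨0, 0, 0, 0, 0, 0, 0, 0, 0, o, 0, 0⟩ : V)) ((⟨o, 0, j0, 0, 0, 0, 0, 0, 0, 0, 0, 0⟩ : V))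
    ((⟨0, 0, 0, j1, 0, 0, j2, o, j3, 0, 0, 0⟩ : V)) ((⟨0, o, j4, j2, 0, 0, j0 ^^^ j1 ^^^ j3 ^^^ j4,
    0, 0, 0, 0, 0⟩ : V)) ((⟨0, 0, j1, j1 ^^^ j4, o, j5, j0 ^^^ j1 ^^^ j4, 0, j0 ^^^ j1 ^^^ j3 ^^^
    j4, 0, 0, 0⟩ : V))

theorem ev_W2 {i o : ℕ} (ho : bt K i o = 1) (j0 : ℕ) (j1 : ℕ) (j2 : ℕ) (j3 : ℕ) (j4 : ℕ) (j5 : ℕ) :
    Tb.ev K i (W2V o j0 j1 j2 j3 j4 j5) = W2K (bt K i j0) (bt K i j1) (bt K i j2) (bt K i j3) (bt K i j4) (bt K i j5) := by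
  simp only [W2V, W2K, ev_mul, ev_inv, ev_mk, bt_and, bt_xor, bt_zero, ho, ev_T2 ho]

end Cfsg.Agent.F4.Bit
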