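import Cfsg.Agent.Lib.F4.Two0

/-!
The candidates for the Weyl element of `Q₁` when `q = 2` (row TWO).
-/

set_option autoImplicit false
set_option linter.unusedSectionVars false
set_option linter.unusedVariables false
set_option linter.unusedSimpArgs false
set_option maxRecDepth 100000

namespace Cfsg.Agent.F4.Bit

open Cfsg.Agent.Fus Cfsg.Agent.Fus2 Subgroup

variable {K : Type} [Field K] [Rf K]

theorem ev_one (i : ℕ) : ev K i ⟨0, 0, 0, 0, 0, 0, 0, 0, 0, 0, 0, 0⟩ = 1 := by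
  simp only [ev_mk, bt_zero]; rfl

/-- Failure positions. -/
def id1H (o : ℕ)  : ℕ :=
  0

/-- Failure positions. -/
def id1C (o : ℕ)  : ℕ :=
  (vy2 o * (vy2 o)).df (vz2 o) ||| (cm (vy2 o) (vy4 o)).df (vx3 o) ||| (vz4 o * (vz6 o) * (cm (vy2
    o) (vy8 o * (vy8 o)))).df (vx7 o) ||| ((vy4 o)⁻¹ * (vx3 o) * (cm (vy2 o) (vy8 o)) * (vx7 o) *
    (vz6 o)).df (vy6 o) ||| (cm (vy4 o) (vy6 o)).df (vx5 o) ||| (vy8 o * (vy8 o)).df (vz8 o) ||| (cm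
    (vy2 o) (vx5 o)).df (vz4 o) ||| (cm (vy8 o) (vx5 o)).df (vz6 o) ||| (vy4 o * (vx5 o)).df (vx5 o
    * (vy4 o)) ||| (vy8 o * (vz2 o)).df (vz2 o * (vx3 o) * (vx5 o) * (vz6 o) * (vy8 o)) ||| (vy8 o *
    (vy6 o)).df (vy6 o * (vx7 o) * (vy8 o)) ||| (vy8 o * (vy2 o)).df (vy2 o * (vx3 o) * (vy4 o) *
    (vz4 o) * (vy6 o) * (vy8 o))

theorem id1_chk : id1C (ones 0)  ||| id1H (ones 0)  = id1H (ones 0) := by
  decide +kernel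

theorem id1 (hK : ∀ μ : K, μ = 0 ∨ μ = 1) : ry2 (1 : K) * (ry2 (1 : K)) = rz2 (1 : K) ∧ cm (ry2
    (1 : K)) (ry4 (1 : K)) = rx3 (1 : K) ∧ rz4 (1 : K) * (rz6 (1 : K)) * (cm (ry2 (1 : K)) (ry8 (1 :
    K) * (ry8 (1 : K)))) = rx7 (1 : K) ∧ (ry4 (1 : K))⁻¹ * (rx3 (1 : K)) * (cm (ry2 (1 : K)) (ry8 (1
    : K))) * (rx7 (1 : K)) * (rz6 (1 : K)) = ry6 (1 : K) ∧ cm (ry4 (1 : K)) (ry6 (1 : K)) = rx5 (1 :
    K) ∧ ry8 (1 : K) * (ry8 (1 : K)) = rz8 (1 : K) ∧ cm (ry2 (1 : K)) (rx5 (1 : K)) = rz4 (1 : K) ∧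
    cm (ry8 (1 : K)) (rx5 (1 : K)) = rz6 (1 : K) ∧ ry4 (1 : K) * (rx5 (1 : K)) = rx5 (1 : K) * (ry4
    (1 : K)) ∧ ry8 (1 : K) * (rz2 (1 : K)) = rz2 (1 : K) * (rx3 (1 : K)) * (rx5 (1 : K)) * (rz6 (1 :
    K)) * (ry8 (1 : K)) ∧ ry8 (1 : K) * (ry6 (1 : K)) = ry6 (1 : K) * (rx7 (1 : K)) * (ry8 (1 : K))
    ∧ ry8 (1 : K) * (ry2 (1 : K)) = ry2 (1 : K) * (rx3 (1 : K)) * (ry4 (1 : K)) * (rz4 (1 : K)) *
    (ry6 (1 : K)) * (ry8 (1 : K)) := by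
  obtain ⟨i, hi, hv⟩ := exists_bt hK 0 fun n =>
    ([] : List K).getD n 0
  have ho := bt_ones (K := K) hi
  have := imp (K := K) (i := i) id1_chk (bt_zero i)
  simpa only [id1C, bt_or_eq_zero, df_iff, and_assoc, ev_mul, ev_inv, ev_mk, bt_and, bt_xor, bt_zero, ho,
    ev_cm, ev_vy2 ho, ev_vz2 ho, ev_vx3 ho, ev_vy4 ho, ev_vz4 ho, ev_vx5 ho, ev_vy6 ho, ev_vz6 ho,
    ev_vx7 ho, ev_vy8 ho, ev_vz8 ho] using this

/-- Failure positions. -/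
def shAH (o : ℕ) (A : V) (e : V) : ℕ :=
  (cm A e).df (vz6 o)

/-- Failure positions. -/
def shAC (o : ℕ) (A : V) (e : V) : ℕ :=
  (A).df ((⟨0, 0, A.z2, A.x3, A.y4, A.z4, A.x5, A.y6, A.z6, A.x7, o, A.z8⟩ : V))

theorem shA_chk : shAC (ones 13) ⟨0, var 13 0, var 13 1, var 13 2, var 13 3, var 13 4, var 13 5, var 13 6, var 13
    7, var 13 8, var 13 9, var 13 10⟩ ⟨0, 0, 0, 0, 0, var 13 11, ones 13, 0, var 13 12, 0, 0, 0⟩ |||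
    shAH (ones 13) ⟨0, var 13 0, var 13 1, var 13 2, var 13 3, var 13 4, var 13 5, var 13 6, var 13
    7, var 13 8, var 13 9, var 13 10⟩ ⟨0, 0, 0, 0, 0, var 13 11, ones 13, 0, var 13 12, 0, 0, 0⟩ =
    shAH (ones 13) ⟨0, var 13 0, var 13 1, var 13 2, var 13 3, var 13 4, var 13 5, var 13 6, var 13
    7, var 13 8, var 13 9, var 13 10⟩ ⟨0, 0, 0, 0, 0, var 13 11, ones 13, 0, var 13 12, 0, 0, 0⟩ := by
  decide +kernel

theorem shA (hK : ∀ μ : K, μ = 0 ∨ μ = 1) {A e : P K} (eA : A = (⟨0, A.y2, A.z2, A.x3, A.y4,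
    A.z4, A.x5, A.y6, A.z6, A.x7, A.y8, A.z8⟩ : P K)) (ee : e = (⟨0, 0, 0, 0, 0, e.z4, 1, 0, e.z6,
    0, 0, 0⟩ : P K)) (h0 : cm A e = rz6 (1 : K)) : A = (⟨0, 0, A.z2, A.x3, A.y4, A.z4, A.x5, A.y6,
    A.z6, A.x7, 1, A.z8⟩ : P K) := by
  obtain ⟨i, hi, hv⟩ := exists_bt hK 13 fun n =>
    ([A.y2, A.z2, A.x3, A.y4, A.z4, A.x5, A.y6, A.z6, A.x7, A.y8, A.z8, e.z4, e.z6] : List K).getD n
    0
  have ho := bt_ones (K := K) hi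
  have v0 : bt K i (var 13 0) = A.y2 := hv 0 (by decide)
  have v1 : bt K i (var 13 1) = A.z2 := hv 1 (by decide)
  have v2 : bt K i (var 13 2) = A.x3 := hv 2 (by decide)
  have v3 : bt K i (var 13 3) = A.y4 := hv 3 (by decide)
  have v4 : bt K i (var 13 4) = A.z4 := hv 4 (by decide)
  have v5 : bt K i (var 13 5) = A.x5 := hv 5 (by decide)
  have v6 : bt K i (var 13 6) = A.y6 := hv 6 (by decide)
  have v7 : bt K i (var 13 7) = A.z6 := hv 7 (by decide)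
  have v8 : bt K i (var 13 8) = A.x7 := hv 8 (by decide)
  have v9 : bt K i (var 13 9) = A.y8 := hv 9 (by decide)
  have v10 : bt K i (var 13 10) = A.z8 := hv 10 (by decide)
  have v11 : bt K i (var 13 11) = e.z4 := hv 11 (by decide)
  have v12 : bt K i (var 13 12) = e.z6 := hv 12 (by decide)
  have kA : (⟨0, A.y2, A.z2, A.x3, A.y4, A.z4, A.x5, A.y6, A.z6, A.x7, A.y8, A.z8⟩ : P K) = A := eA.symm
  have ke : (⟨0, 0, 0, 0, 0, e.z4, 1, 0, e.z6, 0, 0, 0⟩ : P K) = e := ee.symm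
  have := imp (K := K) (i := i) shA_chk (by
    simp only [shAH, bt_or_eq_zero, df_iff, and_assoc, ev_mul, ev_inv, ev_mk, bt_and, bt_xor, bt_zero, ho,
      ev_cm, ev_vz6 ho, bt_z2, bt_x3, bt_y4, bt_z4, bt_x5, bt_y6, bt_z6, bt_x7, bt_z8, v0, v1, v2,
      v3, v4, v5, v6, v7, v8, v9, v10, v11, v12, kA, ke]
    exact h0)
  simpa only [shAC, bt_or_eq_zero, df_iff, and_assoc, ev_mul, ev_inv, ev_mk, bt_and, bt_xor, bt_zero, ho,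
    ev_cm, ev_vz6 ho, bt_z2, bt_x3, bt_y4, bt_z4, bt_x5, bt_y6, bt_z6, bt_x7, bt_z8, v0, v1, v2, v3,
    v4, v5, v6, v7, v8, v9, v10, v11, v12, kA, ke] using this

/-- Failure positions. -/
def shBH (o : ℕ) (A : V) (e : V) : ℕ :=
  (cm A e).df (vz4 o)

/-- Failure positions. -/
def shBC (o : ℕ) (A : V) (e : V) : ℕ :=
  (A).df ((⟨0, o, A.z2, A.x3, A.y4, A.z4, A.x5, A.y6, A.z6, A.x7, 0, A.z8⟩ : V))

theorem shB_chk : shBC (ones 13) ⟨0, var 13 0, var 13 1, var 13 2, var 13 3, var 13 4, var 13 5, var 13 6, var 13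
    7, var 13 8, var 13 9, var 13 10⟩ ⟨0, 0, 0, 0, 0, var 13 11, ones 13, 0, var 13 12, 0, 0, 0⟩ |||
    shBH (ones 13) ⟨0, var 13 0, var 13 1, var 13 2, var 13 3, var 13 4, var 13 5, var 13 6, var 13
    7, var 13 8, var 13 9, var 13 10⟩ ⟨0, 0, 0, 0, 0, var 13 11, ones 13, 0, var 13 12, 0, 0, 0⟩ =
    shBH (ones 13) ⟨0, var 13 0, var 13 1, var 13 2, var 13 3, var 13 4, var 13 5, var 13 6, var 13
    7, var 13 8, var 13 9, var 13 10⟩ ⟨0, 0, 0, 0, 0, var 13 11, ones 13, 0, var 13 12, 0, 0, 0⟩ := by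
  decide +kernel

theorem shB (hK : ∀ μ : K, μ = 0 ∨ μ = 1) {A e : P K} (eA : A = (⟨0, A.y2, A.z2, A.x3, A.y4,
    A.z4, A.x5, A.y6, A.z6, A.x7, A.y8, A.z8⟩ : P K)) (ee : e = (⟨0, 0, 0, 0, 0, e.z4, 1, 0, e.z6,
    0, 0, 0⟩ : P K)) (h0 : cm A e = rz4 (1 : K)) : A = (⟨0, 1, A.z2, A.x3, A.y4, A.z4, A.x5, A.y6,
    A.z6, A.x7, 0, A.z8⟩ : P K) := by
  obtain ⟨i, hi, hv⟩ := exists_bt hK 13 fun n =>
    ([A.y2, A.z2, A.x3, A.y4, A.z4, A.x5, A.y6, A.z6, A.x7, A.y8, A.z8, e.z4, e.z6] : List K).getD n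
    0
  have ho := bt_ones (K := K) hi
  have v0 : bt K i (var 13 0) = A.y2 := hv 0 (by decide)
  have v1 : bt K i (var 13 1) = A.z2 := hv 1 (by decide)
  have v2 : bt K i (var 13 2) = A.x3 := hv 2 (by decide)
  have v3 : bt K i (var 13 3) = A.y4 := hv 3 (by decide)
  have v4 : bt K i (var 13 4) = A.z4 := hv 4 (by decide)
  have v5 : bt K i (var 13 5) = A.x5 := hv 5 (by decide)
  have v6 : bt K i (var 13 6) = A.y6 := hv 6 (by decide)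
  have v7 : bt K i (var 13 7) = A.z6 := hv 7 (by decide)
  have v8 : bt K i (var 13 8) = A.x7 := hv 8 (by decide)
  have v9 : bt K i (var 13 9) = A.y8 := hv 9 (by decide)
  have v10 : bt K i (var 13 10) = A.z8 := hv 10 (by decide)
  have v11 : bt K i (var 13 11) = e.z4 := hv 11 (by decide)
  have v12 : bt K i (var 13 12) = e.z6 := hv 12 (by decide)
  have kA : (⟨0, A.y2, A.z2, A.x3, A.y4, A.z4, A.x5, A.y6, A.z6, A.x7, A.y8, A.z8⟩ : P K) = A := eA.symm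
  have ke : (⟨0, 0, 0, 0, 0, e.z4, 1, 0, e.z6, 0, 0, 0⟩ : P K) = e := ee.symm
  have := imp (K := K) (i := i) shB_chk (by
    simp only [shBH, bt_or_eq_zero, df_iff, and_assoc, ev_mul, ev_inv, ev_mk, bt_and, bt_xor, bt_zero, ho,
      ev_cm, ev_vz4 ho, bt_z2, bt_x3, bt_y4, bt_z4, bt_x5, bt_y6, bt_z6, bt_x7, bt_z8, v0, v1, v2,
      v3, v4, v5, v6, v7, v8, v9, v10, v11, v12, kA, ke]
    exact h0)
  simpa only [shBC, bt_or_eq_zero, df_iff, and_assoc, ev_mul, ev_inv, ev_mk, bt_and, bt_xor, bt_zero, ho,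
    ev_cm, ev_vz4 ho, bt_z2, bt_x3, bt_y4, bt_z4, bt_x5, bt_y6, bt_z6, bt_x7, bt_z8, v0, v1, v2, v3,
    v4, v5, v6, v7, v8, v9, v10, v11, v12, kA, ke] using this

/-- Failure positions. -/
def shDH (o : ℕ) (A : V) (e : V) : ℕ :=
  (A * e).df (e * A)

/-- Failure positions. -/
def shDC (o : ℕ) (A : V) (e : V) : ℕ :=
  (A).df ((⟨0, 0, A.z2, A.x3, A.y4, A.z4, A.x5, A.y6, A.z6, A.x7, 0, A.z8⟩ : V))

theorem shD_chk : shDC (ones 13) ⟨0, var 13 0, var 13 1, var 13 2, var 13 3, var 13 4, var 13 5, var 13 6, var 13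
    7, var 13 8, var 13 9, var 13 10⟩ ⟨0, 0, 0, 0, 0, var 13 11, ones 13, 0, var 13 12, 0, 0, 0⟩ |||
    shDH (ones 13) ⟨0, var 13 0, var 13 1, var 13 2, var 13 3, var 13 4, var 13 5, var 13 6, var 13
    7, var 13 8, var 13 9, var 13 10⟩ ⟨0, 0, 0, 0, 0, var 13 11, ones 13, 0, var 13 12, 0, 0, 0⟩ =
    shDH (ones 13) ⟨0, var 13 0, var 13 1, var 13 2, var 13 3, var 13 4, var 13 5, var 13 6, var 13
    7, var 13 8, var 13 9, var 13 10⟩ ⟨0, 0, 0, 0, 0, var 13 11, ones 13, 0, var 13 12, 0, 0, 0⟩ := by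
  decide +kernel

theorem shD (hK : ∀ μ : K, μ = 0 ∨ μ = 1) {A e : P K} (eA : A = (⟨0, A.y2, A.z2, A.x3, A.y4,
    A.z4, A.x5, A.y6, A.z6, A.x7, A.y8, A.z8⟩ : P K)) (ee : e = (⟨0, 0, 0, 0, 0, e.z4, 1, 0, e.z6,
    0, 0, 0⟩ : P K)) (h0 : A * e = e * A) : A = (⟨0, 0, A.z2, A.x3, A.y4, A.z4, A.x5, A.y6, A.z6,
    A.x7, 0, A.z8⟩ : P K) := by
  obtain ⟨i, hi, hv⟩ := exists_bt hK 13 fun n =>
    ([A.y2, A.z2, A.x3, A.y4, A.z4, A.x5, A.y6, A.z6, A.x7, A.y8, A.z8, e.z4, e.z6] : List K).getD n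
    0
  have ho := bt_ones (K := K) hi
  have v0 : bt K i (var 13 0) = A.y2 := hv 0 (by decide)
  have v1 : bt K i (var 13 1) = A.z2 := hv 1 (by decide)
  have v2 : bt K i (var 13 2) = A.x3 := hv 2 (by decide)
  have v3 : bt K i (var 13 3) = A.y4 := hv 3 (by decide)
  have v4 : bt K i (var 13 4) = A.z4 := hv 4 (by decide)
  have v5 : bt K i (var 13 5) = A.x5 := hv 5 (by decide)
  have v6 : bt K i (var 13 6) = A.y6 := hv 6 (by decide)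
  have v7 : bt K i (var 13 7) = A.z6 := hv 7 (by decide)
  have v8 : bt K i (var 13 8) = A.x7 := hv 8 (by decide)
  have v9 : bt K i (var 13 9) = A.y8 := hv 9 (by decide)
  have v10 : bt K i (var 13 10) = A.z8 := hv 10 (by decide)
  have v11 : bt K i (var 13 11) = e.z4 := hv 11 (by decide)
  have v12 : bt K i (var 13 12) = e.z6 := hv 12 (by decide)
  have kA : (⟨0, A.y2, A.z2, A.x3, A.y4, A.z4, A.x5, A.y6, A.z6, A.x7, A.y8, A.z8⟩ : P K) = A := eA.symm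
  have ke : (⟨0, 0, 0, 0, 0, e.z4, 1, 0, e.z6, 0, 0, 0⟩ : P K) = e := ee.symm
  have := imp (K := K) (i := i) shD_chk (by
    simp only [shDH, bt_or_eq_zero, df_iff, and_assoc, ev_mul, ev_inv, ev_mk, bt_and, bt_xor, bt_zero, ho,
      bt_z2, bt_x3, bt_y4, bt_z4, bt_x5, bt_y6, bt_z6, bt_x7, bt_z8, v0, v1, v2, v3, v4, v5, v6, v7,
      v8, v9, v10, v11, v12, kA, ke]
    exact h0)
  simpa only [shDC, bt_or_eq_zero, df_iff, and_assoc, ev_mul, ev_inv, ev_mk, bt_and, bt_xor, bt_zero, ho,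
    bt_z2, bt_x3, bt_y4, bt_z4, bt_x5, bt_y6, bt_z6, bt_x7, bt_z8, v0, v1, v2, v3, v4, v5, v6, v7,
    v8, v9, v10, v11, v12, kA, ke] using this

/-- A normalising conjugation. -/
noncomputable def na0K (A : P K) (B : P K) : P K :=
  pw (ry8 (1 : K)) B.y6

/-- A normalising conjugation. -/
def na0V (o : ℕ) (A : V) (B : V) : V :=
  (vy8 o).pw B.y6

theorem ev_na0 {i o : ℕ} (ho : bt K i o = 1) (A : V) (B : V) :
    ev K i (na0V o A B) = na0K (ev K i A) (ev K i B) := by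
  simp only [na0V, na0K, ev_mul, ev_inv, ev_mk, bt_and, bt_xor, bt_zero, ho, ev_pw, ev_vy8 ho, bt_y6]

/-- A normalising conjugation. -/
noncomputable def na1K (A : P K) (B : P K) : P K :=
  pw (ry2 (1 : K)) ((na0K A B * A * ((na0K A B)⁻¹)).y6) * (na0K A B)

/-- A normalising conjugation. -/
def na1V (o : ℕ) (A : V) (B : V) : V :=
  (vy2 o).pw ((na0V o A B * A * ((na0V o A B)⁻¹)).y6) * (na0V o A B)

theorem ev_na1 {i o : ℕ} (ho : bt K i o = 1) (A : V) (B : V) :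
    ev K i (na1V o A B) = na1K (ev K i A) (ev K i B) := by
  simp only [na1V, na1K, ev_mul, ev_inv, ev_mk, bt_and, bt_xor, bt_zero, ho, ev_pw, ev_vy2 ho, bt_y6, ev_na0
    ho]

/-- A normalising conjugation. -/
noncomputable def na2K (A : P K) (B : P K) : P K :=
  pw (rz8 (1 : K)) ((na1K A B * B * ((na1K A B)⁻¹)).x7) * (na1K A B)

/-- A normalising conjugation. -/
def na2V (o : ℕ) (A : V) (B : V) : V :=
  (vz8 o).pw ((na1V o A B * B * ((na1V o A B)⁻¹)).x7) * (na1V o A B)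

theorem ev_na2 {i o : ℕ} (ho : bt K i o = 1) (A : V) (B : V) :
    ev K i (na2V o A B) = na2K (ev K i A) (ev K i B) := by
  simp only [na2V, na2K, ev_mul, ev_inv, ev_mk, bt_and, bt_xor, bt_zero, ho, ev_pw, ev_vz8 ho, bt_x7, ev_na1
    ho]

/-- A normalising conjugation. -/
noncomputable def na3K (A : P K) (B : P K) : P K :=
  pw (ry4 (1 : K)) ((na2K A B * B * ((na2K A B)⁻¹)).x3) * (na2K A B)

/-- A normalising conjugation. -/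
def na3V (o : ℕ) (A : V) (B : V) : V :=
  (vy4 o).pw ((na2V o A B * B * ((na2V o A B)⁻¹)).x3) * (na2V o A B)

theorem ev_na3 {i o : ℕ} (ho : bt K i o = 1) (A : V) (B : V) :
    ev K i (na3V o A B) = na3K (ev K i A) (ev K i B) := by
  simp only [na3V, na3K, ev_mul, ev_inv, ev_mk, bt_and, bt_xor, bt_zero, ho, ev_pw, ev_vy4 ho, bt_x3, ev_na2
    ho]

/-- A normalising conjugation. -/
noncomputable def na4K (A : P K) (B : P K) : P K :=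
  pw (ry6 (1 : K)) ((na3K A B * A * ((na3K A B)⁻¹)).x7) * (na3K A B)

/-- A normalising conjugation. -/
def na4V (o : ℕ) (A : V) (B : V) : V :=
  (vy6 o).pw ((na3V o A B * A * ((na3V o A B)⁻¹)).x7) * (na3V o A B)

theorem ev_na4 {i o : ℕ} (ho : bt K i o = 1) (A : V) (B : V) :
    ev K i (na4V o A B) = na4K (ev K i A) (ev K i B) := by
  simp only [na4V, na4K, ev_mul, ev_inv, ev_mk, bt_and, bt_xor, bt_zero, ho, ev_pw, ev_vy6 ho, bt_x7, ev_na3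
    ho]

/-- A normalising conjugation. -/
noncomputable def na5K (A : P K) (B : P K) : P K :=
  pw (rz2 (1 : K)) ((na4K A B * A * ((na4K A B)⁻¹)).x3) * (na4K A B)

/-- A normalising conjugation. -/
def na5V (o : ℕ) (A : V) (B : V) : V :=
  (vz2 o).pw ((na4V o A B * A * ((na4V o A B)⁻¹)).x3) * (na4V o A B)

theorem ev_na5 {i o : ℕ} (ho : bt K i o = 1) (A : V) (B : V) :
    ev K i (na5V o A B) = na5K (ev K i A) (ev K i B) := by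
  simp only [na5V, na5K, ev_mul, ev_inv, ev_mk, bt_and, bt_xor, bt_zero, ho, ev_pw, ev_vz2 ho, bt_x3, ev_na4
    ho]

/-- A normalising conjugation. -/
noncomputable def na6K (A : P K) (B : P K) : P K :=
  pw (rx7 (1 : K)) ((na5K A B * B * ((na5K A B)⁻¹)).x5) * (na5K A B)

/-- A normalising conjugation. -/
def na6V (o : ℕ) (A : V) (B : V) : V :=
  (vx7 o).pw ((na5V o A B * B * ((na5V o A B)⁻¹)).x5) * (na5V o A B)

theorem ev_na6 {i o : ℕ} (ho : bt K i o = 1) (A : V) (B : V) :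
    ev K i (na6V o A B) = na6K (ev K i A) (ev K i B) := by
  simp only [na6V, na6K, ev_mul, ev_inv, ev_mk, bt_and, bt_xor, bt_zero, ho, ev_pw, ev_vx7 ho, bt_x5, ev_na5
    ho]

/-- A normalising conjugation. -/
noncomputable def na7K (A : P K) (B : P K) : P K :=
  pw (rx3 (1 : K)) ((na6K A B * A * ((na6K A B)⁻¹)).x5) * (na6K A B)

/-- A normalising conjugation. -/
def na7V (o : ℕ) (A : V) (B : V) : V :=
  (vx3 o).pw ((na6V o A B * A * ((na6V o A B)⁻¹)).x5) * (na6V o A B)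

theorem ev_na7 {i o : ℕ} (ho : bt K i o = 1) (A : V) (B : V) :
    ev K i (na7V o A B) = na7K (ev K i A) (ev K i B) := by
  simp only [na7V, na7K, ev_mul, ev_inv, ev_mk, bt_and, bt_xor, bt_zero, ho, ev_pw, ev_vx3 ho, bt_x5, ev_na6
    ho]

/-- A normalising conjugation. -/
noncomputable def na8K (A : P K) (B : P K) : P K :=
  pw (rx5 (1 : K)) ((na7K A B * B * ((na7K A B)⁻¹)).z4) * (na7K A B)

/-- A normalising conjugation. -/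
def na8V (o : ℕ) (A : V) (B : V) : V :=
  (vx5 o).pw ((na7V o A B * B * ((na7V o A B)⁻¹)).z4) * (na7V o A B)

theorem ev_na8 {i o : ℕ} (ho : bt K i o = 1) (A : V) (B : V) :
    ev K i (na8V o A B) = na8K (ev K i A) (ev K i B) := by
  simp only [na8V, na8K, ev_mul, ev_inv, ev_mk, bt_and, bt_xor, bt_zero, ho, ev_pw, ev_vx5 ho, bt_z4, ev_na7
    ho]

/-- Failure positions. -/
def nf1H (o : ℕ) (A : V) (B : V) : ℕ :=
  0

/-- Failure positions. -/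
def nf1C (o : ℕ) (A : V) (B : V) : ℕ :=
  ((na8V o A B).x1) ||| (na8V o A B * A * ((na8V o A B)⁻¹)).df ((⟨0, 0, (na8V o A B * A * ((na8V o
    A B)⁻¹)).z2, 0, (na8V o A B * A * ((na8V o A B)⁻¹)).y4, (na8V o A B * A * ((na8V o A B)⁻¹)).z4,
    0, 0, (na8V o A B * A * ((na8V o A B)⁻¹)).z6, 0, o, (na8V o A B * A * ((na8V o A B)⁻¹)).z8⟩ :
    V)) ||| (na8V o A B * B * ((na8V o A B)⁻¹)).df ((⟨0, o, (na8V o A B * B * ((na8V o A B)⁻¹)).z2,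
    0, (na8V o A B * B * ((na8V o A B)⁻¹)).y4, 0, 0, 0, (na8V o A B * B * ((na8V o A B)⁻¹)).z6, 0,
    0, (na8V o A B * B * ((na8V o A B)⁻¹)).z8⟩ : V))

theorem nf1_chk : nf1C (ones 18) ⟨0, 0, var 18 0, var 18 1, var 18 2, var 18 3, var 18 4, var 18 5, var 18 6, var
    18 7, ones 18, var 18 8⟩ ⟨0, ones 18, var 18 9, var 18 10, var 18 11, var 18 12, var 18 13, var
    18 14, var 18 15, var 18 16, 0, var 18 17⟩ ||| nf1H (ones 18) ⟨0, 0, var 18 0, var 18 1, var 18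
    2, var 18 3, var 18 4, var 18 5, var 18 6, var 18 7, ones 18, var 18 8⟩ ⟨0, ones 18, var 18 9,
    var 18 10, var 18 11, var 18 12, var 18 13, var 18 14, var 18 15, var 18 16, 0, var 18 17⟩ =
    nf1H (ones 18) ⟨0, 0, var 18 0, var 18 1, var 18 2, var 18 3, var 18 4, var 18 5, var 18 6, var
    18 7, ones 18, var 18 8⟩ ⟨0, ones 18, var 18 9, var 18 10, var 18 11, var 18 12, var 18 13, var
    18 14, var 18 15, var 18 16, 0, var 18 17⟩ := by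
  decide +kernel

theorem nf1 (hK : ∀ μ : K, μ = 0 ∨ μ = 1) {A B : P K} (eA : A = (⟨0, 0, A.z2, A.x3, A.y4, A.z4,
    A.x5, A.y6, A.z6, A.x7, 1, A.z8⟩ : P K)) (eB : B = (⟨0, 1, B.z2, B.x3, B.y4, B.z4, B.x5, B.y6,
    B.z6, B.x7, 0, B.z8⟩ : P K)) : (na8K A B).x1 = 0 ∧ na8K A B * A * ((na8K A B)⁻¹) = (⟨0, 0, (na8K
    A B * A * ((na8K A B)⁻¹)).z2, 0, (na8K A B * A * ((na8K A B)⁻¹)).y4, (na8K A B * A * ((na8K A
    B)⁻¹)).z4, 0, 0, (na8K A B * A * ((na8K A B)⁻¹)).z6, 0, 1, (na8K A B * A * ((na8K A B)⁻¹)).z8⟩ :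
    P K) ∧ na8K A B * B * ((na8K A B)⁻¹) = (⟨0, 1, (na8K A B * B * ((na8K A B)⁻¹)).z2, 0, (na8K A B
    * B * ((na8K A B)⁻¹)).y4, 0, 0, 0, (na8K A B * B * ((na8K A B)⁻¹)).z6, 0, 0, (na8K A B * B *
    ((na8K A B)⁻¹)).z8⟩ : P K) := by
  obtain ⟨i, hi, hv⟩ := exists_bt hK 18 fun n =>
    ([A.z2, A.x3, A.y4, A.z4, A.x5, A.y6, A.z6, A.x7, A.z8, B.z2, B.x3, B.y4, B.z4, B.x5, B.y6,
    B.z6, B.x7, B.z8] : List K).getD n 0
  have ho := bt_ones (K := K) hi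
  have v0 : bt K i (var 18 0) = A.z2 := hv 0 (by decide)
  have v1 : bt K i (var 18 1) = A.x3 := hv 1 (by decide)
  have v2 : bt K i (var 18 2) = A.y4 := hv 2 (by decide)
  have v3 : bt K i (var 18 3) = A.z4 := hv 3 (by decide)
  have v4 : bt K i (var 18 4) = A.x5 := hv 4 (by decide)
  have v5 : bt K i (var 18 5) = A.y6 := hv 5 (by decide)
  have v6 : bt K i (var 18 6) = A.z6 := hv 6 (by decide)
  have v7 : bt K i (var 18 7) = A.x7 := hv 7 (by decide)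
  have v8 : bt K i (var 18 8) = A.z8 := hv 8 (by decide)
  have v9 : bt K i (var 18 9) = B.z2 := hv 9 (by decide)
  have v10 : bt K i (var 18 10) = B.x3 := hv 10 (by decide)
  have v11 : bt K i (var 18 11) = B.y4 := hv 11 (by decide)
  have v12 : bt K i (var 18 12) = B.z4 := hv 12 (by decide)
  have v13 : bt K i (var 18 13) = B.x5 := hv 13 (by decide)
  have v14 : bt K i (var 18 14) = B.y6 := hv 14 (by decide)
  have v15 : bt K i (var 18 15) = B.z6 := hv 15 (by decide)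
  have v16 : bt K i (var 18 16) = B.x7 := hv 16 (by decide)
  have v17 : bt K i (var 18 17) = B.z8 := hv 17 (by decide)
  have kA : (⟨0, 0, A.z2, A.x3, A.y4, A.z4, A.x5, A.y6, A.z6, A.x7, 1, A.z8⟩ : P K) = A := eA.symm
  have kB : (⟨0, 1, B.z2, B.x3, B.y4, B.z4, B.x5, B.y6, B.z6, B.x7, 0, B.z8⟩ : P K) = B := eB.symm
  have := imp (K := K) (i := i) nf1_chk (bt_zero i)
  simpa only [nf1C, bt_or_eq_zero, df_iff, and_assoc, ev_mul, ev_inv, ev_mk, bt_and, bt_xor, bt_zero, ho,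
    bt_x1, bt_z2, bt_y4, bt_z4, bt_z6, bt_z8, v0, v1, v2, v3, v4, v5, v6, v7, v8, v9, v10, v11, v12,
    v13, v14, v15, v16, v17, kA, kB, ev_na8 ho] using this

/-- Failure positions. -/
def cl1H (o : ℕ) (A : V) (B : V) (D : V) : ℕ :=
  ((T1V o A B D).y8 * ((T1V o A B D).z2)).df ((T1V o A B D).z2 * ((T1V o A B D).x3) * ((T1V o A B
    D).x5) * ((T1V o A B D).z6) * ((T1V o A B D).y8)) ||| ((T1V o A B D).y8 * ((T1V o A B D).y6)).df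
    ((T1V o A B D).y6 * ((T1V o A B D).x7) * ((T1V o A B D).y8)) ||| ((T1V o A B D).y8 * ((T1V o A B
    D).y2)).df ((T1V o A B D).y2 * ((T1V o A B D).x3) * ((T1V o A B D).y4) * ((T1V o A B D).z4) *
    ((T1V o A B D).y6) * ((T1V o A B D).y8))

/-- Failure positions. -/
def cl1C (o : ℕ) (A : V) (B : V) (D : V) : ℕ :=
  (A).df ((⟨0, 0, 0, 0, A.y4, A.z4, 0, 0, A.z6, 0, o, A.z8⟩ : V)) ||| (B).df ((⟨0, o, A.y4, 0,
    A.z8, 0, 0, 0, B.z6, 0, 0, 0⟩ : V)) ||| (D).df ((⟨0, 0, 0, 0, 0, D.z4, A.z8 ^^^ (A.y4 &&& A.z8),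
    o, D.z6, A.z8, 0, 0⟩ : V))

theorem cl1_chk : cl1C (ones 18) ⟨0, 0, var 18 0, 0, var 18 1, var 18 2, 0, 0, var 18 3, 0, ones 18, var 18 4⟩ ⟨0,
    ones 18, var 18 5, 0, var 18 6, 0, 0, 0, var 18 7, 0, 0, var 18 8⟩ ⟨0, 0, var 18 9, var 18 10,
    var 18 11, var 18 12, var 18 13, var 18 14, var 18 15, var 18 16, 0, var 18 17⟩ ||| cl1H (ones
    18) ⟨0, 0, var 18 0, 0, var 18 1, var 18 2, 0, 0, var 18 3, 0, ones 18, var 18 4⟩ ⟨0, ones 18,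
    var 18 5, 0, var 18 6, 0, 0, 0, var 18 7, 0, 0, var 18 8⟩ ⟨0, 0, var 18 9, var 18 10, var 18 11,
    var 18 12, var 18 13, var 18 14, var 18 15, var 18 16, 0, var 18 17⟩ = cl1H (ones 18) ⟨0, 0, var
    18 0, 0, var 18 1, var 18 2, 0, 0, var 18 3, 0, ones 18, var 18 4⟩ ⟨0, ones 18, var 18 5, 0, var
    18 6, 0, 0, 0, var 18 7, 0, 0, var 18 8⟩ ⟨0, 0, var 18 9, var 18 10, var 18 11, var 18 12, var
    18 13, var 18 14, var 18 15, var 18 16, 0, var 18 17⟩ := by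
  decide +kernel

theorem cl1 (hK : ∀ μ : K, μ = 0 ∨ μ = 1) {A B D : P K} (eA : A = (⟨0, 0, A.z2, 0, A.y4, A.z4,
    0, 0, A.z6, 0, 1, A.z8⟩ : P K)) (eB : B = (⟨0, 1, B.z2, 0, B.y4, 0, 0, 0, B.z6, 0, 0, B.z8⟩ : P
    K)) (eD : D = (⟨0, 0, D.z2, D.x3, D.y4, D.z4, D.x5, D.y6, D.z6, D.x7, 0, D.z8⟩ : P K)) (h0 :
    (T1K A B D).y8 * ((T1K A B D).z2) = (T1K A B D).z2 * ((T1K A B D).x3) * ((T1K A B D).x5) * ((T1K
    A B D).z6) * ((T1K A B D).y8)) (h1 : (T1K A B D).y8 * ((T1K A B D).y6) = (T1K A B D).y6 * ((T1K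
    A B D).x7) * ((T1K A B D).y8)) (h2 : (T1K A B D).y8 * ((T1K A B D).y2) = (T1K A B D).y2 * ((T1K
    A B D).x3) * ((T1K A B D).y4) * ((T1K A B D).z4) * ((T1K A B D).y6) * ((T1K A B D).y8)) : A =
    (⟨0, 0, 0, 0, A.y4, A.z4, 0, 0, A.z6, 0, 1, A.z8⟩ : P K) ∧ B = (⟨0, 1, A.y4, 0, A.z8, 0, 0, 0,
    B.z6, 0, 0, 0⟩ : P K) ∧ D = (⟨0, 0, 0, 0, 0, D.z4, A.z8 + A.y4 * A.z8, 1, D.z6, A.z8, 0, 0⟩ : P
    K) := by
  obtain ⟨i, hi, hv⟩ := exists_bt hK 18 fun n =>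
    ([A.z2, A.y4, A.z4, A.z6, A.z8, B.z2, B.y4, B.z6, B.z8, D.z2, D.x3, D.y4, D.z4, D.x5, D.y6,
    D.z6, D.x7, D.z8] : List K).getD n 0
  have ho := bt_ones (K := K) hi
  have v0 : bt K i (var 18 0) = A.z2 := hv 0 (by decide)
  have v1 : bt K i (var 18 1) = A.y4 := hv 1 (by decide)
  have v2 : bt K i (var 18 2) = A.z4 := hv 2 (by decide)
  have v3 : bt K i (var 18 3) = A.z6 := hv 3 (by decide)
  have v4 : bt K i (var 18 4) = A.z8 := hv 4 (by decide)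
  have v5 : bt K i (var 18 5) = B.z2 := hv 5 (by decide)
  have v6 : bt K i (var 18 6) = B.y4 := hv 6 (by decide)
  have v7 : bt K i (var 18 7) = B.z6 := hv 7 (by decide)
  have v8 : bt K i (var 18 8) = B.z8 := hv 8 (by decide)
  have v9 : bt K i (var 18 9) = D.z2 := hv 9 (by decide)
  have v10 : bt K i (var 18 10) = D.x3 := hv 10 (by decide)
  have v11 : bt K i (var 18 11) = D.y4 := hv 11 (by decide)
  have v12 : bt K i (var 18 12) = D.z4 := hv 12 (by decide)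
  have v13 : bt K i (var 18 13) = D.x5 := hv 13 (by decide)
  have v14 : bt K i (var 18 14) = D.y6 := hv 14 (by decide)
  have v15 : bt K i (var 18 15) = D.z6 := hv 15 (by decide)
  have v16 : bt K i (var 18 16) = D.x7 := hv 16 (by decide)
  have v17 : bt K i (var 18 17) = D.z8 := hv 17 (by decide)
  have kA : (⟨0, 0, A.z2, 0, A.y4, A.z4, 0, 0, A.z6, 0, 1, A.z8⟩ : P K) = A := eA.symm
  have kB : (⟨0, 1, B.z2, 0, B.y4, 0, 0, 0, B.z6, 0, 0, B.z8⟩ : P K) = B := eB.symm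
  have kD : (⟨0, 0, D.z2, D.x3, D.y4, D.z4, D.x5, D.y6, D.z6, D.x7, 0, D.z8⟩ : P K) = D := eD.symm
  have := imp (K := K) (i := i) cl1_chk (by
    simp only [cl1H, bt_or_eq_zero, df_iff, and_assoc, ev_mul, ev_inv, ev_mk, bt_and, bt_xor, bt_zero, ho,
      bt_y2, bt_z2, bt_x3, bt_y4, bt_z4, bt_x5, bt_y6, bt_z6, bt_x7, bt_y8, bt_z8, tb_y2, tb_z2,
      tb_x3, tb_y4, tb_z4, tb_x5, tb_y6, tb_z6, tb_x7, tb_y8, tb_z8, v0, v1, v2, v3, v4, v5, v6, v7,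
      v8, v9, v10, v11, v12, v13, v14, v15, v16, v17, kA, kB, kD, ev_T1 ho]
    exact ⟨h0, h1, h2⟩)
  simpa only [cl1C, bt_or_eq_zero, df_iff, and_assoc, ev_mul, ev_inv, ev_mk, bt_and, bt_xor, bt_zero, ho,
    bt_y2, bt_z2, bt_x3, bt_y4, bt_z4, bt_x5, bt_y6, bt_z6, bt_x7, bt_y8, bt_z8, tb_y2, tb_z2,
    tb_x3, tb_y4, tb_z4, tb_x5, tb_y6, tb_z6, tb_x7, tb_y8, tb_z8, v0, v1, v2, v3, v4, v5, v6, v7,
    v8, v9, v10, v11, v12, v13, v14, v15, v16, v17, kA, kB, kD, ev_T1 ho] using this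

/-- Failure positions. -/
def fx1H (o : ℕ) (j0 : ℕ) (j1 : ℕ) (j2 : ℕ) (j3 : ℕ) (j4 : ℕ) (j5 : ℕ) (j6 : ℕ) : ℕ :=
  0

/-- Failure positions. -/
def fx1C (o : ℕ) (j0 : ℕ) (j1 : ℕ) (j2 : ℕ) (j3 : ℕ) (j4 : ℕ) (j5 : ℕ) (j6 : ℕ) : ℕ :=
  (apV (W1V o j0 j1 j2 j3 j4 j5 j6) (apV (W1V o j0 j1 j2 j3 j4 j5 j6) (vz4 o))).df (vz4 o) |||
    (apV (W1V o j0 j1 j2 j3 j4 j5 j6) (apV (W1V o j0 j1 j2 j3 j4 j5 j6) (vz6 o))).df (vz6 o) |||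
    (apV (W1V o j0 j1 j2 j3 j4 j5 j6) (vx1 o * (apV (W1V o j0 j1 j2 j3 j4 j5 j6) (vx1 o * (apV (W1V
    o j0 j1 j2 j3 j4 j5 j6) (vx1 o * (vz4 o) * ((vx1 o)⁻¹))) * ((vx1 o)⁻¹))) * ((vx1 o)⁻¹))).df (vz4
    o) ||| (apV (W1V o j0 j1 j2 j3 j4 j5 j6) (vx1 o * (apV (W1V o j0 j1 j2 j3 j4 j5 j6) (vx1 o *
    (apV (W1V o j0 j1 j2 j3 j4 j5 j6) (vx1 o * (vz6 o) * ((vx1 o)⁻¹))) * ((vx1 o)⁻¹))) * ((vx1
    o)⁻¹))).df (vz6 o)

theorem fx1_chk : fx1C (ones 7) (var 7 0) (var 7 1) (var 7 2) (var 7 3) (var 7 4) (var 7 5) (var 7 6) ||| fx1H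
    (ones 7) (var 7 0) (var 7 1) (var 7 2) (var 7 3) (var 7 4) (var 7 5) (var 7 6) = fx1H (ones 7)
    (var 7 0) (var 7 1) (var 7 2) (var 7 3) (var 7 4) (var 7 5) (var 7 6) := by
  decide +kernel

theorem fx1 (hK : ∀ μ : K, μ = 0 ∨ μ = 1) {j0 j1 j2 j3 j4 j5 j6 : K} : apK (W1K j0 j1 j2 j3 j4
    j5 j6) (apK (W1K j0 j1 j2 j3 j4 j5 j6) (rz4 (1 : K))) = rz4 (1 : K) ∧ apK (W1K j0 j1 j2 j3 j4 j5
    j6) (apK (W1K j0 j1 j2 j3 j4 j5 j6) (rz6 (1 : K))) = rz6 (1 : K) ∧ apK (W1K j0 j1 j2 j3 j4 j5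
    j6) (rx1 (1 : K) * (apK (W1K j0 j1 j2 j3 j4 j5 j6) (rx1 (1 : K) * (apK (W1K j0 j1 j2 j3 j4 j5
    j6) (rx1 (1 : K) * (rz4 (1 : K)) * ((rx1 (1 : K))⁻¹))) * ((rx1 (1 : K))⁻¹))) * ((rx1 (1 :
    K))⁻¹)) = rz4 (1 : K) ∧ apK (W1K j0 j1 j2 j3 j4 j5 j6) (rx1 (1 : K) * (apK (W1K j0 j1 j2 j3 j4
    j5 j6) (rx1 (1 : K) * (apK (W1K j0 j1 j2 j3 j4 j5 j6) (rx1 (1 : K) * (rz6 (1 : K)) * ((rx1 (1 :
    K))⁻¹))) * ((rx1 (1 : K))⁻¹))) * ((rx1 (1 : K))⁻¹)) = rz6 (1 : K) := by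
  obtain ⟨i, hi, hv⟩ := exists_bt hK 7 fun n =>
    ([j0, j1, j2, j3, j4, j5, j6] : List K).getD n 0
  have ho := bt_ones (K := K) hi
  have v0 : bt K i (var 7 0) = j0 := hv 0 (by decide)
  have v1 : bt K i (var 7 1) = j1 := hv 1 (by decide)
  have v2 : bt K i (var 7 2) = j2 := hv 2 (by decide)
  have v3 : bt K i (var 7 3) = j3 := hv 3 (by decide)
  have v4 : bt K i (var 7 4) = j4 := hv 4 (by decide)
  have v5 : bt K i (var 7 5) = j5 := hv 5 (by decide)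
  have v6 : bt K i (var 7 6) = j6 := hv 6 (by decide)
  have := imp (K := K) (i := i) fx1_chk (bt_zero i)
  simpa only [fx1C, bt_or_eq_zero, df_iff, and_assoc, ev_mul, ev_inv, ev_mk, bt_and, bt_xor, bt_zero, ho,
    ev_ap, ev_vx1 ho, ev_vz4 ho, ev_vz6 ho, v0, v1, v2, v3, v4, v5, v6, ev_W1 ho] using this

/-- Failure positions. -/
def sq1H (o : ℕ) (g : V) (j0 : ℕ) (j1 : ℕ) (j2 : ℕ) (j3 : ℕ) (j4 : ℕ) (j5 : ℕ) (j6 : ℕ) : ℕ :=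
  (apV (W1V o j0 j1 j2 j3 j4 j5 j6) (apV (W1V o j0 j1 j2 j3 j4 j5 j6) (vy2 o))).df (g * (vy2 o) *
    g⁻¹) ||| (apV (W1V o j0 j1 j2 j3 j4 j5 j6) (apV (W1V o j0 j1 j2 j3 j4 j5 j6) (vy8 o))).df (g *
    (vy8 o) * g⁻¹) ||| (apV (W1V o j0 j1 j2 j3 j4 j5 j6) (apV (W1V o j0 j1 j2 j3 j4 j5 j6) (vy4
    o))).df (g * (vy4 o) * g⁻¹)

/-- Failure positions. -/
def sq1C (o : ℕ) (g : V) (j0 : ℕ) (j1 : ℕ) (j2 : ℕ) (j3 : ℕ) (j4 : ℕ) (j5 : ℕ) (j6 : ℕ) : ℕ :=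
  (j0 ^^^ j3) ||| (j5 ^^^ j6) ||| (j0 ^^^ j1 ^^^ j4 ^^^ (j0 &&& j5))

theorem sq1_chk : sq1C (ones 18) ⟨0, var 18 0, var 18 1, var 18 2, var 18 3, var 18 4, var 18 5, var 18 6, var 18
    7, var 18 8, var 18 9, var 18 10⟩ (var 18 11) (var 18 12) (var 18 13) (var 18 14) (var 18 15)
    (var 18 16) (var 18 17) ||| sq1H (ones 18) ⟨0, var 18 0, var 18 1, var 18 2, var 18 3, var 18 4,
    var 18 5, var 18 6, var 18 7, var 18 8, var 18 9, var 18 10⟩ (var 18 11) (var 18 12) (var 18 13)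
    (var 18 14) (var 18 15) (var 18 16) (var 18 17) = sq1H (ones 18) ⟨0, var 18 0, var 18 1, var 18
    2, var 18 3, var 18 4, var 18 5, var 18 6, var 18 7, var 18 8, var 18 9, var 18 10⟩ (var 18 11)
    (var 18 12) (var 18 13) (var 18 14) (var 18 15) (var 18 16) (var 18 17) := by
  decide +kernel

theorem sq1 (hK : ∀ μ : K, μ = 0 ∨ μ = 1) {g : P K} {j0 j1 j2 j3 j4 j5 j6 : K} (eg : g = (⟨0,
    g.y2, g.z2, g.x3, g.y4, g.z4, g.x5, g.y6, g.z6, g.x7, g.y8, g.z8⟩ : P K)) (h0 : apK (W1K j0 j1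
    j2 j3 j4 j5 j6) (apK (W1K j0 j1 j2 j3 j4 j5 j6) (ry2 (1 : K))) = g * (ry2 (1 : K)) * g⁻¹) (h1 :
    apK (W1K j0 j1 j2 j3 j4 j5 j6) (apK (W1K j0 j1 j2 j3 j4 j5 j6) (ry8 (1 : K))) = g * (ry8 (1 :
    K)) * g⁻¹) (h2 : apK (W1K j0 j1 j2 j3 j4 j5 j6) (apK (W1K j0 j1 j2 j3 j4 j5 j6) (ry4 (1 : K))) =
    g * (ry4 (1 : K)) * g⁻¹) : j0 + j3 = 0 ∧ j5 + j6 = 0 ∧ j0 + j1 + j4 + j0 * j5 = 0 := by
  obtain ⟨i, hi, hv⟩ := exists_bt hK 18 fun n =>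
    ([g.y2, g.z2, g.x3, g.y4, g.z4, g.x5, g.y6, g.z6, g.x7, g.y8, g.z8, j0, j1, j2, j3, j4, j5, j6]
    : List K).getD n 0
  have ho := bt_ones (K := K) hi
  have v0 : bt K i (var 18 0) = g.y2 := hv 0 (by decide)
  have v1 : bt K i (var 18 1) = g.z2 := hv 1 (by decide)
  have v2 : bt K i (var 18 2) = g.x3 := hv 2 (by decide)
  have v3 : bt K i (var 18 3) = g.y4 := hv 3 (by decide)
  have v4 : bt K i (var 18 4) = g.z4 := hv 4 (by decide)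
  have v5 : bt K i (var 18 5) = g.x5 := hv 5 (by decide)
  have v6 : bt K i (var 18 6) = g.y6 := hv 6 (by decide)
  have v7 : bt K i (var 18 7) = g.z6 := hv 7 (by decide)
  have v8 : bt K i (var 18 8) = g.x7 := hv 8 (by decide)
  have v9 : bt K i (var 18 9) = g.y8 := hv 9 (by decide)
  have v10 : bt K i (var 18 10) = g.z8 := hv 10 (by decide)
  have v11 : bt K i (var 18 11) = j0 := hv 11 (by decide)
  have v12 : bt K i (var 18 12) = j1 := hv 12 (by decide)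
  have v13 : bt K i (var 18 13) = j2 := hv 13 (by decide)
  have v14 : bt K i (var 18 14) = j3 := hv 14 (by decide)
  have v15 : bt K i (var 18 15) = j4 := hv 15 (by decide)
  have v16 : bt K i (var 18 16) = j5 := hv 16 (by decide)
  have v17 : bt K i (var 18 17) = j6 := hv 17 (by decide)
  have kg : (⟨0, g.y2, g.z2, g.x3, g.y4, g.z4, g.x5, g.y6, g.z6, g.x7, g.y8, g.z8⟩ : P K) = g := eg.symm
  have := imp (K := K) (i := i) sq1_chk (by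
    simp only [sq1H, bt_or_eq_zero, df_iff, and_assoc, ev_mul, ev_inv, ev_mk, bt_and, bt_xor, bt_zero, ho,
      ev_ap, ev_vy2 ho, ev_vy4 ho, ev_vy8 ho, v0, v1, v2, v3, v4, v5, v6, v7, v8, v9, v10, v11, v12,
      v13, v14, v15, v16, v17, kg, ev_W1 ho]
    exact ⟨h0, h1, h2⟩)
  simpa only [sq1C, bt_or_eq_zero, df_iff, and_assoc, ev_mul, ev_inv, ev_mk, bt_and, bt_xor, bt_zero, ho,
    ev_ap, ev_vy2 ho, ev_vy4 ho, ev_vy8 ho, v0, v1, v2, v3, v4, v5, v6, v7, v8, v9, v10, v11, v12,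
    v13, v14, v15, v16, v17, kg, ev_W1 ho] using this

/-- Failure positions. -/
def cu1H (o : ℕ) (g : V) (j0 : ℕ) (j1 : ℕ) (j2 : ℕ) (j3 : ℕ) (j4 : ℕ) (j5 : ℕ) (j6 : ℕ) : ℕ :=
  (apV (W1V o j0 j1 j2 j3 j4 j5 j6) (vx1 o * (apV (W1V o j0 j1 j2 j3 j4 j5 j6) (vx1 o * (apV (W1V
    o j0 j1 j2 j3 j4 j5 j6) (vx1 o * (vy2 o) * ((vx1 o)⁻¹))) * ((vx1 o)⁻¹))) * ((vx1 o)⁻¹))).df (g *
    (vy2 o) * g⁻¹) ||| (apV (W1V o j0 j1 j2 j3 j4 j5 j6) (vx1 o * (apV (W1V o j0 j1 j2 j3 j4 j5 j6)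
    (vx1 o * (apV (W1V o j0 j1 j2 j3 j4 j5 j6) (vx1 o * (vy8 o) * ((vx1 o)⁻¹))) * ((vx1 o)⁻¹))) *
    ((vx1 o)⁻¹))).df (g * (vy8 o) * g⁻¹) ||| (apV (W1V o j0 j1 j2 j3 j4 j5 j6) (vx1 o * (apV (W1V o
    j0 j1 j2 j3 j4 j5 j6) (vx1 o * (apV (W1V o j0 j1 j2 j3 j4 j5 j6) (vx1 o * (vy4 o) * ((vx1
    o)⁻¹))) * ((vx1 o)⁻¹))) * ((vx1 o)⁻¹))).df (g * (vy4 o) * g⁻¹)

/-- Failure positions. -/
def cu1C (o : ℕ) (g : V) (j0 : ℕ) (j1 : ℕ) (j2 : ℕ) (j3 : ℕ) (j4 : ℕ) (j5 : ℕ) (j6 : ℕ) : ℕ :=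
  (j2 ^^^ (j0 &&& j3) ^^^ j5 ^^^ (j0 &&& j5) ^^^ j6 ^^^ (j0 &&& j6) ^^^ (j3 &&& j6))

theorem cu1_chk : cu1C (ones 18) ⟨0, var 18 0, var 18 1, var 18 2, var 18 3, var 18 4, var 18 5, var 18 6, var 18
    7, var 18 8, var 18 9, var 18 10⟩ (var 18 11) (var 18 12) (var 18 13) (var 18 14) (var 18 15)
    (var 18 16) (var 18 17) ||| cu1H (ones 18) ⟨0, var 18 0, var 18 1, var 18 2, var 18 3, var 18 4,
    var 18 5, var 18 6, var 18 7, var 18 8, var 18 9, var 18 10⟩ (var 18 11) (var 18 12) (var 18 13)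
    (var 18 14) (var 18 15) (var 18 16) (var 18 17) = cu1H (ones 18) ⟨0, var 18 0, var 18 1, var 18
    2, var 18 3, var 18 4, var 18 5, var 18 6, var 18 7, var 18 8, var 18 9, var 18 10⟩ (var 18 11)
    (var 18 12) (var 18 13) (var 18 14) (var 18 15) (var 18 16) (var 18 17) := by
  decide +kernel

theorem cu1 (hK : ∀ μ : K, μ = 0 ∨ μ = 1) {g : P K} {j0 j1 j2 j3 j4 j5 j6 : K} (eg : g = (⟨0,
    g.y2, g.z2, g.x3, g.y4, g.z4, g.x5, g.y6, g.z6, g.x7, g.y8, g.z8⟩ : P K)) (h0 : apK (W1K j0 j1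
    j2 j3 j4 j5 j6) (rx1 (1 : K) * (apK (W1K j0 j1 j2 j3 j4 j5 j6) (rx1 (1 : K) * (apK (W1K j0 j1 j2
    j3 j4 j5 j6) (rx1 (1 : K) * (ry2 (1 : K)) * ((rx1 (1 : K))⁻¹))) * ((rx1 (1 : K))⁻¹))) * ((rx1 (1
    : K))⁻¹)) = g * (ry2 (1 : K)) * g⁻¹) (h1 : apK (W1K j0 j1 j2 j3 j4 j5 j6) (rx1 (1 : K) * (apK
    (W1K j0 j1 j2 j3 j4 j5 j6) (rx1 (1 : K) * (apK (W1K j0 j1 j2 j3 j4 j5 j6) (rx1 (1 : K) * (ry8 (1
    : K)) * ((rx1 (1 : K))⁻¹))) * ((rx1 (1 : K))⁻¹))) * ((rx1 (1 : K))⁻¹)) = g * (ry8 (1 : K)) *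
    g⁻¹) (h2 : apK (W1K j0 j1 j2 j3 j4 j5 j6) (rx1 (1 : K) * (apK (W1K j0 j1 j2 j3 j4 j5 j6) (rx1 (1
    : K) * (apK (W1K j0 j1 j2 j3 j4 j5 j6) (rx1 (1 : K) * (ry4 (1 : K)) * ((rx1 (1 : K))⁻¹))) *
    ((rx1 (1 : K))⁻¹))) * ((rx1 (1 : K))⁻¹)) = g * (ry4 (1 : K)) * g⁻¹) : j2 + j0 * j3 + j5 + j0 *
    j5 + j6 + j0 * j6 + j3 * j6 = 0 := by
  obtain ⟨i, hi, hv⟩ := exists_bt hK 18 fun n =>
    ([g.y2, g.z2, g.x3, g.y4, g.z4, g.x5, g.y6, g.z6, g.x7, g.y8, g.z8, j0, j1, j2, j3, j4, j5, j6]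
    : List K).getD n 0
  have ho := bt_ones (K := K) hi
  have v0 : bt K i (var 18 0) = g.y2 := hv 0 (by decide)
  have v1 : bt K i (var 18 1) = g.z2 := hv 1 (by decide)
  have v2 : bt K i (var 18 2) = g.x3 := hv 2 (by decide)
  have v3 : bt K i (var 18 3) = g.y4 := hv 3 (by decide)
  have v4 : bt K i (var 18 4) = g.z4 := hv 4 (by decide)
  have v5 : bt K i (var 18 5) = g.x5 := hv 5 (by decide)
  have v6 : bt K i (var 18 6) = g.y6 := hv 6 (by decide)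
  have v7 : bt K i (var 18 7) = g.z6 := hv 7 (by decide)
  have v8 : bt K i (var 18 8) = g.x7 := hv 8 (by decide)
  have v9 : bt K i (var 18 9) = g.y8 := hv 9 (by decide)
  have v10 : bt K i (var 18 10) = g.z8 := hv 10 (by decide)
  have v11 : bt K i (var 18 11) = j0 := hv 11 (by decide)
  have v12 : bt K i (var 18 12) = j1 := hv 12 (by decide)
  have v13 : bt K i (var 18 13) = j2 := hv 13 (by decide)
  have v14 : bt K i (var 18 14) = j3 := hv 14 (by decide)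
  have v15 : bt K i (var 18 15) = j4 := hv 15 (by decide)
  have v16 : bt K i (var 18 16) = j5 := hv 16 (by decide)
  have v17 : bt K i (var 18 17) = j6 := hv 17 (by decide)
  have kg : (⟨0, g.y2, g.z2, g.x3, g.y4, g.z4, g.x5, g.y6, g.z6, g.x7, g.y8, g.z8⟩ : P K) = g := eg.symm
  have := imp (K := K) (i := i) cu1_chk (by
    simp only [cu1H, bt_or_eq_zero, df_iff, and_assoc, ev_mul, ev_inv, ev_mk, bt_and, bt_xor, bt_zero, ho,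
      ev_ap, ev_vx1 ho, ev_vy2 ho, ev_vy4 ho, ev_vy8 ho, v0, v1, v2, v3, v4, v5, v6, v7, v8, v9,
      v10, v11, v12, v13, v14, v15, v16, v17, kg, ev_W1 ho]
    exact ⟨h0, h1, h2⟩)
  simpa only [cu1C, bt_or_eq_zero, df_iff, and_assoc, ev_mul, ev_inv, ev_mk, bt_and, bt_xor, bt_zero, ho,
    ev_ap, ev_vx1 ho, ev_vy2 ho, ev_vy4 ho, ev_vy8 ho, v0, v1, v2, v3, v4, v5, v6, v7, v8, v9, v10,
    v11, v12, v13, v14, v15, v16, v17, kg, ev_W1 ho] using this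

/-- Failure positions. -/
def sol1H (o : ℕ) (j0 : ℕ) (j1 : ℕ) (j2 : ℕ) (j3 : ℕ) (j4 : ℕ) (j5 : ℕ) (j6 : ℕ) : ℕ :=
  (j0 ^^^ j3) ||| (j5 ^^^ j6) ||| (j0 ^^^ j1 ^^^ j4 ^^^ (j0 &&& j5)) ||| (j2 ^^^ (j0 &&& j3) ^^^
    j5 ^^^ (j0 &&& j5) ^^^ j6 ^^^ (j0 &&& j6) ^^^ (j3 &&& j6))

/-- Failure positions. -/
def sol1C (o : ℕ) (j0 : ℕ) (j1 : ℕ) (j2 : ℕ) (j3 : ℕ) (j4 : ℕ) (j5 : ℕ) (j6 : ℕ) : ℕ :=
  (j1 ^^^ (j0 ^^^ j4 ^^^ (j0 &&& j5))) ||| (j2 ^^^ (j0 ^^^ (j0 &&& j5))) ||| (j3 ^^^ (j0)) ||| (j6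
    ^^^ (j5))

theorem sol1_chk : sol1C (ones 7) (var 7 0) (var 7 1) (var 7 2) (var 7 3) (var 7 4) (var 7 5) (var 7 6) ||| sol1H
    (ones 7) (var 7 0) (var 7 1) (var 7 2) (var 7 3) (var 7 4) (var 7 5) (var 7 6) = sol1H (ones 7)
    (var 7 0) (var 7 1) (var 7 2) (var 7 3) (var 7 4) (var 7 5) (var 7 6) := by
  decide +kernel

theorem sol1 (hK : ∀ μ : K, μ = 0 ∨ μ = 1) {j0 j1 j2 j3 j4 j5 j6 : K} (h0 : j0 + j3 = 0) (h1 :
    j5 + j6 = 0) (h2 : j0 + j1 + j4 + j0 * j5 = 0) (h3 : j2 + j0 * j3 + j5 + j0 * j5 + j6 + j0 * j6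
    + j3 * j6 = 0) : j1 + (j0 + j4 + j0 * j5) = 0 ∧ j2 + (j0 + j0 * j5) = 0 ∧ j3 + (j0) = 0 ∧ j6 +
    (j5) = 0 := by
  obtain ⟨i, hi, hv⟩ := exists_bt hK 7 fun n =>
    ([j0, j1, j2, j3, j4, j5, j6] : List K).getD n 0
  have ho := bt_ones (K := K) hi
  have v0 : bt K i (var 7 0) = j0 := hv 0 (by decide)
  have v1 : bt K i (var 7 1) = j1 := hv 1 (by decide)
  have v2 : bt K i (var 7 2) = j2 := hv 2 (by decide)
  have v3 : bt K i (var 7 3) = j3 := hv 3 (by decide)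
  have v4 : bt K i (var 7 4) = j4 := hv 4 (by decide)
  have v5 : bt K i (var 7 5) = j5 := hv 5 (by decide)
  have v6 : bt K i (var 7 6) = j6 := hv 6 (by decide)
  have := imp (K := K) (i := i) sol1_chk (by
    simp only [sol1H, bt_or_eq_zero, df_iff, and_assoc, ev_mul, ev_inv, ev_mk, bt_and, bt_xor, bt_zero, ho,
      v0, v1, v2, v3, v4, v5, v6]
    exact ⟨h0, h1, h2, h3⟩)
  simpa only [sol1C, bt_or_eq_zero, df_iff, and_assoc, ev_mul, ev_inv, ev_mk, bt_and, bt_xor, bt_zero, ho, v0,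
    v1, v2, v3, v4, v5, v6] using this

section Cls

variable (hK : ∀ μ : K, μ = 0 ∨ μ = 1) {w : P K → P K} (hw : HomOn (Q1 K) w)
  (hm : ∀ x ∈ Q1 K, w x ∈ Q1 K) (h4 : w (rz4 1) = rz6 1) (h6 : w (rz6 1) = rz4 1)
  (h5 : (rx5 1)⁻¹ * w (rx5 1) ∈ V1 K)
include hK hw hm h4 h6 h5

theorem shapes1 {A B D : P K} (hA : w (ry2 1) = A) (hB : w (ry8 1) = B) (hD : w (ry4 1) = D) :
    A = ⟨0, 0, A.z2, A.x3, A.y4, A.z4, A.x5, A.y6, A.z6, A.x7, 1, A.z8⟩ ∧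
    B = ⟨0, 1, B.z2, B.x3, B.y4, B.z4, B.x5, B.y6, B.z6, B.x7, 0, B.z8⟩ ∧
    D = ⟨0, 0, D.z2, D.x3, D.y4, D.z4, D.x5, D.y6, D.z6, D.x7, 0, D.z8⟩ := by
  obtain ⟨-, -, -, -, -, -, i₁, i₂, i₃, -⟩ := id1 hK
  obtain ⟨a1, a2, a3, a4, a5, a6, a7, a8, a9, a10⟩ := mod_V1.1 h5
  have ee := P.ext (y := ⟨0, 0, 0, 0, 0, (w (rx5 1)).z4, 1, 0, (w (rx5 1)).z6, 0, 0, 0⟩) a1.symm
    a3.symm a7.symm a9.symm a6.symm rfl a10.symm a5.symm rfl a8.symm a2.symm a4.symm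
  have g5 : Gd (Q1 K) w (rx5 1) _ := ⟨rfl, rfl⟩
  have gA : Gd (Q1 K) w (ry2 1) A := ⟨rfl, hA⟩
  have gB : Gd (Q1 K) w (ry8 1) B := ⟨rfl, hB⟩
  have gD : Gd (Q1 K) w (ry4 1) D := ⟨rfl, hD⟩
  exact ⟨shA hK (P.ext (hA ▸ hm _ gA.1) rfl rfl rfl rfl rfl rfl rfl rfl rfl rfl rfl) ee
      ((gA.cm hw g5).eq ⟨rfl, h4⟩ i₁),
    shB hK (P.ext (hB ▸ hm _ gB.1) rfl rfl rfl rfl rfl rfl rfl rfl rfl rfl rfl) ee
      ((gB.cm hw g5).eq ⟨rfl, h6⟩ i₂),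
    shD hK (P.ext (hD ▸ hm _ gD.1) rfl rfl rfl rfl rfl rfl rfl rfl rfl rfl rfl) ee
      ((gD.mul hw g5).eq (g5.mul hw gD) i₃)⟩

theorem cls1₀ {A B : P K} (hA : w (ry2 1) = A) (hB : w (ry8 1) = B)
    (eA : A = ⟨0, 0, A.z2, 0, A.y4, A.z4, 0, 0, A.z6, 0, 1, A.z8⟩)
    (eB : B = ⟨0, 1, B.z2, 0, B.y4, 0, 0, 0, B.z6, 0, 0, B.z8⟩) :
    ∃ j0 j1 j2 j3 j4 j5 j6, ∀ x ∈ Q1 K, w x = apK (W1K j0 j1 j2 j3 j4 j5 j6) x := by
  obtain ⟨D, hD⟩ : ∃ D, w (ry4 1) = D := ⟨_, rfl⟩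
  obtain ⟨i₁, i₂, i₃, i₄, i₅, i₆, -, -, -, i₇, i₈, i₉⟩ := id1 hK
  have y2 : Gd (Q1 K) w (ry2 1) (T1K A B D).y2 := ⟨rfl, hA⟩
  have y8 : Gd (Q1 K) w (ry8 1) (T1K A B D).y8 := ⟨rfl, hB⟩
  have y4 : Gd (Q1 K) w (ry4 1) (T1K A B D).y4 := ⟨rfl, hD⟩
  have z4 : Gd (Q1 K) w (rz4 1) (T1K A B D).z4 := ⟨rfl, h4⟩
  have z6 : Gd (Q1 K) w (rz6 1) (T1K A B D).z6 := ⟨rfl, h6⟩
  have z2 : Gd (Q1 K) w (rz2 1) (T1K A B D).z2 := (y2.mul hw y2).of i₁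
  have x3 : Gd (Q1 K) w (rx3 1) (T1K A B D).x3 := (y2.cm hw y4).of i₂
  have x7 : Gd (Q1 K) w (rx7 1) (T1K A B D).x7 :=
    ((z4.mul hw z6).mul hw (y2.cm hw (y8.mul hw y8))).of i₃
  have y6 : Gd (Q1 K) w (ry6 1) (T1K A B D).y6 :=
    (((((y4.inv hw).mul hw x3).mul hw (y2.cm hw y8)).mul hw x7).mul hw z6).of i₄
  have x5 : Gd (Q1 K) w (rx5 1) (T1K A B D).x5 := (y4.cm hw y6).of i₅
  have z8 : Gd (Q1 K) w (rz8 1) (T1K A B D).z8 := (y8.mul hw y8).of i₆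
  obtain ⟨e₁, e₂, e₃⟩ := cl1 hK eA eB (shapes1 hK hw hm h4 h6 h5 hA hB hD).2.2
    ((y8.mul hw z2).eq ((((z2.mul hw x3).mul hw x5).mul hw z6).mul hw y8) i₇)
    ((y8.mul hw y6).eq ((y6.mul hw x7).mul hw y8) i₈)
    ((y8.mul hw y2).eq (((((y2.mul hw x3).mul hw y4).mul hw z4).mul hw y6).mul hw y8) i₉)
  refine ⟨A.y4, A.z4, A.z6, A.z8, B.z6, D.z4, D.z6, fun x hx => ?_⟩
  rw [W1K, ← e₁, ← e₂, ← e₃]
  exact hom_ap hK hw (.inl hx) (.inr y2) (.inr z2) (.inr x3) (.inr y4) (.inr z4) (.inr x5) (.inr y6)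
    (.inr z6) (.inr x7) (.inr y8) (.inr z8)

/-- Automorphisms of `Q₁` interchanging `z₄` and `z₆`, up to inner automorphisms. -/
theorem cls1 : ∃ h ∈ Q1 K, ∃ j0 j1 j2 j3 j4 j5 j6, ∀ x ∈ Q1 K,
    h * w x * h⁻¹ = apK (W1K j0 j1 j2 j3 j4 j5 j6) x := by
  obtain ⟨sA, sB, -⟩ := shapes1 hK hw hm h4 h6 h5 rfl rfl rfl
  obtain ⟨hh, eA, eB⟩ := nf1 hK sA sB
  generalize na8K (w (ry2 1)) (w (ry8 1)) = h at hh eA eB
  have hU : w (rx5 1) ∈ U3 K := by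
    simpa using mul_mem (show rx5 (1 : K) ∈ U3 K by simp [mem_U3]) (V1_le_U3 h5)
  refine ⟨h, hh, cls1₀ (w := fun x => h * w x * h⁻¹) hK 
    (fun x hx y hy => by simp only [hw x hx y hy]; group)
    (fun x hx => mul_mem (mul_mem hh (hm x hx)) (inv_mem (show h ∈ Q1 K from hh))) ?_ ?_ ?_ rfl rfl
    eA eB⟩
  · rw [h4, ← comm_V1 (by simp [mem_V1]) hh, mul_inv_cancel_right]
  · rw [h6, ← comm_Z (rz4_mem _), mul_inv_cancel_right]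
  · simpa [mul_assoc] using mul_mem h5 (icj_S_U3 h hU)

end Cls

end Cfsg.Agent.F4.Bit
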