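import Cfsg.Agent.Lib.F4.Two1

/-!
The candidates for the Weyl element of `Q₂` when `q = 2` (row TWO).
-/

set_option autoImplicit false
set_option linter.unusedSectionVars false
set_option linter.unusedVariables false
set_option linter.unusedSimpArgs false
set_option maxRecDepth 100000

namespace Cfsg.Agent.F4.Bit

open Cfsg.Agent.Fus Cfsg.Agent.Fus2 Subgroup

variable {K : Type} [Field K] [Rf K]

/-- Failure positions. -/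
def id2H (o : ℕ)  : ℕ :=
  0

/-- Failure positions. -/
def id2C (o : ℕ)  : ℕ :=
  (vy2 o * (vy2 o)).df (vz2 o) ||| (vy6 o * (vy6 o)).df (vz6 o) ||| (cm (vy2 o) (vy4 o)).df (vx3
    o) ||| (cm (vy4 o) (vy6 o)).df (vx5 o) ||| (vx1 o * (vx1 o)).df ((⟨0, 0, 0, 0, 0, 0, 0, 0, 0, 0,
    0, 0⟩ : V)) ||| (vx1 o * (vz2 o)).df (vz2 o * (vx1 o)) ||| (cm (vx1 o) (vz6 o)).df (vz4 o) |||
    (vx7 o * (vx7 o)).df ((⟨0, 0, 0, 0, 0, 0, 0, 0, 0, 0, 0, 0⟩ : V)) ||| (vx7 o * (vz6 o)).df (vz6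
    o * (vx7 o)) ||| (cm (vx7 o) (vz2 o)).df (vz4 o) ||| (vy2 o * (vz6 o)).df (vz6 o * (vy2 o)) |||
    (vy6 o * (vz2 o)).df (vz2 o * (vy6 o)) ||| (vy4 o * (vy4 o)).df (vz4 o) ||| (vy4 o * (vz2 o)).df
    (vz2 o * (vy4 o)) ||| (vy4 o * (vz6 o)).df (vz6 o * (vy4 o)) ||| (vy2 o * (vx1 o)).df (vx1 o *
    (vy2 o)) ||| (vy4 o * (vx1 o)).df (vx1 o * (vz2 o) * (vy4 o)) ||| (vy6 o * (vx1 o)).df (vx1 o *
    (vz2 o) * (vx3 o) * (vy6 o)) ||| (vy6 o * (vy2 o)).df (vy2 o * (vy6 o)) ||| (vx7 o * (vx1 o)).df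
    (vx1 o * (vx3 o) * (vx5 o) * (vx7 o)) ||| (vx7 o * (vy2 o)).df (vy2 o * (vz4 o) * (vx5 o) * (vz6
    o) * (vx7 o)) ||| (vx7 o * (vy4 o)).df (vy4 o * (vz6 o) * (vx7 o)) ||| (vx7 o * (vy6 o)).df (vy6
    o * (vx7 o))

theorem id2_chk : id2C (ones 0)  ||| id2H (ones 0)  = id2H (ones 0) := by
  decide +kernel

theorem id2 (hK : ∀ μ : K, μ = 0 ∨ μ = 1) : ry2 (1 : K) * (ry2 (1 : K)) = rz2 (1 : K) ∧ ry6 (1 :
    K) * (ry6 (1 : K)) = rz6 (1 : K) ∧ cm (ry2 (1 : K)) (ry4 (1 : K)) = rx3 (1 : K) ∧ cm (ry4 (1 :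
    K)) (ry6 (1 : K)) = rx5 (1 : K) ∧ rx1 (1 : K) * (rx1 (1 : K)) = (⟨0, 0, 0, 0, 0, 0, 0, 0, 0, 0,
    0, 0⟩ : P K) ∧ rx1 (1 : K) * (rz2 (1 : K)) = rz2 (1 : K) * (rx1 (1 : K)) ∧ cm (rx1 (1 : K)) (rz6
    (1 : K)) = rz4 (1 : K) ∧ rx7 (1 : K) * (rx7 (1 : K)) = (⟨0, 0, 0, 0, 0, 0, 0, 0, 0, 0, 0, 0⟩ : P
    K) ∧ rx7 (1 : K) * (rz6 (1 : K)) = rz6 (1 : K) * (rx7 (1 : K)) ∧ cm (rx7 (1 : K)) (rz2 (1 : K))
    = rz4 (1 : K) ∧ ry2 (1 : K) * (rz6 (1 : K)) = rz6 (1 : K) * (ry2 (1 : K)) ∧ ry6 (1 : K) * (rz2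
    (1 : K)) = rz2 (1 : K) * (ry6 (1 : K)) ∧ ry4 (1 : K) * (ry4 (1 : K)) = rz4 (1 : K) ∧ ry4 (1 : K)
    * (rz2 (1 : K)) = rz2 (1 : K) * (ry4 (1 : K)) ∧ ry4 (1 : K) * (rz6 (1 : K)) = rz6 (1 : K) * (ry4
    (1 : K)) ∧ ry2 (1 : K) * (rx1 (1 : K)) = rx1 (1 : K) * (ry2 (1 : K)) ∧ ry4 (1 : K) * (rx1 (1 :
    K)) = rx1 (1 : K) * (rz2 (1 : K)) * (ry4 (1 : K)) ∧ ry6 (1 : K) * (rx1 (1 : K)) = rx1 (1 : K) *
    (rz2 (1 : K)) * (rx3 (1 : K)) * (ry6 (1 : K)) ∧ ry6 (1 : K) * (ry2 (1 : K)) = ry2 (1 : K) * (ry6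
    (1 : K)) ∧ rx7 (1 : K) * (rx1 (1 : K)) = rx1 (1 : K) * (rx3 (1 : K)) * (rx5 (1 : K)) * (rx7 (1 :
    K)) ∧ rx7 (1 : K) * (ry2 (1 : K)) = ry2 (1 : K) * (rz4 (1 : K)) * (rx5 (1 : K)) * (rz6 (1 : K))
    * (rx7 (1 : K)) ∧ rx7 (1 : K) * (ry4 (1 : K)) = ry4 (1 : K) * (rz6 (1 : K)) * (rx7 (1 : K)) ∧
    rx7 (1 : K) * (ry6 (1 : K)) = ry6 (1 : K) * (rx7 (1 : K)) := by
  obtain ⟨i, hi, hv⟩ := exists_bt hK 0 fun n =>
    ([] : List K).getD n 0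
  have ho := bt_ones (K := K) hi
  have := imp (K := K) (i := i) id2_chk (bt_zero i)
  simpa only [id2C, bt_or_eq_zero, df_iff, and_assoc, ev_mul, ev_inv, ev_mk, bt_and, bt_xor, bt_zero, ho,
    ev_cm, ev_vx1 ho, ev_vy2 ho, ev_vz2 ho, ev_vx3 ho, ev_vy4 ho, ev_vz4 ho, ev_vx5 ho, ev_vy6 ho,
    ev_vz6 ho, ev_vx7 ho] using this

/-- Failure positions. -/
def shPH (o : ℕ) (g : V) (e : V) (f : V) : ℕ :=
  (g * g).df ((⟨0, 0, 0, 0, 0, 0, 0, 0, 0, 0, 0, 0⟩ : V)) ||| (g * f).df (f * g) ||| (cm g e).df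
    (vz4 o)

/-- Failure positions. -/
def shPC (o : ℕ) (g : V) (e : V) (f : V) : ℕ :=
  (g).df ((⟨0, 0, 0, g.x3, 0, g.z4, g.x5, 0, g.z6, o, 0, 0⟩ : V))

theorem shP_chk : shPC (ones 12) ⟨var 12 0, var 12 1, var 12 2, var 12 3, var 12 4, var 12 5, var 12 6, var 12 7,
    var 12 8, var 12 9, 0, 0⟩ ⟨0, 0, ones 12, 0, 0, var 12 10, 0, 0, 0, 0, 0, 0⟩ ⟨0, 0, 0, 0, 0, var
    12 11, 0, 0, ones 12, 0, 0, 0⟩ ||| shPH (ones 12) ⟨var 12 0, var 12 1, var 12 2, var 12 3, var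
    12 4, var 12 5, var 12 6, var 12 7, var 12 8, var 12 9, 0, 0⟩ ⟨0, 0, ones 12, 0, 0, var 12 10,
    0, 0, 0, 0, 0, 0⟩ ⟨0, 0, 0, 0, 0, var 12 11, 0, 0, ones 12, 0, 0, 0⟩ = shPH (ones 12) ⟨var 12 0,
    var 12 1, var 12 2, var 12 3, var 12 4, var 12 5, var 12 6, var 12 7, var 12 8, var 12 9, 0, 0⟩
    ⟨0, 0, ones 12, 0, 0, var 12 10, 0, 0, 0, 0, 0, 0⟩ ⟨0, 0, 0, 0, 0, var 12 11, 0, 0, ones 12, 0,
    0, 0⟩ := by
  decide +kernel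

theorem shP (hK : ∀ μ : K, μ = 0 ∨ μ = 1) {g e f : P K} (eg : g = (⟨g.x1, g.y2, g.z2, g.x3,
    g.y4, g.z4, g.x5, g.y6, g.z6, g.x7, 0, 0⟩ : P K)) (ee : e = (⟨0, 0, 1, 0, 0, e.z4, 0, 0, 0, 0,
    0, 0⟩ : P K)) (ef : f = (⟨0, 0, 0, 0, 0, f.z4, 0, 0, 1, 0, 0, 0⟩ : P K)) (h0 : g * g = 1) (h1 :
    g * f = f * g) (h2 : cm g e = rz4 (1 : K)) : g = (⟨0, 0, 0, g.x3, 0, g.z4, g.x5, 0, g.z6, 1, 0,
    0⟩ : P K) := by
  obtain ⟨i, hi, hv⟩ := exists_bt hK 12 fun n =>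
    ([g.x1, g.y2, g.z2, g.x3, g.y4, g.z4, g.x5, g.y6, g.z6, g.x7, e.z4, f.z4] : List K).getD n 0
  have ho := bt_ones (K := K) hi
  have v0 : bt K i (var 12 0) = g.x1 := hv 0 (by decide)
  have v1 : bt K i (var 12 1) = g.y2 := hv 1 (by decide)
  have v2 : bt K i (var 12 2) = g.z2 := hv 2 (by decide)
  have v3 : bt K i (var 12 3) = g.x3 := hv 3 (by decide)
  have v4 : bt K i (var 12 4) = g.y4 := hv 4 (by decide)
  have v5 : bt K i (var 12 5) = g.z4 := hv 5 (by decide)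
  have v6 : bt K i (var 12 6) = g.x5 := hv 6 (by decide)
  have v7 : bt K i (var 12 7) = g.y6 := hv 7 (by decide)
  have v8 : bt K i (var 12 8) = g.z6 := hv 8 (by decide)
  have v9 : bt K i (var 12 9) = g.x7 := hv 9 (by decide)
  have v10 : bt K i (var 12 10) = e.z4 := hv 10 (by decide)
  have v11 : bt K i (var 12 11) = f.z4 := hv 11 (by decide)
  have kg : (⟨g.x1, g.y2, g.z2, g.x3, g.y4, g.z4, g.x5, g.y6, g.z6, g.x7, 0, 0⟩ : P K) = g := eg.symm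
  have ke : (⟨0, 0, 1, 0, 0, e.z4, 0, 0, 0, 0, 0, 0⟩ : P K) = e := ee.symm
  have kf : (⟨0, 0, 0, 0, 0, f.z4, 0, 0, 1, 0, 0, 0⟩ : P K) = f := ef.symm
  have := imp (K := K) (i := i) shP_chk (by
    simp only [shPH, bt_or_eq_zero, df_iff, and_assoc, ev_mul, ev_inv, ev_mk, bt_and, bt_xor, bt_zero, ho,
      ev_cm, ev_vz4 ho, bt_x3, bt_z4, bt_x5, bt_z6, v0, v1, v2, v3, v4, v5, v6, v7, v8, v9, v10,
      v11, kg, ke, kf, ev_one]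
    exact ⟨h0, h1, h2⟩)
  simpa only [shPC, bt_or_eq_zero, df_iff, and_assoc, ev_mul, ev_inv, ev_mk, bt_and, bt_xor, bt_zero, ho,
    ev_cm, ev_vz4 ho, bt_x3, bt_z4, bt_x5, bt_z6, v0, v1, v2, v3, v4, v5, v6, v7, v8, v9, v10, v11,
    kg, ke, kf, ev_one] using this

/-- Failure positions. -/
def shRH (o : ℕ) (g : V) (e : V) (f : V) : ℕ :=
  (g * g).df ((⟨0, 0, 0, 0, 0, 0, 0, 0, 0, 0, 0, 0⟩ : V)) ||| (g * e).df (e * g) ||| (cm g f).df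
    (vz4 o)

/-- Failure positions. -/
def shRC (o : ℕ) (g : V) (e : V) (f : V) : ℕ :=
  (g).df ((⟨o, 0, g.z2, g.x3, 0, g.z4, g.x5, 0, 0, 0, 0, 0⟩ : V))

theorem shR_chk : shRC (ones 12) ⟨var 12 0, var 12 1, var 12 2, var 12 3, var 12 4, var 12 5, var 12 6, var 12 7,
    var 12 8, var 12 9, 0, 0⟩ ⟨0, 0, ones 12, 0, 0, var 12 10, 0, 0, 0, 0, 0, 0⟩ ⟨0, 0, 0, 0, 0, var
    12 11, 0, 0, ones 12, 0, 0, 0⟩ ||| shRH (ones 12) ⟨var 12 0, var 12 1, var 12 2, var 12 3, var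
    12 4, var 12 5, var 12 6, var 12 7, var 12 8, var 12 9, 0, 0⟩ ⟨0, 0, ones 12, 0, 0, var 12 10,
    0, 0, 0, 0, 0, 0⟩ ⟨0, 0, 0, 0, 0, var 12 11, 0, 0, ones 12, 0, 0, 0⟩ = shRH (ones 12) ⟨var 12 0,
    var 12 1, var 12 2, var 12 3, var 12 4, var 12 5, var 12 6, var 12 7, var 12 8, var 12 9, 0, 0⟩
    ⟨0, 0, ones 12, 0, 0, var 12 10, 0, 0, 0, 0, 0, 0⟩ ⟨0, 0, 0, 0, 0, var 12 11, 0, 0, ones 12, 0,
    0, 0⟩ := by
  decide +kernel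

theorem shR (hK : ∀ μ : K, μ = 0 ∨ μ = 1) {g e f : P K} (eg : g = (⟨g.x1, g.y2, g.z2, g.x3,
    g.y4, g.z4, g.x5, g.y6, g.z6, g.x7, 0, 0⟩ : P K)) (ee : e = (⟨0, 0, 1, 0, 0, e.z4, 0, 0, 0, 0,
    0, 0⟩ : P K)) (ef : f = (⟨0, 0, 0, 0, 0, f.z4, 0, 0, 1, 0, 0, 0⟩ : P K)) (h0 : g * g = 1) (h1 :
    g * e = e * g) (h2 : cm g f = rz4 (1 : K)) : g = (⟨1, 0, g.z2, g.x3, 0, g.z4, g.x5, 0, 0, 0, 0,
    0⟩ : P K) := by
  obtain ⟨i, hi, hv⟩ := exists_bt hK 12 fun n =>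
    ([g.x1, g.y2, g.z2, g.x3, g.y4, g.z4, g.x5, g.y6, g.z6, g.x7, e.z4, f.z4] : List K).getD n 0
  have ho := bt_ones (K := K) hi
  have v0 : bt K i (var 12 0) = g.x1 := hv 0 (by decide)
  have v1 : bt K i (var 12 1) = g.y2 := hv 1 (by decide)
  have v2 : bt K i (var 12 2) = g.z2 := hv 2 (by decide)
  have v3 : bt K i (var 12 3) = g.x3 := hv 3 (by decide)
  have v4 : bt K i (var 12 4) = g.y4 := hv 4 (by decide)
  have v5 : bt K i (var 12 5) = g.z4 := hv 5 (by decide)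
  have v6 : bt K i (var 12 6) = g.x5 := hv 6 (by decide)
  have v7 : bt K i (var 12 7) = g.y6 := hv 7 (by decide)
  have v8 : bt K i (var 12 8) = g.z6 := hv 8 (by decide)
  have v9 : bt K i (var 12 9) = g.x7 := hv 9 (by decide)
  have v10 : bt K i (var 12 10) = e.z4 := hv 10 (by decide)
  have v11 : bt K i (var 12 11) = f.z4 := hv 11 (by decide)
  have kg : (⟨g.x1, g.y2, g.z2, g.x3, g.y4, g.z4, g.x5, g.y6, g.z6, g.x7, 0, 0⟩ : P K) = g := eg.symm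
  have ke : (⟨0, 0, 1, 0, 0, e.z4, 0, 0, 0, 0, 0, 0⟩ : P K) = e := ee.symm
  have kf : (⟨0, 0, 0, 0, 0, f.z4, 0, 0, 1, 0, 0, 0⟩ : P K) = f := ef.symm
  have := imp (K := K) (i := i) shR_chk (by
    simp only [shRH, bt_or_eq_zero, df_iff, and_assoc, ev_mul, ev_inv, ev_mk, bt_and, bt_xor, bt_zero, ho,
      ev_cm, ev_vz4 ho, bt_z2, bt_x3, bt_z4, bt_x5, v0, v1, v2, v3, v4, v5, v6, v7, v8, v9, v10,
      v11, kg, ke, kf, ev_one]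
    exact ⟨h0, h1, h2⟩)
  simpa only [shRC, bt_or_eq_zero, df_iff, and_assoc, ev_mul, ev_inv, ev_mk, bt_and, bt_xor, bt_zero, ho,
    ev_cm, ev_vz4 ho, bt_z2, bt_x3, bt_z4, bt_x5, v0, v1, v2, v3, v4, v5, v6, v7, v8, v9, v10, v11,
    kg, ke, kf, ev_one] using this

/-- Failure positions. -/
def shUH (o : ℕ) (g : V) (e : V) (f : V) : ℕ :=
  (g * g).df f ||| (g * e).df (e * g)

/-- Failure positions. -/
def shUC (o : ℕ) (g : V) (e : V) (f : V) : ℕ :=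
  (g).df ((⟨0, 0, g.z2, g.x3, 0, g.z4, g.x5, o, g.z6, 0, 0, 0⟩ : V))

theorem shU_chk : shUC (ones 12) ⟨var 12 0, var 12 1, var 12 2, var 12 3, var 12 4, var 12 5, var 12 6, var 12 7,
    var 12 8, var 12 9, 0, 0⟩ ⟨0, 0, ones 12, 0, 0, var 12 10, 0, 0, 0, 0, 0, 0⟩ ⟨0, 0, 0, 0, 0, var
    12 11, 0, 0, ones 12, 0, 0, 0⟩ ||| shUH (ones 12) ⟨var 12 0, var 12 1, var 12 2, var 12 3, var
    12 4, var 12 5, var 12 6, var 12 7, var 12 8, var 12 9, 0, 0⟩ ⟨0, 0, ones 12, 0, 0, var 12 10,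
    0, 0, 0, 0, 0, 0⟩ ⟨0, 0, 0, 0, 0, var 12 11, 0, 0, ones 12, 0, 0, 0⟩ = shUH (ones 12) ⟨var 12 0,
    var 12 1, var 12 2, var 12 3, var 12 4, var 12 5, var 12 6, var 12 7, var 12 8, var 12 9, 0, 0⟩
    ⟨0, 0, ones 12, 0, 0, var 12 10, 0, 0, 0, 0, 0, 0⟩ ⟨0, 0, 0, 0, 0, var 12 11, 0, 0, ones 12, 0,
    0, 0⟩ := by
  decide +kernel

theorem shU (hK : ∀ μ : K, μ = 0 ∨ μ = 1) {g e f : P K} (eg : g = (⟨g.x1, g.y2, g.z2, g.x3,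
    g.y4, g.z4, g.x5, g.y6, g.z6, g.x7, 0, 0⟩ : P K)) (ee : e = (⟨0, 0, 1, 0, 0, e.z4, 0, 0, 0, 0,
    0, 0⟩ : P K)) (ef : f = (⟨0, 0, 0, 0, 0, f.z4, 0, 0, 1, 0, 0, 0⟩ : P K)) (h0 : g * g = f) (h1 :
    g * e = e * g) : g = (⟨0, 0, g.z2, g.x3, 0, g.z4, g.x5, 1, g.z6, 0, 0, 0⟩ : P K) := by
  obtain ⟨i, hi, hv⟩ := exists_bt hK 12 fun n =>
    ([g.x1, g.y2, g.z2, g.x3, g.y4, g.z4, g.x5, g.y6, g.z6, g.x7, e.z4, f.z4] : List K).getD n 0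
  have ho := bt_ones (K := K) hi
  have v0 : bt K i (var 12 0) = g.x1 := hv 0 (by decide)
  have v1 : bt K i (var 12 1) = g.y2 := hv 1 (by decide)
  have v2 : bt K i (var 12 2) = g.z2 := hv 2 (by decide)
  have v3 : bt K i (var 12 3) = g.x3 := hv 3 (by decide)
  have v4 : bt K i (var 12 4) = g.y4 := hv 4 (by decide)
  have v5 : bt K i (var 12 5) = g.z4 := hv 5 (by decide)
  have v6 : bt K i (var 12 6) = g.x5 := hv 6 (by decide)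
  have v7 : bt K i (var 12 7) = g.y6 := hv 7 (by decide)
  have v8 : bt K i (var 12 8) = g.z6 := hv 8 (by decide)
  have v9 : bt K i (var 12 9) = g.x7 := hv 9 (by decide)
  have v10 : bt K i (var 12 10) = e.z4 := hv 10 (by decide)
  have v11 : bt K i (var 12 11) = f.z4 := hv 11 (by decide)
  have kg : (⟨g.x1, g.y2, g.z2, g.x3, g.y4, g.z4, g.x5, g.y6, g.z6, g.x7, 0, 0⟩ : P K) = g := eg.symm
  have ke : (⟨0, 0, 1, 0, 0, e.z4, 0, 0, 0, 0, 0, 0⟩ : P K) = e := ee.symm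
  have kf : (⟨0, 0, 0, 0, 0, f.z4, 0, 0, 1, 0, 0, 0⟩ : P K) = f := ef.symm
  have := imp (K := K) (i := i) shU_chk (by
    simp only [shUH, bt_or_eq_zero, df_iff, and_assoc, ev_mul, ev_inv, ev_mk, bt_and, bt_xor, bt_zero, ho,
      bt_z2, bt_x3, bt_z4, bt_x5, bt_z6, v0, v1, v2, v3, v4, v5, v6, v7, v8, v9, v10, v11, kg, ke,
      kf]
    exact ⟨h0, h1⟩)
  simpa only [shUC, bt_or_eq_zero, df_iff, and_assoc, ev_mul, ev_inv, ev_mk, bt_and, bt_xor, bt_zero, ho,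
    bt_z2, bt_x3, bt_z4, bt_x5, bt_z6, v0, v1, v2, v3, v4, v5, v6, v7, v8, v9, v10, v11, kg, ke, kf] using this

/-- Failure positions. -/
def shVH (o : ℕ) (g : V) (e : V) (f : V) : ℕ :=
  (g * g).df e ||| (g * f).df (f * g)

/-- Failure positions. -/
def shVC (o : ℕ) (g : V) (e : V) (f : V) : ℕ :=
  (g).df ((⟨0, o, g.z2, g.x3, 0, g.z4, g.x5, 0, g.z6, 0, 0, 0⟩ : V))

theorem shV_chk : shVC (ones 12) ⟨var 12 0, var 12 1, var 12 2, var 12 3, var 12 4, var 12 5, var 12 6, var 12 7,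
    var 12 8, var 12 9, 0, 0⟩ ⟨0, 0, ones 12, 0, 0, var 12 10, 0, 0, 0, 0, 0, 0⟩ ⟨0, 0, 0, 0, 0, var
    12 11, 0, 0, ones 12, 0, 0, 0⟩ ||| shVH (ones 12) ⟨var 12 0, var 12 1, var 12 2, var 12 3, var
    12 4, var 12 5, var 12 6, var 12 7, var 12 8, var 12 9, 0, 0⟩ ⟨0, 0, ones 12, 0, 0, var 12 10,
    0, 0, 0, 0, 0, 0⟩ ⟨0, 0, 0, 0, 0, var 12 11, 0, 0, ones 12, 0, 0, 0⟩ = shVH (ones 12) ⟨var 12 0,
    var 12 1, var 12 2, var 12 3, var 12 4, var 12 5, var 12 6, var 12 7, var 12 8, var 12 9, 0, 0⟩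
    ⟨0, 0, ones 12, 0, 0, var 12 10, 0, 0, 0, 0, 0, 0⟩ ⟨0, 0, 0, 0, 0, var 12 11, 0, 0, ones 12, 0,
    0, 0⟩ := by
  decide +kernel

theorem shV (hK : ∀ μ : K, μ = 0 ∨ μ = 1) {g e f : P K} (eg : g = (⟨g.x1, g.y2, g.z2, g.x3,
    g.y4, g.z4, g.x5, g.y6, g.z6, g.x7, 0, 0⟩ : P K)) (ee : e = (⟨0, 0, 1, 0, 0, e.z4, 0, 0, 0, 0,
    0, 0⟩ : P K)) (ef : f = (⟨0, 0, 0, 0, 0, f.z4, 0, 0, 1, 0, 0, 0⟩ : P K)) (h0 : g * g = e) (h1 :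
    g * f = f * g) : g = (⟨0, 1, g.z2, g.x3, 0, g.z4, g.x5, 0, g.z6, 0, 0, 0⟩ : P K) := by
  obtain ⟨i, hi, hv⟩ := exists_bt hK 12 fun n =>
    ([g.x1, g.y2, g.z2, g.x3, g.y4, g.z4, g.x5, g.y6, g.z6, g.x7, e.z4, f.z4] : List K).getD n 0
  have ho := bt_ones (K := K) hi
  have v0 : bt K i (var 12 0) = g.x1 := hv 0 (by decide)
  have v1 : bt K i (var 12 1) = g.y2 := hv 1 (by decide)
  have v2 : bt K i (var 12 2) = g.z2 := hv 2 (by decide)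
  have v3 : bt K i (var 12 3) = g.x3 := hv 3 (by decide)
  have v4 : bt K i (var 12 4) = g.y4 := hv 4 (by decide)
  have v5 : bt K i (var 12 5) = g.z4 := hv 5 (by decide)
  have v6 : bt K i (var 12 6) = g.x5 := hv 6 (by decide)
  have v7 : bt K i (var 12 7) = g.y6 := hv 7 (by decide)
  have v8 : bt K i (var 12 8) = g.z6 := hv 8 (by decide)
  have v9 : bt K i (var 12 9) = g.x7 := hv 9 (by decide)
  have v10 : bt K i (var 12 10) = e.z4 := hv 10 (by decide)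
  have v11 : bt K i (var 12 11) = f.z4 := hv 11 (by decide)
  have kg : (⟨g.x1, g.y2, g.z2, g.x3, g.y4, g.z4, g.x5, g.y6, g.z6, g.x7, 0, 0⟩ : P K) = g := eg.symm
  have ke : (⟨0, 0, 1, 0, 0, e.z4, 0, 0, 0, 0, 0, 0⟩ : P K) = e := ee.symm
  have kf : (⟨0, 0, 0, 0, 0, f.z4, 0, 0, 1, 0, 0, 0⟩ : P K) = f := ef.symm
  have := imp (K := K) (i := i) shV_chk (by
    simp only [shVH, bt_or_eq_zero, df_iff, and_assoc, ev_mul, ev_inv, ev_mk, bt_and, bt_xor, bt_zero, ho,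
      bt_z2, bt_x3, bt_z4, bt_x5, bt_z6, v0, v1, v2, v3, v4, v5, v6, v7, v8, v9, v10, v11, kg, ke,
      kf]
    exact ⟨h0, h1⟩)
  simpa only [shVC, bt_or_eq_zero, df_iff, and_assoc, ev_mul, ev_inv, ev_mk, bt_and, bt_xor, bt_zero, ho,
    bt_z2, bt_x3, bt_z4, bt_x5, bt_z6, v0, v1, v2, v3, v4, v5, v6, v7, v8, v9, v10, v11, kg, ke, kf] using this

/-- Failure positions. -/
def shEH (o : ℕ) (g : V) (u : V) (v : V) : ℕ :=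
  (g * g).df (vz4 o) ||| (g * (u * u)).df (u * u * g) ||| (g * (v * v)).df (v * v * g)

/-- Failure positions. -/
def shEC (o : ℕ) (g : V) (u : V) (v : V) : ℕ :=
  (g).df ((⟨0, 0, g.z2, g.x3, o, g.z4, g.x5, 0, g.z6, 0, 0, 0⟩ : V))

theorem shE_chk : shEC (ones 18) ⟨var 18 0, var 18 1, var 18 2, var 18 3, var 18 4, var 18 5, var 18 6, var 18 7,
    var 18 8, var 18 9, 0, 0⟩ ⟨0, 0, var 18 10, var 18 11, 0, 0, var 18 12, ones 18, var 18 13, 0,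
    0, 0⟩ ⟨0, ones 18, var 18 14, var 18 15, 0, 0, var 18 16, 0, var 18 17, 0, 0, 0⟩ ||| shEH (ones
    18) ⟨var 18 0, var 18 1, var 18 2, var 18 3, var 18 4, var 18 5, var 18 6, var 18 7, var 18 8,
    var 18 9, 0, 0⟩ ⟨0, 0, var 18 10, var 18 11, 0, 0, var 18 12, ones 18, var 18 13, 0, 0, 0⟩ ⟨0,
    ones 18, var 18 14, var 18 15, 0, 0, var 18 16, 0, var 18 17, 0, 0, 0⟩ = shEH (ones 18) ⟨var 18
    0, var 18 1, var 18 2, var 18 3, var 18 4, var 18 5, var 18 6, var 18 7, var 18 8, var 18 9, 0,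
    0⟩ ⟨0, 0, var 18 10, var 18 11, 0, 0, var 18 12, ones 18, var 18 13, 0, 0, 0⟩ ⟨0, ones 18, var
    18 14, var 18 15, 0, 0, var 18 16, 0, var 18 17, 0, 0, 0⟩ := by
  decide +kernel

theorem shE (hK : ∀ μ : K, μ = 0 ∨ μ = 1) {g u v : P K} (eg : g = (⟨g.x1, g.y2, g.z2, g.x3,
    g.y4, g.z4, g.x5, g.y6, g.z6, g.x7, 0, 0⟩ : P K)) (eu : u = (⟨0, 0, u.z2, u.x3, 0, 0, u.x5, 1,
    u.z6, 0, 0, 0⟩ : P K)) (ev : v = (⟨0, 1, v.z2, v.x3, 0, 0, v.x5, 0, v.z6, 0, 0, 0⟩ : P K)) (h0 :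
    g * g = rz4 (1 : K)) (h1 : g * (u * u) = u * u * g) (h2 : g * (v * v) = v * v * g) : g = (⟨0, 0,
    g.z2, g.x3, 1, g.z4, g.x5, 0, g.z6, 0, 0, 0⟩ : P K) := by
  obtain ⟨i, hi, hv⟩ := exists_bt hK 18 fun n =>
    ([g.x1, g.y2, g.z2, g.x3, g.y4, g.z4, g.x5, g.y6, g.z6, g.x7, u.z2, u.x3, u.x5, u.z6, v.z2,
    v.x3, v.x5, v.z6] : List K).getD n 0
  have ho := bt_ones (K := K) hi
  have v0 : bt K i (var 18 0) = g.x1 := hv 0 (by decide)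
  have v1 : bt K i (var 18 1) = g.y2 := hv 1 (by decide)
  have v2 : bt K i (var 18 2) = g.z2 := hv 2 (by decide)
  have v3 : bt K i (var 18 3) = g.x3 := hv 3 (by decide)
  have v4 : bt K i (var 18 4) = g.y4 := hv 4 (by decide)
  have v5 : bt K i (var 18 5) = g.z4 := hv 5 (by decide)
  have v6 : bt K i (var 18 6) = g.x5 := hv 6 (by decide)
  have v7 : bt K i (var 18 7) = g.y6 := hv 7 (by decide)
  have v8 : bt K i (var 18 8) = g.z6 := hv 8 (by decide)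
  have v9 : bt K i (var 18 9) = g.x7 := hv 9 (by decide)
  have v10 : bt K i (var 18 10) = u.z2 := hv 10 (by decide)
  have v11 : bt K i (var 18 11) = u.x3 := hv 11 (by decide)
  have v12 : bt K i (var 18 12) = u.x5 := hv 12 (by decide)
  have v13 : bt K i (var 18 13) = u.z6 := hv 13 (by decide)
  have v14 : bt K i (var 18 14) = v.z2 := hv 14 (by decide)
  have v15 : bt K i (var 18 15) = v.x3 := hv 15 (by decide)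
  have v16 : bt K i (var 18 16) = v.x5 := hv 16 (by decide)
  have v17 : bt K i (var 18 17) = v.z6 := hv 17 (by decide)
  have kg : (⟨g.x1, g.y2, g.z2, g.x3, g.y4, g.z4, g.x5, g.y6, g.z6, g.x7, 0, 0⟩ : P K) = g := eg.symm
  have ku : (⟨0, 0, u.z2, u.x3, 0, 0, u.x5, 1, u.z6, 0, 0, 0⟩ : P K) = u := eu.symm
  have kv : (⟨0, 1, v.z2, v.x3, 0, 0, v.x5, 0, v.z6, 0, 0, 0⟩ : P K) = v := ev.symm
  have := imp (K := K) (i := i) shE_chk (by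
    simp only [shEH, bt_or_eq_zero, df_iff, and_assoc, ev_mul, ev_inv, ev_mk, bt_and, bt_xor, bt_zero, ho,
      ev_vz4 ho, bt_z2, bt_x3, bt_z4, bt_x5, bt_z6, v0, v1, v2, v3, v4, v5, v6, v7, v8, v9, v10,
      v11, v12, v13, v14, v15, v16, v17, kg, ku, kv]
    exact ⟨h0, h1, h2⟩)
  simpa only [shEC, bt_or_eq_zero, df_iff, and_assoc, ev_mul, ev_inv, ev_mk, bt_and, bt_xor, bt_zero, ho,
    ev_vz4 ho, bt_z2, bt_x3, bt_z4, bt_x5, bt_z6, v0, v1, v2, v3, v4, v5, v6, v7, v8, v9, v10, v11,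
    v12, v13, v14, v15, v16, v17, kg, ku, kv] using this

/-- A normalising conjugation. -/
noncomputable def nb0K (p : P K) (r : P K) (u : P K) (v : P K) : P K :=
  pw (rx1 (1 : K)) p.x3

/-- A normalising conjugation. -/
def nb0V (o : ℕ) (p : V) (r : V) (u : V) (v : V) : V :=
  (vx1 o).pw p.x3

theorem ev_nb0 {i o : ℕ} (ho : bt K i o = 1) (p : V) (r : V) (u : V) (v : V) :
    ev K i (nb0V o p r u v) = nb0K (ev K i p) (ev K i r) (ev K i u) (ev K i v) := by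
  simp only [nb0V, nb0K, ev_mul, ev_inv, ev_mk, bt_and, bt_xor, bt_zero, ho, ev_pw, ev_vx1 ho, bt_x3]

/-- A normalising conjugation. -/
noncomputable def nb1K (p : P K) (r : P K) (u : P K) (v : P K) : P K :=
  pw (ry2 (1 : K)) ((nb0K p r u v * p * ((nb0K p r u v)⁻¹)).x5) * (nb0K p r u v)

/-- A normalising conjugation. -/
def nb1V (o : ℕ) (p : V) (r : V) (u : V) (v : V) : V :=
  (vy2 o).pw ((nb0V o p r u v * p * ((nb0V o p r u v)⁻¹)).x5) * (nb0V o p r u v)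

theorem ev_nb1 {i o : ℕ} (ho : bt K i o = 1) (p : V) (r : V) (u : V) (v : V) :
    ev K i (nb1V o p r u v) = nb1K (ev K i p) (ev K i r) (ev K i u) (ev K i v) := by
  simp only [nb1V, nb1K, ev_mul, ev_inv, ev_mk, bt_and, bt_xor, bt_zero, ho, ev_pw, ev_vy2 ho, bt_x5, ev_nb0
    ho]

/-- A normalising conjugation. -/
noncomputable def nb2K (p : P K) (r : P K) (u : P K) (v : P K) : P K :=
  pw (ry4 (1 : K)) ((nb1K p r u v * p * ((nb1K p r u v)⁻¹)).z6) * (nb1K p r u v)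

/-- A normalising conjugation. -/
def nb2V (o : ℕ) (p : V) (r : V) (u : V) (v : V) : V :=
  (vy4 o).pw ((nb1V o p r u v * p * ((nb1V o p r u v)⁻¹)).z6) * (nb1V o p r u v)

theorem ev_nb2 {i o : ℕ} (ho : bt K i o = 1) (p : V) (r : V) (u : V) (v : V) :
    ev K i (nb2V o p r u v) = nb2K (ev K i p) (ev K i r) (ev K i u) (ev K i v) := by
  simp only [nb2V, nb2K, ev_mul, ev_inv, ev_mk, bt_and, bt_xor, bt_zero, ho, ev_pw, ev_vy4 ho, bt_z6, ev_nb1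
    ho]

/-- A normalising conjugation. -/
noncomputable def nb3K (p : P K) (r : P K) (u : P K) (v : P K) : P K :=
  pw (rz2 (1 : K)) ((nb2K p r u v * p * ((nb2K p r u v)⁻¹)).z4) * (nb2K p r u v)

/-- A normalising conjugation. -/
def nb3V (o : ℕ) (p : V) (r : V) (u : V) (v : V) : V :=
  (vz2 o).pw ((nb2V o p r u v * p * ((nb2V o p r u v)⁻¹)).z4) * (nb2V o p r u v)

theorem ev_nb3 {i o : ℕ} (ho : bt K i o = 1) (p : V) (r : V) (u : V) (v : V) :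
    ev K i (nb3V o p r u v) = nb3K (ev K i p) (ev K i r) (ev K i u) (ev K i v) := by
  simp only [nb3V, nb3K, ev_mul, ev_inv, ev_mk, bt_and, bt_xor, bt_zero, ho, ev_pw, ev_vz2 ho, bt_z4, ev_nb2
    ho]

/-- A normalising conjugation. -/
noncomputable def nb4K (p : P K) (r : P K) (u : P K) (v : P K) : P K :=
  pw (rx7 (1 : K)) ((nb3K p r u v * r * ((nb3K p r u v)⁻¹)).x5) * (nb3K p r u v)

/-- A normalising conjugation. -/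
def nb4V (o : ℕ) (p : V) (r : V) (u : V) (v : V) : V :=
  (vx7 o).pw ((nb3V o p r u v * r * ((nb3V o p r u v)⁻¹)).x5) * (nb3V o p r u v)

theorem ev_nb4 {i o : ℕ} (ho : bt K i o = 1) (p : V) (r : V) (u : V) (v : V) :
    ev K i (nb4V o p r u v) = nb4K (ev K i p) (ev K i r) (ev K i u) (ev K i v) := by
  simp only [nb4V, nb4K, ev_mul, ev_inv, ev_mk, bt_and, bt_xor, bt_zero, ho, ev_pw, ev_vx7 ho, bt_x5, ev_nb3
    ho]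

/-- A normalising conjugation. -/
noncomputable def nb5K (p : P K) (r : P K) (u : P K) (v : P K) : P K :=
  pw (ry6 (1 : K)) ((nb4K p r u v * r * ((nb4K p r u v)⁻¹)).x3) * (nb4K p r u v)

/-- A normalising conjugation. -/
def nb5V (o : ℕ) (p : V) (r : V) (u : V) (v : V) : V :=
  (vy6 o).pw ((nb4V o p r u v * r * ((nb4V o p r u v)⁻¹)).x3) * (nb4V o p r u v)

theorem ev_nb5 {i o : ℕ} (ho : bt K i o = 1) (p : V) (r : V) (u : V) (v : V) :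
    ev K i (nb5V o p r u v) = nb5K (ev K i p) (ev K i r) (ev K i u) (ev K i v) := by
  simp only [nb5V, nb5K, ev_mul, ev_inv, ev_mk, bt_and, bt_xor, bt_zero, ho, ev_pw, ev_vy6 ho, bt_x3, ev_nb4
    ho]

/-- A normalising conjugation. -/
noncomputable def nb6K (p : P K) (r : P K) (u : P K) (v : P K) : P K :=
  pw (rz6 (1 : K)) ((nb5K p r u v * r * ((nb5K p r u v)⁻¹)).z4) * (nb5K p r u v)

/-- A normalising conjugation. -/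
def nb6V (o : ℕ) (p : V) (r : V) (u : V) (v : V) : V :=
  (vz6 o).pw ((nb5V o p r u v * r * ((nb5V o p r u v)⁻¹)).z4) * (nb5V o p r u v)

theorem ev_nb6 {i o : ℕ} (ho : bt K i o = 1) (p : V) (r : V) (u : V) (v : V) :
    ev K i (nb6V o p r u v) = nb6K (ev K i p) (ev K i r) (ev K i u) (ev K i v) := by
  simp only [nb6V, nb6K, ev_mul, ev_inv, ev_mk, bt_and, bt_xor, bt_zero, ho, ev_pw, ev_vz6 ho, bt_z4, ev_nb5
    ho]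

/-- A normalising conjugation. -/
noncomputable def nb7K (p : P K) (r : P K) (u : P K) (v : P K) : P K :=
  pw (rx3 (1 : K)) ((nb6K p r u v * u * ((nb6K p r u v)⁻¹)).z4) * (nb6K p r u v)

/-- A normalising conjugation. -/
def nb7V (o : ℕ) (p : V) (r : V) (u : V) (v : V) : V :=
  (vx3 o).pw ((nb6V o p r u v * u * ((nb6V o p r u v)⁻¹)).z4) * (nb6V o p r u v)

theorem ev_nb7 {i o : ℕ} (ho : bt K i o = 1) (p : V) (r : V) (u : V) (v : V) :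
    ev K i (nb7V o p r u v) = nb7K (ev K i p) (ev K i r) (ev K i u) (ev K i v) := by
  simp only [nb7V, nb7K, ev_mul, ev_inv, ev_mk, bt_and, bt_xor, bt_zero, ho, ev_pw, ev_vx3 ho, bt_z4, ev_nb6
    ho]

/-- A normalising conjugation. -/
noncomputable def nb8K (p : P K) (r : P K) (u : P K) (v : P K) : P K :=
  pw (rx5 (1 : K)) ((nb7K p r u v * v * ((nb7K p r u v)⁻¹)).z4) * (nb7K p r u v)

/-- A normalising conjugation. -/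
def nb8V (o : ℕ) (p : V) (r : V) (u : V) (v : V) : V :=
  (vx5 o).pw ((nb7V o p r u v * v * ((nb7V o p r u v)⁻¹)).z4) * (nb7V o p r u v)

theorem ev_nb8 {i o : ℕ} (ho : bt K i o = 1) (p : V) (r : V) (u : V) (v : V) :
    ev K i (nb8V o p r u v) = nb8K (ev K i p) (ev K i r) (ev K i u) (ev K i v) := by
  simp only [nb8V, nb8K, ev_mul, ev_inv, ev_mk, bt_and, bt_xor, bt_zero, ho, ev_pw, ev_vx5 ho, bt_z4, ev_nb7
    ho]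

/-- Failure positions. -/
def nf2H (o : ℕ) (p : V) (r : V) (u : V) (v : V) : ℕ :=
  0

/-- Failure positions. -/
def nf2C (o : ℕ) (p : V) (r : V) (u : V) (v : V) : ℕ :=
  ((nb8V o p r u v).y8) ||| ((nb8V o p r u v).z8) ||| (nb8V o p r u v * p * ((nb8V o p r u
    v)⁻¹)).df ((⟨0, 0, 0, 0, 0, 0, 0, 0, 0, o, 0, 0⟩ : V)) ||| (nb8V o p r u v * r * ((nb8V o p r u
    v)⁻¹)).df ((⟨o, 0, (nb8V o p r u v * r * ((nb8V o p r u v)⁻¹)).z2, 0, 0, 0, 0, 0, 0, 0, 0, 0⟩ :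
    V)) ||| (nb8V o p r u v * u * ((nb8V o p r u v)⁻¹)).df ((⟨0, 0, (nb8V o p r u v * u * ((nb8V o p
    r u v)⁻¹)).z2, (nb8V o p r u v * u * ((nb8V o p r u v)⁻¹)).x3, 0, 0, (nb8V o p r u v * u *
    ((nb8V o p r u v)⁻¹)).x5, o, (nb8V o p r u v * u * ((nb8V o p r u v)⁻¹)).z6, 0, 0, 0⟩ : V)) |||
    (nb8V o p r u v * v * ((nb8V o p r u v)⁻¹)).df ((⟨0, o, (nb8V o p r u v * v * ((nb8V o p r u
    v)⁻¹)).z2, (nb8V o p r u v * v * ((nb8V o p r u v)⁻¹)).x3, 0, 0, (nb8V o p r u v * v * ((nb8V o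
    p r u v)⁻¹)).x5, 0, (nb8V o p r u v * v * ((nb8V o p r u v)⁻¹)).z6, 0, 0, 0⟩ : V))

theorem nf2_chk : nf2C (ones 18) ⟨0, 0, 0, var 18 0, 0, var 18 1, var 18 2, 0, var 18 3, ones 18, 0, 0⟩ ⟨ones 18,
    0, var 18 4, var 18 5, 0, var 18 6, var 18 7, 0, 0, 0, 0, 0⟩ ⟨0, 0, var 18 8, var 18 9, 0, var
    18 10, var 18 11, ones 18, var 18 12, 0, 0, 0⟩ ⟨0, ones 18, var 18 13, var 18 14, 0, var 18 15,
    var 18 16, 0, var 18 17, 0, 0, 0⟩ ||| nf2H (ones 18) ⟨0, 0, 0, var 18 0, 0, var 18 1, var 18 2,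
    0, var 18 3, ones 18, 0, 0⟩ ⟨ones 18, 0, var 18 4, var 18 5, 0, var 18 6, var 18 7, 0, 0, 0, 0,
    0⟩ ⟨0, 0, var 18 8, var 18 9, 0, var 18 10, var 18 11, ones 18, var 18 12, 0, 0, 0⟩ ⟨0, ones 18,
    var 18 13, var 18 14, 0, var 18 15, var 18 16, 0, var 18 17, 0, 0, 0⟩ = nf2H (ones 18) ⟨0, 0, 0,
    var 18 0, 0, var 18 1, var 18 2, 0, var 18 3, ones 18, 0, 0⟩ ⟨ones 18, 0, var 18 4, var 18 5, 0,
    var 18 6, var 18 7, 0, 0, 0, 0, 0⟩ ⟨0, 0, var 18 8, var 18 9, 0, var 18 10, var 18 11, ones 18,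
    var 18 12, 0, 0, 0⟩ ⟨0, ones 18, var 18 13, var 18 14, 0, var 18 15, var 18 16, 0, var 18 17, 0,
    0, 0⟩ := by
  decide +kernel

theorem nf2 (hK : ∀ μ : K, μ = 0 ∨ μ = 1) {p r u v : P K} (ep : p = (⟨0, 0, 0, p.x3, 0, p.z4,
    p.x5, 0, p.z6, 1, 0, 0⟩ : P K)) (er : r = (⟨1, 0, r.z2, r.x3, 0, r.z4, r.x5, 0, 0, 0, 0, 0⟩ : P
    K)) (eu : u = (⟨0, 0, u.z2, u.x3, 0, u.z4, u.x5, 1, u.z6, 0, 0, 0⟩ : P K)) (ev : v = (⟨0, 1,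
    v.z2, v.x3, 0, v.z4, v.x5, 0, v.z6, 0, 0, 0⟩ : P K)) : (nb8K p r u v).y8 = 0 ∧ (nb8K p r u v).z8
    = 0 ∧ nb8K p r u v * p * ((nb8K p r u v)⁻¹) = (⟨0, 0, 0, 0, 0, 0, 0, 0, 0, 1, 0, 0⟩ : P K) ∧
    nb8K p r u v * r * ((nb8K p r u v)⁻¹) = (⟨1, 0, (nb8K p r u v * r * ((nb8K p r u v)⁻¹)).z2, 0,
    0, 0, 0, 0, 0, 0, 0, 0⟩ : P K) ∧ nb8K p r u v * u * ((nb8K p r u v)⁻¹) = (⟨0, 0, (nb8K p r u v *
    u * ((nb8K p r u v)⁻¹)).z2, (nb8K p r u v * u * ((nb8K p r u v)⁻¹)).x3, 0, 0, (nb8K p r u v * u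
    * ((nb8K p r u v)⁻¹)).x5, 1, (nb8K p r u v * u * ((nb8K p r u v)⁻¹)).z6, 0, 0, 0⟩ : P K) ∧ nb8K
    p r u v * v * ((nb8K p r u v)⁻¹) = (⟨0, 1, (nb8K p r u v * v * ((nb8K p r u v)⁻¹)).z2, (nb8K p r
    u v * v * ((nb8K p r u v)⁻¹)).x3, 0, 0, (nb8K p r u v * v * ((nb8K p r u v)⁻¹)).x5, 0, (nb8K p r
    u v * v * ((nb8K p r u v)⁻¹)).z6, 0, 0, 0⟩ : P K) := by
  obtain ⟨i, hi, hv⟩ := exists_bt hK 18 fun n =>
    ([p.x3, p.z4, p.x5, p.z6, r.z2, r.x3, r.z4, r.x5, u.z2, u.x3, u.z4, u.x5, u.z6, v.z2, v.x3,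
    v.z4, v.x5, v.z6] : List K).getD n 0
  have ho := bt_ones (K := K) hi
  have v0 : bt K i (var 18 0) = p.x3 := hv 0 (by decide)
  have v1 : bt K i (var 18 1) = p.z4 := hv 1 (by decide)
  have v2 : bt K i (var 18 2) = p.x5 := hv 2 (by decide)
  have v3 : bt K i (var 18 3) = p.z6 := hv 3 (by decide)
  have v4 : bt K i (var 18 4) = r.z2 := hv 4 (by decide)
  have v5 : bt K i (var 18 5) = r.x3 := hv 5 (by decide)
  have v6 : bt K i (var 18 6) = r.z4 := hv 6 (by decide)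
  have v7 : bt K i (var 18 7) = r.x5 := hv 7 (by decide)
  have v8 : bt K i (var 18 8) = u.z2 := hv 8 (by decide)
  have v9 : bt K i (var 18 9) = u.x3 := hv 9 (by decide)
  have v10 : bt K i (var 18 10) = u.z4 := hv 10 (by decide)
  have v11 : bt K i (var 18 11) = u.x5 := hv 11 (by decide)
  have v12 : bt K i (var 18 12) = u.z6 := hv 12 (by decide)
  have v13 : bt K i (var 18 13) = v.z2 := hv 13 (by decide)
  have v14 : bt K i (var 18 14) = v.x3 := hv 14 (by decide)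
  have v15 : bt K i (var 18 15) = v.z4 := hv 15 (by decide)
  have v16 : bt K i (var 18 16) = v.x5 := hv 16 (by decide)
  have v17 : bt K i (var 18 17) = v.z6 := hv 17 (by decide)
  have kp : (⟨0, 0, 0, p.x3, 0, p.z4, p.x5, 0, p.z6, 1, 0, 0⟩ : P K) = p := ep.symm
  have kr : (⟨1, 0, r.z2, r.x3, 0, r.z4, r.x5, 0, 0, 0, 0, 0⟩ : P K) = r := er.symm
  have ku : (⟨0, 0, u.z2, u.x3, 0, u.z4, u.x5, 1, u.z6, 0, 0, 0⟩ : P K) = u := eu.symm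
  have kv : (⟨0, 1, v.z2, v.x3, 0, v.z4, v.x5, 0, v.z6, 0, 0, 0⟩ : P K) = v := ev.symm
  have := imp (K := K) (i := i) nf2_chk (bt_zero i)
  simpa only [nf2C, bt_or_eq_zero, df_iff, and_assoc, ev_mul, ev_inv, ev_mk, bt_and, bt_xor, bt_zero, ho,
    bt_z2, bt_x3, bt_x5, bt_z6, bt_y8, bt_z8, v0, v1, v2, v3, v4, v5, v6, v7, v8, v9, v10, v11, v12,
    v13, v14, v15, v16, v17, kp, kr, ku, kv, ev_nb8 ho] using this

/-- Failure positions. -/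
def cl2H (o : ℕ) (p : V) (r : V) (u : V) (v : V) (d : V) : ℕ :=
  ((T2V o p r u v d).y2 * ((T2V o p r u v d).x1)).df ((T2V o p r u v d).x1 * ((T2V o p r u v
    d).y2)) ||| ((T2V o p r u v d).y4 * ((T2V o p r u v d).x1)).df ((T2V o p r u v d).x1 * ((T2V o p
    r u v d).z2) * ((T2V o p r u v d).y4)) ||| ((T2V o p r u v d).y6 * ((T2V o p r u v d).x1)).df
    ((T2V o p r u v d).x1 * ((T2V o p r u v d).z2) * ((T2V o p r u v d).x3) * ((T2V o p r u v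
    d).y6)) ||| ((T2V o p r u v d).y6 * ((T2V o p r u v d).y2)).df ((T2V o p r u v d).y2 * ((T2V o p
    r u v d).y6)) ||| ((T2V o p r u v d).x7 * ((T2V o p r u v d).x1)).df ((T2V o p r u v d).x1 *
    ((T2V o p r u v d).x3) * ((T2V o p r u v d).x5) * ((T2V o p r u v d).x7)) ||| ((T2V o p r u v
    d).x7 * ((T2V o p r u v d).y2)).df ((T2V o p r u v d).y2 * ((T2V o p r u v d).z4) * ((T2V o p r
    u v d).x5) * ((T2V o p r u v d).z6) * ((T2V o p r u v d).x7)) ||| ((T2V o p r u v d).x7 * ((T2V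
    o p r u v d).y4)).df ((T2V o p r u v d).y4 * ((T2V o p r u v d).z6) * ((T2V o p r u v d).x7))
    ||| ((T2V o p r u v d).x7 * ((T2V o p r u v d).y6)).df ((T2V o p r u v d).y6 * ((T2V o p r u v
    d).x7))

/-- Failure positions. -/
def cl2C (o : ℕ) (p : V) (r : V) (u : V) (v : V) (d : V) : ℕ :=
  (r).df ((⟨o, 0, r.z2, 0, 0, 0, 0, 0, 0, 0, 0, 0⟩ : V)) ||| (u).df ((⟨0, 0, 0, u.x3, 0, 0, u.x5,
    o, u.z6, 0, 0, 0⟩ : V)) ||| (v).df ((⟨0, o, v.z2, u.x5, 0, 0, r.z2 ^^^ u.x3 ^^^ u.z6 ^^^ v.z2,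
    0, 0, 0, 0, 0⟩ : V)) ||| (d).df ((⟨0, 0, u.x3, u.x3 ^^^ v.z2, o, d.z4, r.z2 ^^^ u.x3 ^^^ v.z2,
    0, r.z2 ^^^ u.x3 ^^^ u.z6 ^^^ v.z2, 0, 0, 0⟩ : V))

theorem cl2_chk : cl2C (ones 14) ⟨0, 0, 0, 0, 0, 0, 0, 0, 0, ones 14, 0, 0⟩ ⟨ones 14, 0, var 14 0, 0, 0, 0, 0, 0,
    0, 0, 0, 0⟩ ⟨0, 0, var 14 1, var 14 2, 0, 0, var 14 3, ones 14, var 14 4, 0, 0, 0⟩ ⟨0, ones 14,
    var 14 5, var 14 6, 0, 0, var 14 7, 0, var 14 8, 0, 0, 0⟩ ⟨0, 0, var 14 9, var 14 10, ones 14,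
    var 14 11, var 14 12, 0, var 14 13, 0, 0, 0⟩ ||| cl2H (ones 14) ⟨0, 0, 0, 0, 0, 0, 0, 0, 0, ones
    14, 0, 0⟩ ⟨ones 14, 0, var 14 0, 0, 0, 0, 0, 0, 0, 0, 0, 0⟩ ⟨0, 0, var 14 1, var 14 2, 0, 0, var
    14 3, ones 14, var 14 4, 0, 0, 0⟩ ⟨0, ones 14, var 14 5, var 14 6, 0, 0, var 14 7, 0, var 14 8,
    0, 0, 0⟩ ⟨0, 0, var 14 9, var 14 10, ones 14, var 14 11, var 14 12, 0, var 14 13, 0, 0, 0⟩ =
    cl2H (ones 14) ⟨0, 0, 0, 0, 0, 0, 0, 0, 0, ones 14, 0, 0⟩ ⟨ones 14, 0, var 14 0, 0, 0, 0, 0, 0,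
    0, 0, 0, 0⟩ ⟨0, 0, var 14 1, var 14 2, 0, 0, var 14 3, ones 14, var 14 4, 0, 0, 0⟩ ⟨0, ones 14,
    var 14 5, var 14 6, 0, 0, var 14 7, 0, var 14 8, 0, 0, 0⟩ ⟨0, 0, var 14 9, var 14 10, ones 14,
    var 14 11, var 14 12, 0, var 14 13, 0, 0, 0⟩ := by
  decide +kernel

theorem cl2 (hK : ∀ μ : K, μ = 0 ∨ μ = 1) {p r u v d : P K} (ep : p = (⟨0, 0, 0, 0, 0, 0, 0, 0,
    0, 1, 0, 0⟩ : P K)) (er : r = (⟨1, 0, r.z2, 0, 0, 0, 0, 0, 0, 0, 0, 0⟩ : P K)) (eu : u = (⟨0, 0,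
    u.z2, u.x3, 0, 0, u.x5, 1, u.z6, 0, 0, 0⟩ : P K)) (ev : v = (⟨0, 1, v.z2, v.x3, 0, 0, v.x5, 0,
    v.z6, 0, 0, 0⟩ : P K)) (ed : d = (⟨0, 0, d.z2, d.x3, 1, d.z4, d.x5, 0, d.z6, 0, 0, 0⟩ : P K))
    (h0 : (T2K p r u v d).y2 * ((T2K p r u v d).x1) = (T2K p r u v d).x1 * ((T2K p r u v d).y2)) (h1
    : (T2K p r u v d).y4 * ((T2K p r u v d).x1) = (T2K p r u v d).x1 * ((T2K p r u v d).z2) * ((T2K
    p r u v d).y4)) (h2 : (T2K p r u v d).y6 * ((T2K p r u v d).x1) = (T2K p r u v d).x1 * ((T2K p r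
    u v d).z2) * ((T2K p r u v d).x3) * ((T2K p r u v d).y6)) (h3 : (T2K p r u v d).y6 * ((T2K p r u
    v d).y2) = (T2K p r u v d).y2 * ((T2K p r u v d).y6)) (h4 : (T2K p r u v d).x7 * ((T2K p r u v
    d).x1) = (T2K p r u v d).x1 * ((T2K p r u v d).x3) * ((T2K p r u v d).x5) * ((T2K p r u v
    d).x7)) (h5 : (T2K p r u v d).x7 * ((T2K p r u v d).y2) = (T2K p r u v d).y2 * ((T2K p r u v
    d).z4) * ((T2K p r u v d).x5) * ((T2K p r u v d).z6) * ((T2K p r u v d).x7)) (h6 : (T2K p r u v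
    d).x7 * ((T2K p r u v d).y4) = (T2K p r u v d).y4 * ((T2K p r u v d).z6) * ((T2K p r u v d).x7))
    (h7 : (T2K p r u v d).x7 * ((T2K p r u v d).y6) = (T2K p r u v d).y6 * ((T2K p r u v d).x7)) : r
    = (⟨1, 0, r.z2, 0, 0, 0, 0, 0, 0, 0, 0, 0⟩ : P K) ∧ u = (⟨0, 0, 0, u.x3, 0, 0, u.x5, 1, u.z6, 0,
    0, 0⟩ : P K) ∧ v = (⟨0, 1, v.z2, u.x5, 0, 0, r.z2 + u.x3 + u.z6 + v.z2, 0, 0, 0, 0, 0⟩ : P K) ∧
    d = (⟨0, 0, u.x3, u.x3 + v.z2, 1, d.z4, r.z2 + u.x3 + v.z2, 0, r.z2 + u.x3 + u.z6 + v.z2, 0, 0,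
    0⟩ : P K) := by
  obtain ⟨i, hi, hv⟩ := exists_bt hK 14 fun n =>
    ([r.z2, u.z2, u.x3, u.x5, u.z6, v.z2, v.x3, v.x5, v.z6, d.z2, d.x3, d.z4, d.x5, d.z6] : List
    K).getD n 0
  have ho := bt_ones (K := K) hi
  have v0 : bt K i (var 14 0) = r.z2 := hv 0 (by decide)
  have v1 : bt K i (var 14 1) = u.z2 := hv 1 (by decide)
  have v2 : bt K i (var 14 2) = u.x3 := hv 2 (by decide)
  have v3 : bt K i (var 14 3) = u.x5 := hv 3 (by decide)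
  have v4 : bt K i (var 14 4) = u.z6 := hv 4 (by decide)
  have v5 : bt K i (var 14 5) = v.z2 := hv 5 (by decide)
  have v6 : bt K i (var 14 6) = v.x3 := hv 6 (by decide)
  have v7 : bt K i (var 14 7) = v.x5 := hv 7 (by decide)
  have v8 : bt K i (var 14 8) = v.z6 := hv 8 (by decide)
  have v9 : bt K i (var 14 9) = d.z2 := hv 9 (by decide)
  have v10 : bt K i (var 14 10) = d.x3 := hv 10 (by decide)
  have v11 : bt K i (var 14 11) = d.z4 := hv 11 (by decide)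
  have v12 : bt K i (var 14 12) = d.x5 := hv 12 (by decide)
  have v13 : bt K i (var 14 13) = d.z6 := hv 13 (by decide)
  have kp : (⟨0, 0, 0, 0, 0, 0, 0, 0, 0, 1, 0, 0⟩ : P K) = p := ep.symm
  have kr : (⟨1, 0, r.z2, 0, 0, 0, 0, 0, 0, 0, 0, 0⟩ : P K) = r := er.symm
  have ku : (⟨0, 0, u.z2, u.x3, 0, 0, u.x5, 1, u.z6, 0, 0, 0⟩ : P K) = u := eu.symm
  have kv : (⟨0, 1, v.z2, v.x3, 0, 0, v.x5, 0, v.z6, 0, 0, 0⟩ : P K) = v := ev.symm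
  have kd : (⟨0, 0, d.z2, d.x3, 1, d.z4, d.x5, 0, d.z6, 0, 0, 0⟩ : P K) = d := ed.symm
  have := imp (K := K) (i := i) cl2_chk (by
    simp only [cl2H, bt_or_eq_zero, df_iff, and_assoc, ev_mul, ev_inv, ev_mk, bt_and, bt_xor, bt_zero, ho,
      bt_x1, bt_y2, bt_z2, bt_x3, bt_y4, bt_z4, bt_x5, bt_y6, bt_z6, bt_x7, tb_x1, tb_y2, tb_z2,
      tb_x3, tb_y4, tb_z4, tb_x5, tb_y6, tb_z6, tb_x7, v0, v1, v2, v3, v4, v5, v6, v7, v8, v9, v10,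
      v11, v12, v13, kp, kr, ku, kv, kd, ev_T2 ho]
    exact ⟨h0, h1, h2, h3, h4, h5, h6, h7⟩)
  simpa only [cl2C, bt_or_eq_zero, df_iff, and_assoc, ev_mul, ev_inv, ev_mk, bt_and, bt_xor, bt_zero, ho,
    bt_x1, bt_y2, bt_z2, bt_x3, bt_y4, bt_z4, bt_x5, bt_y6, bt_z6, bt_x7, tb_x1, tb_y2, tb_z2,
    tb_x3, tb_y4, tb_z4, tb_x5, tb_y6, tb_z6, tb_x7, v0, v1, v2, v3, v4, v5, v6, v7, v8, v9, v10,
    v11, v12, v13, kp, kr, ku, kv, kd, ev_T2 ho] using this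

section Cls

variable (hK : ∀ μ : K, μ = 0 ∨ μ = 1) {w : P K → P K} (hw : HomOn (Q2 K) w)
  (hm : ∀ x ∈ Q2 K, w x ∈ Q2 K) (h4 : w (rz4 1) = rz4 1)
include hK hw hm h4

omit hK hw h4 in
theorem sh2 {x y : P K} (h : Gd (Q2 K) w x y) :
    y = ⟨y.x1, y.y2, y.z2, y.x3, y.y4, y.z4, y.x5, y.y6, y.z6, y.x7, 0, 0⟩ :=
  P.ext rfl rfl rfl rfl rfl rfl rfl rfl rfl rfl (h.2 ▸ (hm _ h.1).1) (h.2 ▸ (hm _ h.1).2)

theorem cls2₀ {p r u v : P K} (hp : w (rx1 1) = p) (hr : w (rx7 1) = r) (hu : w (ry2 1) = u)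
    (hv : w (ry6 1) = v) (ep : p = ⟨0, 0, 0, 0, 0, 0, 0, 0, 0, 1, 0, 0⟩)
    (er : r = ⟨1, 0, r.z2, 0, 0, 0, 0, 0, 0, 0, 0, 0⟩)
    (eu : u = ⟨0, 0, u.z2, u.x3, 0, 0, u.x5, 1, u.z6, 0, 0, 0⟩)
    (ev : v = ⟨0, 1, v.z2, v.x3, 0, 0, v.x5, 0, v.z6, 0, 0, 0⟩) :
    ∃ j0 j1 j2 j3 j4 j5, ∀ x ∈ Q2 K, w x = apK (W2K j0 j1 j2 j3 j4 j5) x := by
  obtain ⟨d, hd⟩ : ∃ d, w (ry4 1) = d := ⟨_, rfl⟩
  obtain ⟨i₁, i₂, i₃, i₄, -, -, -, -, -, -, -, -, k₁, k₂, k₃, r₁, r₂, r₃, r₄, r₅, r₆, r₇, r₈⟩ :=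
    id2 hK
  have x1 : Gd (Q2 K) w (rx1 1) (T2K p r u v d).x1 := ⟨⟨rfl, rfl⟩, hp⟩
  have x7 : Gd (Q2 K) w (rx7 1) (T2K p r u v d).x7 := ⟨⟨rfl, rfl⟩, hr⟩
  have y2 : Gd (Q2 K) w (ry2 1) (T2K p r u v d).y2 := ⟨⟨rfl, rfl⟩, hu⟩
  have y6 : Gd (Q2 K) w (ry6 1) (T2K p r u v d).y6 := ⟨⟨rfl, rfl⟩, hv⟩
  have y4 : Gd (Q2 K) w (ry4 1) (T2K p r u v d).y4 := ⟨⟨rfl, rfl⟩, hd⟩
  have z4 : Gd (Q2 K) w (rz4 1) (T2K p r u v d).z4 := ⟨⟨rfl, rfl⟩, h4⟩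
  have z2 : Gd (Q2 K) w (rz2 1) (T2K p r u v d).z2 := (y2.mul hw y2).of i₁
  have z6 : Gd (Q2 K) w (rz6 1) (T2K p r u v d).z6 := (y6.mul hw y6).of i₂
  have x3 : Gd (Q2 K) w (rx3 1) (T2K p r u v d).x3 := (y2.cm hw y4).of i₃
  have x5 : Gd (Q2 K) w (rx5 1) (T2K p r u v d).x5 := (y4.cm hw y6).of i₄
  have ed := shE (g := d) hK (sh2 hm y4) eu ev ((y4.mul hw y4).eq z4 k₁)
    ((y4.mul hw z2).eq (z2.mul hw y4) k₂) ((y4.mul hw z6).eq (z6.mul hw y4) k₃)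
  obtain ⟨e₁, e₂, e₃, e₄⟩ := cl2 hK ep er eu ev ed
    ((y2.mul hw x1).eq (x1.mul hw y2) r₁)
    ((y4.mul hw x1).eq ((x1.mul hw z2).mul hw y4) r₂)
    ((y6.mul hw x1).eq (((x1.mul hw z2).mul hw x3).mul hw y6) r₃)
    ((y6.mul hw y2).eq (y2.mul hw y6) r₄)
    ((x7.mul hw x1).eq (((x1.mul hw x3).mul hw x5).mul hw x7) r₅)
    ((x7.mul hw y2).eq ((((y2.mul hw z4).mul hw x5).mul hw z6).mul hw x7) r₆)
    ((x7.mul hw y4).eq ((y4.mul hw z6).mul hw x7) r₇)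
    ((x7.mul hw y6).eq (y6.mul hw x7) r₈)
  refine ⟨r.z2, u.x3, u.x5, u.z6, v.z2, d.z4, fun x hx => ?_⟩
  rw [W2K, ← e₁, ← e₂, ← e₃, ← e₄, ← ep]
  exact hom_ap hK hw (.inr x1) (.inr y2) (.inr z2) (.inr x3) (.inr y4) (.inr z4) (.inr x5) (.inr y6)
    (.inr z6) (.inr x7) (.inl hx.1) (.inl hx.2)

/-- Automorphisms of `Q₂` interchanging `z₂` and `z₆` modulo `z₄`, up to inner automorphisms. -/
theorem cls2 {e f : P K} (he : w (rz6 1) = e) (hf : w (rz2 1) = f)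
    (ee : e = ⟨0, 0, 1, 0, 0, e.z4, 0, 0, 0, 0, 0, 0⟩)
    (ef : f = ⟨0, 0, 0, 0, 0, f.z4, 0, 0, 1, 0, 0, 0⟩) :
    ∃ h ∈ Q2 K, ∃ j0 j1 j2 j3 j4 j5, ∀ x ∈ Q2 K,
      h * w x * h⁻¹ = apK (W2K j0 j1 j2 j3 j4 j5) x := by
  obtain ⟨i₁, i₂, -, -, a₁, a₂, a₃, b₁, b₂, b₃, c₁, c₂, -⟩ := id2 hK
  have x1 : Gd (Q2 K) w (rx1 1) _ := ⟨⟨rfl, rfl⟩, rfl⟩
  have x7 : Gd (Q2 K) w (rx7 1) _ := ⟨⟨rfl, rfl⟩, rfl⟩
  have y2 : Gd (Q2 K) w (ry2 1) _ := ⟨⟨rfl, rfl⟩, rfl⟩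
  have y6 : Gd (Q2 K) w (ry6 1) _ := ⟨⟨rfl, rfl⟩, rfl⟩
  have z4 : Gd (Q2 K) w (rz4 1) _ := ⟨⟨rfl, rfl⟩, h4⟩
  have z2 : Gd (Q2 K) w (rz2 1) f := ⟨⟨rfl, rfl⟩, hf⟩
  have z6 : Gd (Q2 K) w (rz6 1) e := ⟨⟨rfl, rfl⟩, he⟩
  have o : Gd (Q2 K) w 1 1 := ⟨one_mem _, hw.map_one⟩
  obtain ⟨h₁, h₂, ep, er, eu, ev⟩ := nf2 hK
    (shP hK (sh2 hm x1) ee ef ((x1.mul hw x1).eq o a₁) ((x1.mul hw z2).eq (z2.mul hw x1) a₂)
      ((x1.cm hw z6).eq z4 a₃))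
    (shR hK (sh2 hm x7) ee ef ((x7.mul hw x7).eq o b₁) ((x7.mul hw z6).eq (z6.mul hw x7) b₂)
      ((x7.cm hw z2).eq z4 b₃))
    (shU hK (sh2 hm y2) ee ef ((y2.mul hw y2).eq z2 i₁) ((y2.mul hw z6).eq (z6.mul hw y2) c₁))
    (shV hK (sh2 hm y6) ee ef ((y6.mul hw y6).eq z6 i₂) ((y6.mul hw z2).eq (z2.mul hw y6) c₂))
  generalize nb8K (w (rx1 1)) (w (rx7 1)) (w (ry2 1)) (w (ry6 1)) = h at h₁ h₂ ep er eu ev
  have hh : h ∈ Q2 K := ⟨h₁, h₂⟩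
  refine ⟨h, hh, cls2₀ (w := fun x => h * w x * h⁻¹) hK
    (fun x hx y hy => by simp only [hw x hx y hy]; group)
    (fun x hx => mul_mem (mul_mem hh (hm x hx)) (inv_mem hh)) ?_ rfl rfl rfl rfl ep er eu ev⟩
  rw [h4, ← comm_Z (rz4_mem _), mul_inv_cancel_right]

end Cls

end Cfsg.Agent.F4.Bit
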