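import Cfsg.Agent.Lib.F4.Two2

/-!
Order conditions for the Weyl element of `Q₂` when `q = 2` (row TWO).
-/

set_option autoImplicit false
set_option linter.unusedSectionVars false
set_option linter.unusedVariables false
set_option linter.unusedSimpArgs false
set_option maxRecDepth 100000

namespace Cfsg.Agent.F4.Bit

open Cfsg.Agent.Fus Cfsg.Agent.Fus2 Subgroup

variable {K : Type} [Field K] [Rf K]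

/-- The Weyl element composed with a conjugation. -/
noncomputable def stK (j0 : K) (j1 : K) (j2 : K) (j3 : K) (j4 : K) (j5 : K) (c : P K) (x : P K) : P K :=
  apK (W2K j0 j1 j2 j3 j4 j5) (c * x * c⁻¹)

/-- The Weyl element composed with a conjugation. -/
def stV (o : ℕ) (j0 : ℕ) (j1 : ℕ) (j2 : ℕ) (j3 : ℕ) (j4 : ℕ) (j5 : ℕ) (c : V) (x : V) : V :=
  apV (W2V o j0 j1 j2 j3 j4 j5) (c * x * c⁻¹)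

theorem ev_st {i o : ℕ} (ho : bt K i o = 1) (j0 : ℕ) (j1 : ℕ) (j2 : ℕ) (j3 : ℕ) (j4 : ℕ) (j5 : ℕ) (c : V) (x : V) :
    ev K i (stV o j0 j1 j2 j3 j4 j5 c x) = stK (bt K i j0) (bt K i j1) (bt K i j2) (bt K i j3) (bt K i j4) (bt K i j5) (ev K i c) (ev K i x) := by
  simp only [stV, stK, ev_mul, ev_inv, ev_mk, bt_and, bt_xor, bt_zero, ho, ev_ap, ev_W2 ho, ev_ap]

/-- Failure positions. -/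
def sq2fH (o : ℕ) (j0 : ℕ) (j1 : ℕ) (j2 : ℕ) (j3 : ℕ) (j4 : ℕ) (j5 : ℕ) : ℕ :=
  0

/-- Failure positions. -/
def sq2fC (o : ℕ) (j0 : ℕ) (j1 : ℕ) (j2 : ℕ) (j3 : ℕ) (j4 : ℕ) (j5 : ℕ) : ℕ :=
  (apV (W2V o j0 j1 j2 j3 j4 j5) (apV (W2V o j0 j1 j2 j3 j4 j5) (vz4 o))).df (vz4 o) ||| ((apV
    (W2V o j0 j1 j2 j3 j4 j5) (apV (W2V o j0 j1 j2 j3 j4 j5) (vz6 o))).x1) ||| ((apV (W2V o j0 j1 j2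
    j3 j4 j5) (apV (W2V o j0 j1 j2 j3 j4 j5) (vz6 o))).y8) ||| ((apV (W2V o j0 j1 j2 j3 j4 j5) (apV
    (W2V o j0 j1 j2 j3 j4 j5) (vz6 o))).y2) ||| ((apV (W2V o j0 j1 j2 j3 j4 j5) (apV (W2V o j0 j1 j2
    j3 j4 j5) (vz6 o))).z8) ||| ((apV (W2V o j0 j1 j2 j3 j4 j5) (apV (W2V o j0 j1 j2 j3 j4 j5) (vz6
    o))).y6) ||| ((apV (W2V o j0 j1 j2 j3 j4 j5) (apV (W2V o j0 j1 j2 j3 j4 j5) (vz6 o))).y4) |||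
    ((apV (W2V o j0 j1 j2 j3 j4 j5) (apV (W2V o j0 j1 j2 j3 j4 j5) (vz6 o))).z2) ||| ((apV (W2V o j0
    j1 j2 j3 j4 j5) (apV (W2V o j0 j1 j2 j3 j4 j5) (vz6 o))).x7) ||| ((apV (W2V o j0 j1 j2 j3 j4 j5)
    (apV (W2V o j0 j1 j2 j3 j4 j5) (vz6 o))).x3) ||| ((apV (W2V o j0 j1 j2 j3 j4 j5) (apV (W2V o j0
    j1 j2 j3 j4 j5) (vz6 o))).x5) ||| (((vz2 o)⁻¹ * (apV (W2V o j0 j1 j2 j3 j4 j5) (apV (W2V o j0 j1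
    j2 j3 j4 j5) (vz2 o)))).x1) ||| (((vz2 o)⁻¹ * (apV (W2V o j0 j1 j2 j3 j4 j5) (apV (W2V o j0 j1
    j2 j3 j4 j5) (vz2 o)))).y8) ||| (((vz2 o)⁻¹ * (apV (W2V o j0 j1 j2 j3 j4 j5) (apV (W2V o j0 j1
    j2 j3 j4 j5) (vz2 o)))).y2) ||| (((vz2 o)⁻¹ * (apV (W2V o j0 j1 j2 j3 j4 j5) (apV (W2V o j0 j1
    j2 j3 j4 j5) (vz2 o)))).z8) ||| (((vz2 o)⁻¹ * (apV (W2V o j0 j1 j2 j3 j4 j5) (apV (W2V o j0 j1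
    j2 j3 j4 j5) (vz2 o)))).y6) ||| (((vz2 o)⁻¹ * (apV (W2V o j0 j1 j2 j3 j4 j5) (apV (W2V o j0 j1
    j2 j3 j4 j5) (vz2 o)))).y4) ||| (((vz2 o)⁻¹ * (apV (W2V o j0 j1 j2 j3 j4 j5) (apV (W2V o j0 j1
    j2 j3 j4 j5) (vz2 o)))).z2) ||| (((vz2 o)⁻¹ * (apV (W2V o j0 j1 j2 j3 j4 j5) (apV (W2V o j0 j1
    j2 j3 j4 j5) (vz2 o)))).x7) ||| (((vz2 o)⁻¹ * (apV (W2V o j0 j1 j2 j3 j4 j5) (apV (W2V o j0 j1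
    j2 j3 j4 j5) (vz2 o)))).x3) ||| (((vz2 o)⁻¹ * (apV (W2V o j0 j1 j2 j3 j4 j5) (apV (W2V o j0 j1
    j2 j3 j4 j5) (vz2 o)))).x5)

theorem sq2f_chk : sq2fC (ones 6) (var 6 0) (var 6 1) (var 6 2) (var 6 3) (var 6 4) (var 6 5) ||| sq2fH (ones 6)
    (var 6 0) (var 6 1) (var 6 2) (var 6 3) (var 6 4) (var 6 5) = sq2fH (ones 6) (var 6 0) (var 6 1)
    (var 6 2) (var 6 3) (var 6 4) (var 6 5) := by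
  decide +kernel

theorem sq2f (hK : ∀ μ : K, μ = 0 ∨ μ = 1) {j0 j1 j2 j3 j4 j5 : K} : apK (W2K j0 j1 j2 j3 j4 j5)
    (apK (W2K j0 j1 j2 j3 j4 j5) (rz4 (1 : K))) = rz4 (1 : K) ∧ (apK (W2K j0 j1 j2 j3 j4 j5) (apK
    (W2K j0 j1 j2 j3 j4 j5) (rz6 (1 : K)))).x1 = 0 ∧ (apK (W2K j0 j1 j2 j3 j4 j5) (apK (W2K j0 j1 j2
    j3 j4 j5) (rz6 (1 : K)))).y8 = 0 ∧ (apK (W2K j0 j1 j2 j3 j4 j5) (apK (W2K j0 j1 j2 j3 j4 j5)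
    (rz6 (1 : K)))).y2 = 0 ∧ (apK (W2K j0 j1 j2 j3 j4 j5) (apK (W2K j0 j1 j2 j3 j4 j5) (rz6 (1 :
    K)))).z8 = 0 ∧ (apK (W2K j0 j1 j2 j3 j4 j5) (apK (W2K j0 j1 j2 j3 j4 j5) (rz6 (1 : K)))).y6 = 0
    ∧ (apK (W2K j0 j1 j2 j3 j4 j5) (apK (W2K j0 j1 j2 j3 j4 j5) (rz6 (1 : K)))).y4 = 0 ∧ (apK (W2K
    j0 j1 j2 j3 j4 j5) (apK (W2K j0 j1 j2 j3 j4 j5) (rz6 (1 : K)))).z2 = 0 ∧ (apK (W2K j0 j1 j2 j3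
    j4 j5) (apK (W2K j0 j1 j2 j3 j4 j5) (rz6 (1 : K)))).x7 = 0 ∧ (apK (W2K j0 j1 j2 j3 j4 j5) (apK
    (W2K j0 j1 j2 j3 j4 j5) (rz6 (1 : K)))).x3 = 0 ∧ (apK (W2K j0 j1 j2 j3 j4 j5) (apK (W2K j0 j1 j2
    j3 j4 j5) (rz6 (1 : K)))).x5 = 0 ∧ ((rz2 (1 : K))⁻¹ * (apK (W2K j0 j1 j2 j3 j4 j5) (apK (W2K j0
    j1 j2 j3 j4 j5) (rz2 (1 : K))))).x1 = 0 ∧ ((rz2 (1 : K))⁻¹ * (apK (W2K j0 j1 j2 j3 j4 j5) (apK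
    (W2K j0 j1 j2 j3 j4 j5) (rz2 (1 : K))))).y8 = 0 ∧ ((rz2 (1 : K))⁻¹ * (apK (W2K j0 j1 j2 j3 j4
    j5) (apK (W2K j0 j1 j2 j3 j4 j5) (rz2 (1 : K))))).y2 = 0 ∧ ((rz2 (1 : K))⁻¹ * (apK (W2K j0 j1 j2
    j3 j4 j5) (apK (W2K j0 j1 j2 j3 j4 j5) (rz2 (1 : K))))).z8 = 0 ∧ ((rz2 (1 : K))⁻¹ * (apK (W2K j0
    j1 j2 j3 j4 j5) (apK (W2K j0 j1 j2 j3 j4 j5) (rz2 (1 : K))))).y6 = 0 ∧ ((rz2 (1 : K))⁻¹ * (apK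
    (W2K j0 j1 j2 j3 j4 j5) (apK (W2K j0 j1 j2 j3 j4 j5) (rz2 (1 : K))))).y4 = 0 ∧ ((rz2 (1 : K))⁻¹
    * (apK (W2K j0 j1 j2 j3 j4 j5) (apK (W2K j0 j1 j2 j3 j4 j5) (rz2 (1 : K))))).z2 = 0 ∧ ((rz2 (1 :
    K))⁻¹ * (apK (W2K j0 j1 j2 j3 j4 j5) (apK (W2K j0 j1 j2 j3 j4 j5) (rz2 (1 : K))))).x7 = 0 ∧
    ((rz2 (1 : K))⁻¹ * (apK (W2K j0 j1 j2 j3 j4 j5) (apK (W2K j0 j1 j2 j3 j4 j5) (rz2 (1 : K))))).x3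
    = 0 ∧ ((rz2 (1 : K))⁻¹ * (apK (W2K j0 j1 j2 j3 j4 j5) (apK (W2K j0 j1 j2 j3 j4 j5) (rz2 (1 :
    K))))).x5 = 0 := by
  obtain ⟨i, hi, hv⟩ := exists_bt hK 6 fun n =>
    ([j0, j1, j2, j3, j4, j5] : List K).getD n 0
  have ho := bt_ones (K := K) hi
  have v0 : bt K i (var 6 0) = j0 := hv 0 (by decide)
  have v1 : bt K i (var 6 1) = j1 := hv 1 (by decide)
  have v2 : bt K i (var 6 2) = j2 := hv 2 (by decide)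
  have v3 : bt K i (var 6 3) = j3 := hv 3 (by decide)
  have v4 : bt K i (var 6 4) = j4 := hv 4 (by decide)
  have v5 : bt K i (var 6 5) = j5 := hv 5 (by decide)
  have := imp (K := K) (i := i) sq2f_chk (bt_zero i)
  simpa only [sq2fC, bt_or_eq_zero, df_iff, and_assoc, ev_mul, ev_inv, ev_mk, bt_and, bt_xor, bt_zero, ho,
    ev_ap, ev_vz2 ho, ev_vz4 ho, ev_vz6 ho, bt_x1, bt_y2, bt_z2, bt_x3, bt_y4, bt_x5, bt_y6, bt_x7,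
    bt_y8, bt_z8, v0, v1, v2, v3, v4, v5, ev_W2 ho, ev_st ho] using this

/-- Failure positions. -/
def sq2H (o : ℕ) (g : V) (j0 : ℕ) (j1 : ℕ) (j2 : ℕ) (j3 : ℕ) (j4 : ℕ) (j5 : ℕ) : ℕ :=
  (apV (W2V o j0 j1 j2 j3 j4 j5) (apV (W2V o j0 j1 j2 j3 j4 j5) (vx1 o))).df (g * (vx1 o) * g⁻¹)
    ||| (apV (W2V o j0 j1 j2 j3 j4 j5) (apV (W2V o j0 j1 j2 j3 j4 j5) (vx7 o))).df (g * (vx7 o) *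
    g⁻¹) ||| (apV (W2V o j0 j1 j2 j3 j4 j5) (apV (W2V o j0 j1 j2 j3 j4 j5) (vy2 o))).df (g * (vy2 o)
    * g⁻¹) ||| (apV (W2V o j0 j1 j2 j3 j4 j5) (apV (W2V o j0 j1 j2 j3 j4 j5) (vy6 o))).df (g * (vy6
    o) * g⁻¹) ||| (apV (W2V o j0 j1 j2 j3 j4 j5) (apV (W2V o j0 j1 j2 j3 j4 j5) (vy4 o))).df (g *
    (vy4 o) * g⁻¹)

/-- Failure positions. -/
def sq2C (o : ℕ) (g : V) (j0 : ℕ) (j1 : ℕ) (j2 : ℕ) (j3 : ℕ) (j4 : ℕ) (j5 : ℕ) : ℕ :=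
  j0 ||| (j3 ^^^ j4)

theorem sq2_chk : sq2C (ones 16) ⟨var 16 0, var 16 1, var 16 2, var 16 3, var 16 4, var 16 5, var 16 6, var 16 7,
    var 16 8, var 16 9, 0, 0⟩ (var 16 10) (var 16 11) (var 16 12) (var 16 13) (var 16 14) (var 16
    15) ||| sq2H (ones 16) ⟨var 16 0, var 16 1, var 16 2, var 16 3, var 16 4, var 16 5, var 16 6,
    var 16 7, var 16 8, var 16 9, 0, 0⟩ (var 16 10) (var 16 11) (var 16 12) (var 16 13) (var 16 14)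
    (var 16 15) = sq2H (ones 16) ⟨var 16 0, var 16 1, var 16 2, var 16 3, var 16 4, var 16 5, var 16
    6, var 16 7, var 16 8, var 16 9, 0, 0⟩ (var 16 10) (var 16 11) (var 16 12) (var 16 13) (var 16
    14) (var 16 15) := by
  decide +kernel

theorem sq2 (hK : ∀ μ : K, μ = 0 ∨ μ = 1) {g : P K} {j0 j1 j2 j3 j4 j5 : K} (eg : g = (⟨g.x1,
    g.y2, g.z2, g.x3, g.y4, g.z4, g.x5, g.y6, g.z6, g.x7, 0, 0⟩ : P K)) (h0 : apK (W2K j0 j1 j2 j3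
    j4 j5) (apK (W2K j0 j1 j2 j3 j4 j5) (rx1 (1 : K))) = g * (rx1 (1 : K)) * g⁻¹) (h1 : apK (W2K j0
    j1 j2 j3 j4 j5) (apK (W2K j0 j1 j2 j3 j4 j5) (rx7 (1 : K))) = g * (rx7 (1 : K)) * g⁻¹) (h2 : apK
    (W2K j0 j1 j2 j3 j4 j5) (apK (W2K j0 j1 j2 j3 j4 j5) (ry2 (1 : K))) = g * (ry2 (1 : K)) * g⁻¹)
    (h3 : apK (W2K j0 j1 j2 j3 j4 j5) (apK (W2K j0 j1 j2 j3 j4 j5) (ry6 (1 : K))) = g * (ry6 (1 :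
    K)) * g⁻¹) (h4 : apK (W2K j0 j1 j2 j3 j4 j5) (apK (W2K j0 j1 j2 j3 j4 j5) (ry4 (1 : K))) = g *
    (ry4 (1 : K)) * g⁻¹) : j0 = 0 ∧ j3 + j4 = 0 := by
  obtain ⟨i, hi, hv⟩ := exists_bt hK 16 fun n =>
    ([g.x1, g.y2, g.z2, g.x3, g.y4, g.z4, g.x5, g.y6, g.z6, g.x7, j0, j1, j2, j3, j4, j5] : List
    K).getD n 0
  have ho := bt_ones (K := K) hi
  have v0 : bt K i (var 16 0) = g.x1 := hv 0 (by decide)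
  have v1 : bt K i (var 16 1) = g.y2 := hv 1 (by decide)
  have v2 : bt K i (var 16 2) = g.z2 := hv 2 (by decide)
  have v3 : bt K i (var 16 3) = g.x3 := hv 3 (by decide)
  have v4 : bt K i (var 16 4) = g.y4 := hv 4 (by decide)
  have v5 : bt K i (var 16 5) = g.z4 := hv 5 (by decide)
  have v6 : bt K i (var 16 6) = g.x5 := hv 6 (by decide)
  have v7 : bt K i (var 16 7) = g.y6 := hv 7 (by decide)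
  have v8 : bt K i (var 16 8) = g.z6 := hv 8 (by decide)
  have v9 : bt K i (var 16 9) = g.x7 := hv 9 (by decide)
  have v10 : bt K i (var 16 10) = j0 := hv 10 (by decide)
  have v11 : bt K i (var 16 11) = j1 := hv 11 (by decide)
  have v12 : bt K i (var 16 12) = j2 := hv 12 (by decide)
  have v13 : bt K i (var 16 13) = j3 := hv 13 (by decide)
  have v14 : bt K i (var 16 14) = j4 := hv 14 (by decide)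
  have v15 : bt K i (var 16 15) = j5 := hv 15 (by decide)
  have kg : (⟨g.x1, g.y2, g.z2, g.x3, g.y4, g.z4, g.x5, g.y6, g.z6, g.x7, 0, 0⟩ : P K) = g := eg.symm
  have := imp (K := K) (i := i) sq2_chk (by
    simp only [sq2H, bt_or_eq_zero, df_iff, and_assoc, ev_mul, ev_inv, ev_mk, bt_and, bt_xor, bt_zero, ho,
      ev_ap, ev_vx1 ho, ev_vy2 ho, ev_vy4 ho, ev_vy6 ho, ev_vx7 ho, v0, v1, v2, v3, v4, v5, v6, v7,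
      v8, v9, v10, v11, v12, v13, v14, v15, kg, ev_W2 ho, ev_st ho]
    exact ⟨h0, h1, h2, h3, h4⟩)
  simpa only [sq2C, bt_or_eq_zero, df_iff, and_assoc, ev_mul, ev_inv, ev_mk, bt_and, bt_xor, bt_zero, ho,
    ev_ap, ev_vx1 ho, ev_vy2 ho, ev_vy4 ho, ev_vy6 ho, ev_vx7 ho, v0, v1, v2, v3, v4, v5, v6, v7,
    v8, v9, v10, v11, v12, v13, v14, v15, kg, ev_W2 ho, ev_st ho] using this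

/-- Failure positions. -/
def fi2fH (o : ℕ) (j0 : ℕ) (j1 : ℕ) (j2 : ℕ) (j3 : ℕ) (j4 : ℕ) (j5 : ℕ) : ℕ :=
  0

/-- Failure positions. -/
def fi2fC (o : ℕ) (j0 : ℕ) (j1 : ℕ) (j2 : ℕ) (j3 : ℕ) (j4 : ℕ) (j5 : ℕ) : ℕ :=
  (stV o j0 j1 j2 j3 j4 j5 (vz8 o) (stV o j0 j1 j2 j3 j4 j5 (vz8 o) (stV o j0 j1 j2 j3 j4 j5 (vz8
    o) (stV o j0 j1 j2 j3 j4 j5 (vz8 o) (stV o j0 j1 j2 j3 j4 j5 (vz8 o) (vz4 o)))))).df (vz4 o) |||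
    ((stV o j0 j1 j2 j3 j4 j5 (vz8 o) (stV o j0 j1 j2 j3 j4 j5 (vz8 o) (stV o j0 j1 j2 j3 j4 j5 (vz8
    o) (stV o j0 j1 j2 j3 j4 j5 (vz8 o) (stV o j0 j1 j2 j3 j4 j5 (vz8 o) (vz6 o)))))).x1) ||| ((stV
    o j0 j1 j2 j3 j4 j5 (vz8 o) (stV o j0 j1 j2 j3 j4 j5 (vz8 o) (stV o j0 j1 j2 j3 j4 j5 (vz8 o)
    (stV o j0 j1 j2 j3 j4 j5 (vz8 o) (stV o j0 j1 j2 j3 j4 j5 (vz8 o) (vz6 o)))))).y8) ||| ((stV o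
    j0 j1 j2 j3 j4 j5 (vz8 o) (stV o j0 j1 j2 j3 j4 j5 (vz8 o) (stV o j0 j1 j2 j3 j4 j5 (vz8 o) (stV
    o j0 j1 j2 j3 j4 j5 (vz8 o) (stV o j0 j1 j2 j3 j4 j5 (vz8 o) (vz6 o)))))).y2) ||| ((stV o j0 j1
    j2 j3 j4 j5 (vz8 o) (stV o j0 j1 j2 j3 j4 j5 (vz8 o) (stV o j0 j1 j2 j3 j4 j5 (vz8 o) (stV o j0
    j1 j2 j3 j4 j5 (vz8 o) (stV o j0 j1 j2 j3 j4 j5 (vz8 o) (vz6 o)))))).z8) ||| ((stV o j0 j1 j2 j3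
    j4 j5 (vz8 o) (stV o j0 j1 j2 j3 j4 j5 (vz8 o) (stV o j0 j1 j2 j3 j4 j5 (vz8 o) (stV o j0 j1 j2
    j3 j4 j5 (vz8 o) (stV o j0 j1 j2 j3 j4 j5 (vz8 o) (vz6 o)))))).y6) ||| ((stV o j0 j1 j2 j3 j4 j5
    (vz8 o) (stV o j0 j1 j2 j3 j4 j5 (vz8 o) (stV o j0 j1 j2 j3 j4 j5 (vz8 o) (stV o j0 j1 j2 j3 j4
    j5 (vz8 o) (stV o j0 j1 j2 j3 j4 j5 (vz8 o) (vz6 o)))))).y4) ||| ((stV o j0 j1 j2 j3 j4 j5 (vz8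
    o) (stV o j0 j1 j2 j3 j4 j5 (vz8 o) (stV o j0 j1 j2 j3 j4 j5 (vz8 o) (stV o j0 j1 j2 j3 j4 j5
    (vz8 o) (stV o j0 j1 j2 j3 j4 j5 (vz8 o) (vz6 o)))))).z2) ||| ((stV o j0 j1 j2 j3 j4 j5 (vz8 o)
    (stV o j0 j1 j2 j3 j4 j5 (vz8 o) (stV o j0 j1 j2 j3 j4 j5 (vz8 o) (stV o j0 j1 j2 j3 j4 j5 (vz8
    o) (stV o j0 j1 j2 j3 j4 j5 (vz8 o) (vz6 o)))))).x7) ||| ((stV o j0 j1 j2 j3 j4 j5 (vz8 o) (stV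
    o j0 j1 j2 j3 j4 j5 (vz8 o) (stV o j0 j1 j2 j3 j4 j5 (vz8 o) (stV o j0 j1 j2 j3 j4 j5 (vz8 o)
    (stV o j0 j1 j2 j3 j4 j5 (vz8 o) (vz6 o)))))).x3) ||| ((stV o j0 j1 j2 j3 j4 j5 (vz8 o) (stV o
    j0 j1 j2 j3 j4 j5 (vz8 o) (stV o j0 j1 j2 j3 j4 j5 (vz8 o) (stV o j0 j1 j2 j3 j4 j5 (vz8 o) (stV
    o j0 j1 j2 j3 j4 j5 (vz8 o) (vz6 o)))))).x5) ||| (((vz2 o)⁻¹ * (stV o j0 j1 j2 j3 j4 j5 (vz8 o)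
    (stV o j0 j1 j2 j3 j4 j5 (vz8 o) (stV o j0 j1 j2 j3 j4 j5 (vz8 o) (stV o j0 j1 j2 j3 j4 j5 (vz8
    o) (stV o j0 j1 j2 j3 j4 j5 (vz8 o) (vz2 o))))))).x1) ||| (((vz2 o)⁻¹ * (stV o j0 j1 j2 j3 j4 j5
    (vz8 o) (stV o j0 j1 j2 j3 j4 j5 (vz8 o) (stV o j0 j1 j2 j3 j4 j5 (vz8 o) (stV o j0 j1 j2 j3 j4
    j5 (vz8 o) (stV o j0 j1 j2 j3 j4 j5 (vz8 o) (vz2 o))))))).y8) ||| (((vz2 o)⁻¹ * (stV o j0 j1 j2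
    j3 j4 j5 (vz8 o) (stV o j0 j1 j2 j3 j4 j5 (vz8 o) (stV o j0 j1 j2 j3 j4 j5 (vz8 o) (stV o j0 j1
    j2 j3 j4 j5 (vz8 o) (stV o j0 j1 j2 j3 j4 j5 (vz8 o) (vz2 o))))))).y2) ||| (((vz2 o)⁻¹ * (stV o
    j0 j1 j2 j3 j4 j5 (vz8 o) (stV o j0 j1 j2 j3 j4 j5 (vz8 o) (stV o j0 j1 j2 j3 j4 j5 (vz8 o) (stV
    o j0 j1 j2 j3 j4 j5 (vz8 o) (stV o j0 j1 j2 j3 j4 j5 (vz8 o) (vz2 o))))))).z8) ||| (((vz2 o)⁻¹ *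
    (stV o j0 j1 j2 j3 j4 j5 (vz8 o) (stV o j0 j1 j2 j3 j4 j5 (vz8 o) (stV o j0 j1 j2 j3 j4 j5 (vz8
    o) (stV o j0 j1 j2 j3 j4 j5 (vz8 o) (stV o j0 j1 j2 j3 j4 j5 (vz8 o) (vz2 o))))))).y6) |||
    (((vz2 o)⁻¹ * (stV o j0 j1 j2 j3 j4 j5 (vz8 o) (stV o j0 j1 j2 j3 j4 j5 (vz8 o) (stV o j0 j1 j2
    j3 j4 j5 (vz8 o) (stV o j0 j1 j2 j3 j4 j5 (vz8 o) (stV o j0 j1 j2 j3 j4 j5 (vz8 o) (vz2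
    o))))))).y4) ||| (((vz2 o)⁻¹ * (stV o j0 j1 j2 j3 j4 j5 (vz8 o) (stV o j0 j1 j2 j3 j4 j5 (vz8 o)
    (stV o j0 j1 j2 j3 j4 j5 (vz8 o) (stV o j0 j1 j2 j3 j4 j5 (vz8 o) (stV o j0 j1 j2 j3 j4 j5 (vz8
    o) (vz2 o))))))).z2) ||| (((vz2 o)⁻¹ * (stV o j0 j1 j2 j3 j4 j5 (vz8 o) (stV o j0 j1 j2 j3 j4 j5
    (vz8 o) (stV o j0 j1 j2 j3 j4 j5 (vz8 o) (stV o j0 j1 j2 j3 j4 j5 (vz8 o) (stV o j0 j1 j2 j3 j4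
    j5 (vz8 o) (vz2 o))))))).x7) ||| (((vz2 o)⁻¹ * (stV o j0 j1 j2 j3 j4 j5 (vz8 o) (stV o j0 j1 j2
    j3 j4 j5 (vz8 o) (stV o j0 j1 j2 j3 j4 j5 (vz8 o) (stV o j0 j1 j2 j3 j4 j5 (vz8 o) (stV o j0 j1
    j2 j3 j4 j5 (vz8 o) (vz2 o))))))).x3) ||| (((vz2 o)⁻¹ * (stV o j0 j1 j2 j3 j4 j5 (vz8 o) (stV o
    j0 j1 j2 j3 j4 j5 (vz8 o) (stV o j0 j1 j2 j3 j4 j5 (vz8 o) (stV o j0 j1 j2 j3 j4 j5 (vz8 o) (stV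
    o j0 j1 j2 j3 j4 j5 (vz8 o) (vz2 o))))))).x5)

theorem fi2f_chk : fi2fC (ones 6) (var 6 0) (var 6 1) (var 6 2) (var 6 3) (var 6 4) (var 6 5) ||| fi2fH (ones 6)
    (var 6 0) (var 6 1) (var 6 2) (var 6 3) (var 6 4) (var 6 5) = fi2fH (ones 6) (var 6 0) (var 6 1)
    (var 6 2) (var 6 3) (var 6 4) (var 6 5) := by
  decide +kernel

theorem fi2f (hK : ∀ μ : K, μ = 0 ∨ μ = 1) {j0 j1 j2 j3 j4 j5 : K} : stK j0 j1 j2 j3 j4 j5 (rz8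
    (1 : K)) (stK j0 j1 j2 j3 j4 j5 (rz8 (1 : K)) (stK j0 j1 j2 j3 j4 j5 (rz8 (1 : K)) (stK j0 j1 j2
    j3 j4 j5 (rz8 (1 : K)) (stK j0 j1 j2 j3 j4 j5 (rz8 (1 : K)) (rz4 (1 : K)))))) = rz4 (1 : K) ∧
    (stK j0 j1 j2 j3 j4 j5 (rz8 (1 : K)) (stK j0 j1 j2 j3 j4 j5 (rz8 (1 : K)) (stK j0 j1 j2 j3 j4 j5
    (rz8 (1 : K)) (stK j0 j1 j2 j3 j4 j5 (rz8 (1 : K)) (stK j0 j1 j2 j3 j4 j5 (rz8 (1 : K)) (rz6 (1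
    : K))))))).x1 = 0 ∧ (stK j0 j1 j2 j3 j4 j5 (rz8 (1 : K)) (stK j0 j1 j2 j3 j4 j5 (rz8 (1 : K))
    (stK j0 j1 j2 j3 j4 j5 (rz8 (1 : K)) (stK j0 j1 j2 j3 j4 j5 (rz8 (1 : K)) (stK j0 j1 j2 j3 j4 j5
    (rz8 (1 : K)) (rz6 (1 : K))))))).y8 = 0 ∧ (stK j0 j1 j2 j3 j4 j5 (rz8 (1 : K)) (stK j0 j1 j2 j3
    j4 j5 (rz8 (1 : K)) (stK j0 j1 j2 j3 j4 j5 (rz8 (1 : K)) (stK j0 j1 j2 j3 j4 j5 (rz8 (1 : K))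
    (stK j0 j1 j2 j3 j4 j5 (rz8 (1 : K)) (rz6 (1 : K))))))).y2 = 0 ∧ (stK j0 j1 j2 j3 j4 j5 (rz8 (1
    : K)) (stK j0 j1 j2 j3 j4 j5 (rz8 (1 : K)) (stK j0 j1 j2 j3 j4 j5 (rz8 (1 : K)) (stK j0 j1 j2 j3
    j4 j5 (rz8 (1 : K)) (stK j0 j1 j2 j3 j4 j5 (rz8 (1 : K)) (rz6 (1 : K))))))).z8 = 0 ∧ (stK j0 j1
    j2 j3 j4 j5 (rz8 (1 : K)) (stK j0 j1 j2 j3 j4 j5 (rz8 (1 : K)) (stK j0 j1 j2 j3 j4 j5 (rz8 (1 :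
    K)) (stK j0 j1 j2 j3 j4 j5 (rz8 (1 : K)) (stK j0 j1 j2 j3 j4 j5 (rz8 (1 : K)) (rz6 (1 :
    K))))))).y6 = 0 ∧ (stK j0 j1 j2 j3 j4 j5 (rz8 (1 : K)) (stK j0 j1 j2 j3 j4 j5 (rz8 (1 : K)) (stK
    j0 j1 j2 j3 j4 j5 (rz8 (1 : K)) (stK j0 j1 j2 j3 j4 j5 (rz8 (1 : K)) (stK j0 j1 j2 j3 j4 j5 (rz8
    (1 : K)) (rz6 (1 : K))))))).y4 = 0 ∧ (stK j0 j1 j2 j3 j4 j5 (rz8 (1 : K)) (stK j0 j1 j2 j3 j4 j5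
    (rz8 (1 : K)) (stK j0 j1 j2 j3 j4 j5 (rz8 (1 : K)) (stK j0 j1 j2 j3 j4 j5 (rz8 (1 : K)) (stK j0
    j1 j2 j3 j4 j5 (rz8 (1 : K)) (rz6 (1 : K))))))).z2 = 0 ∧ (stK j0 j1 j2 j3 j4 j5 (rz8 (1 : K))
    (stK j0 j1 j2 j3 j4 j5 (rz8 (1 : K)) (stK j0 j1 j2 j3 j4 j5 (rz8 (1 : K)) (stK j0 j1 j2 j3 j4 j5
    (rz8 (1 : K)) (stK j0 j1 j2 j3 j4 j5 (rz8 (1 : K)) (rz6 (1 : K))))))).x7 = 0 ∧ (stK j0 j1 j2 j3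
    j4 j5 (rz8 (1 : K)) (stK j0 j1 j2 j3 j4 j5 (rz8 (1 : K)) (stK j0 j1 j2 j3 j4 j5 (rz8 (1 : K))
    (stK j0 j1 j2 j3 j4 j5 (rz8 (1 : K)) (stK j0 j1 j2 j3 j4 j5 (rz8 (1 : K)) (rz6 (1 : K))))))).x3
    = 0 ∧ (stK j0 j1 j2 j3 j4 j5 (rz8 (1 : K)) (stK j0 j1 j2 j3 j4 j5 (rz8 (1 : K)) (stK j0 j1 j2 j3
    j4 j5 (rz8 (1 : K)) (stK j0 j1 j2 j3 j4 j5 (rz8 (1 : K)) (stK j0 j1 j2 j3 j4 j5 (rz8 (1 : K))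
    (rz6 (1 : K))))))).x5 = 0 ∧ ((rz2 (1 : K))⁻¹ * (stK j0 j1 j2 j3 j4 j5 (rz8 (1 : K)) (stK j0 j1
    j2 j3 j4 j5 (rz8 (1 : K)) (stK j0 j1 j2 j3 j4 j5 (rz8 (1 : K)) (stK j0 j1 j2 j3 j4 j5 (rz8 (1 :
    K)) (stK j0 j1 j2 j3 j4 j5 (rz8 (1 : K)) (rz2 (1 : K)))))))).x1 = 0 ∧ ((rz2 (1 : K))⁻¹ * (stK j0
    j1 j2 j3 j4 j5 (rz8 (1 : K)) (stK j0 j1 j2 j3 j4 j5 (rz8 (1 : K)) (stK j0 j1 j2 j3 j4 j5 (rz8 (1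
    : K)) (stK j0 j1 j2 j3 j4 j5 (rz8 (1 : K)) (stK j0 j1 j2 j3 j4 j5 (rz8 (1 : K)) (rz2 (1 :
    K)))))))).y8 = 0 ∧ ((rz2 (1 : K))⁻¹ * (stK j0 j1 j2 j3 j4 j5 (rz8 (1 : K)) (stK j0 j1 j2 j3 j4
    j5 (rz8 (1 : K)) (stK j0 j1 j2 j3 j4 j5 (rz8 (1 : K)) (stK j0 j1 j2 j3 j4 j5 (rz8 (1 : K)) (stK
    j0 j1 j2 j3 j4 j5 (rz8 (1 : K)) (rz2 (1 : K)))))))).y2 = 0 ∧ ((rz2 (1 : K))⁻¹ * (stK j0 j1 j2 j3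
    j4 j5 (rz8 (1 : K)) (stK j0 j1 j2 j3 j4 j5 (rz8 (1 : K)) (stK j0 j1 j2 j3 j4 j5 (rz8 (1 : K))
    (stK j0 j1 j2 j3 j4 j5 (rz8 (1 : K)) (stK j0 j1 j2 j3 j4 j5 (rz8 (1 : K)) (rz2 (1 : K)))))))).z8
    = 0 ∧ ((rz2 (1 : K))⁻¹ * (stK j0 j1 j2 j3 j4 j5 (rz8 (1 : K)) (stK j0 j1 j2 j3 j4 j5 (rz8 (1 :
    K)) (stK j0 j1 j2 j3 j4 j5 (rz8 (1 : K)) (stK j0 j1 j2 j3 j4 j5 (rz8 (1 : K)) (stK j0 j1 j2 j3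
    j4 j5 (rz8 (1 : K)) (rz2 (1 : K)))))))).y6 = 0 ∧ ((rz2 (1 : K))⁻¹ * (stK j0 j1 j2 j3 j4 j5 (rz8
    (1 : K)) (stK j0 j1 j2 j3 j4 j5 (rz8 (1 : K)) (stK j0 j1 j2 j3 j4 j5 (rz8 (1 : K)) (stK j0 j1 j2
    j3 j4 j5 (rz8 (1 : K)) (stK j0 j1 j2 j3 j4 j5 (rz8 (1 : K)) (rz2 (1 : K)))))))).y4 = 0 ∧ ((rz2
    (1 : K))⁻¹ * (stK j0 j1 j2 j3 j4 j5 (rz8 (1 : K)) (stK j0 j1 j2 j3 j4 j5 (rz8 (1 : K)) (stK j0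
    j1 j2 j3 j4 j5 (rz8 (1 : K)) (stK j0 j1 j2 j3 j4 j5 (rz8 (1 : K)) (stK j0 j1 j2 j3 j4 j5 (rz8 (1
    : K)) (rz2 (1 : K)))))))).z2 = 0 ∧ ((rz2 (1 : K))⁻¹ * (stK j0 j1 j2 j3 j4 j5 (rz8 (1 : K)) (stK
    j0 j1 j2 j3 j4 j5 (rz8 (1 : K)) (stK j0 j1 j2 j3 j4 j5 (rz8 (1 : K)) (stK j0 j1 j2 j3 j4 j5 (rz8
    (1 : K)) (stK j0 j1 j2 j3 j4 j5 (rz8 (1 : K)) (rz2 (1 : K)))))))).x7 = 0 ∧ ((rz2 (1 : K))⁻¹ *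
    (stK j0 j1 j2 j3 j4 j5 (rz8 (1 : K)) (stK j0 j1 j2 j3 j4 j5 (rz8 (1 : K)) (stK j0 j1 j2 j3 j4 j5
    (rz8 (1 : K)) (stK j0 j1 j2 j3 j4 j5 (rz8 (1 : K)) (stK j0 j1 j2 j3 j4 j5 (rz8 (1 : K)) (rz2 (1
    : K)))))))).x3 = 0 ∧ ((rz2 (1 : K))⁻¹ * (stK j0 j1 j2 j3 j4 j5 (rz8 (1 : K)) (stK j0 j1 j2 j3 j4
    j5 (rz8 (1 : K)) (stK j0 j1 j2 j3 j4 j5 (rz8 (1 : K)) (stK j0 j1 j2 j3 j4 j5 (rz8 (1 : K)) (stK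
    j0 j1 j2 j3 j4 j5 (rz8 (1 : K)) (rz2 (1 : K)))))))).x5 = 0 := by
  obtain ⟨i, hi, hv⟩ := exists_bt hK 6 fun n =>
    ([j0, j1, j2, j3, j4, j5] : List K).getD n 0
  have ho := bt_ones (K := K) hi
  have v0 : bt K i (var 6 0) = j0 := hv 0 (by decide)
  have v1 : bt K i (var 6 1) = j1 := hv 1 (by decide)
  have v2 : bt K i (var 6 2) = j2 := hv 2 (by decide)
  have v3 : bt K i (var 6 3) = j3 := hv 3 (by decide)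
  have v4 : bt K i (var 6 4) = j4 := hv 4 (by decide)
  have v5 : bt K i (var 6 5) = j5 := hv 5 (by decide)
  have := imp (K := K) (i := i) fi2f_chk (bt_zero i)
  simpa only [fi2fC, bt_or_eq_zero, df_iff, and_assoc, ev_mul, ev_inv, ev_mk, bt_and, bt_xor, bt_zero, ho,
    ev_vz2 ho, ev_vz4 ho, ev_vz6 ho, ev_vz8 ho, bt_x1, bt_y2, bt_z2, bt_x3, bt_y4, bt_x5, bt_y6,
    bt_x7, bt_y8, bt_z8, v0, v1, v2, v3, v4, v5, ev_W2 ho, ev_st ho] using this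

/-- Failure positions. -/
def fi2H (o : ℕ) (g : V) (j0 : ℕ) (j1 : ℕ) (j2 : ℕ) (j3 : ℕ) (j4 : ℕ) (j5 : ℕ) : ℕ :=
  (stV o j0 j1 j2 j3 j4 j5 (vz8 o) (stV o j0 j1 j2 j3 j4 j5 (vz8 o) (stV o j0 j1 j2 j3 j4 j5 (vz8
    o) (stV o j0 j1 j2 j3 j4 j5 (vz8 o) (stV o j0 j1 j2 j3 j4 j5 (vz8 o) (vx1 o)))))).df (g * (vx1
    o) * g⁻¹) ||| (stV o j0 j1 j2 j3 j4 j5 (vz8 o) (stV o j0 j1 j2 j3 j4 j5 (vz8 o) (stV o j0 j1 j2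
    j3 j4 j5 (vz8 o) (stV o j0 j1 j2 j3 j4 j5 (vz8 o) (stV o j0 j1 j2 j3 j4 j5 (vz8 o) (vx7
    o)))))).df (g * (vx7 o) * g⁻¹) ||| (stV o j0 j1 j2 j3 j4 j5 (vz8 o) (stV o j0 j1 j2 j3 j4 j5
    (vz8 o) (stV o j0 j1 j2 j3 j4 j5 (vz8 o) (stV o j0 j1 j2 j3 j4 j5 (vz8 o) (stV o j0 j1 j2 j3 j4
    j5 (vz8 o) (vy2 o)))))).df (g * (vy2 o) * g⁻¹) ||| (stV o j0 j1 j2 j3 j4 j5 (vz8 o) (stV o j0 j1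
    j2 j3 j4 j5 (vz8 o) (stV o j0 j1 j2 j3 j4 j5 (vz8 o) (stV o j0 j1 j2 j3 j4 j5 (vz8 o) (stV o j0
    j1 j2 j3 j4 j5 (vz8 o) (vy6 o)))))).df (g * (vy6 o) * g⁻¹) ||| (stV o j0 j1 j2 j3 j4 j5 (vz8 o)
    (stV o j0 j1 j2 j3 j4 j5 (vz8 o) (stV o j0 j1 j2 j3 j4 j5 (vz8 o) (stV o j0 j1 j2 j3 j4 j5 (vz8
    o) (stV o j0 j1 j2 j3 j4 j5 (vz8 o) (vy4 o)))))).df (g * (vy4 o) * g⁻¹)

/-- Failure positions. -/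
def fi2C (o : ℕ) (g : V) (j0 : ℕ) (j1 : ℕ) (j2 : ℕ) (j3 : ℕ) (j4 : ℕ) (j5 : ℕ) : ℕ :=
  (j1 ^^^ j2 ^^^ j4) ||| ((j0 &&& j1) ^^^ j2 ^^^ (j0 &&& j2) ^^^ (j1 &&& j2) ^^^ (j1 &&& j3) ^^^
    j5)

theorem fi2_chk : fi2C (ones 16) ⟨var 16 0, var 16 1, var 16 2, var 16 3, var 16 4, var 16 5, var 16 6, var 16 7,
    var 16 8, var 16 9, 0, 0⟩ (var 16 10) (var 16 11) (var 16 12) (var 16 13) (var 16 14) (var 16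
    15) ||| fi2H (ones 16) ⟨var 16 0, var 16 1, var 16 2, var 16 3, var 16 4, var 16 5, var 16 6,
    var 16 7, var 16 8, var 16 9, 0, 0⟩ (var 16 10) (var 16 11) (var 16 12) (var 16 13) (var 16 14)
    (var 16 15) = fi2H (ones 16) ⟨var 16 0, var 16 1, var 16 2, var 16 3, var 16 4, var 16 5, var 16
    6, var 16 7, var 16 8, var 16 9, 0, 0⟩ (var 16 10) (var 16 11) (var 16 12) (var 16 13) (var 16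
    14) (var 16 15) := by
  decide +kernel

theorem fi2 (hK : ∀ μ : K, μ = 0 ∨ μ = 1) {g : P K} {j0 j1 j2 j3 j4 j5 : K} (eg : g = (⟨g.x1,
    g.y2, g.z2, g.x3, g.y4, g.z4, g.x5, g.y6, g.z6, g.x7, 0, 0⟩ : P K)) (h0 : stK j0 j1 j2 j3 j4 j5
    (rz8 (1 : K)) (stK j0 j1 j2 j3 j4 j5 (rz8 (1 : K)) (stK j0 j1 j2 j3 j4 j5 (rz8 (1 : K)) (stK j0
    j1 j2 j3 j4 j5 (rz8 (1 : K)) (stK j0 j1 j2 j3 j4 j5 (rz8 (1 : K)) (rx1 (1 : K)))))) = g * (rx1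
    (1 : K)) * g⁻¹) (h1 : stK j0 j1 j2 j3 j4 j5 (rz8 (1 : K)) (stK j0 j1 j2 j3 j4 j5 (rz8 (1 : K))
    (stK j0 j1 j2 j3 j4 j5 (rz8 (1 : K)) (stK j0 j1 j2 j3 j4 j5 (rz8 (1 : K)) (stK j0 j1 j2 j3 j4 j5
    (rz8 (1 : K)) (rx7 (1 : K)))))) = g * (rx7 (1 : K)) * g⁻¹) (h2 : stK j0 j1 j2 j3 j4 j5 (rz8 (1 :
    K)) (stK j0 j1 j2 j3 j4 j5 (rz8 (1 : K)) (stK j0 j1 j2 j3 j4 j5 (rz8 (1 : K)) (stK j0 j1 j2 j3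
    j4 j5 (rz8 (1 : K)) (stK j0 j1 j2 j3 j4 j5 (rz8 (1 : K)) (ry2 (1 : K)))))) = g * (ry2 (1 : K)) *
    g⁻¹) (h3 : stK j0 j1 j2 j3 j4 j5 (rz8 (1 : K)) (stK j0 j1 j2 j3 j4 j5 (rz8 (1 : K)) (stK j0 j1
    j2 j3 j4 j5 (rz8 (1 : K)) (stK j0 j1 j2 j3 j4 j5 (rz8 (1 : K)) (stK j0 j1 j2 j3 j4 j5 (rz8 (1 :
    K)) (ry6 (1 : K)))))) = g * (ry6 (1 : K)) * g⁻¹) (h4 : stK j0 j1 j2 j3 j4 j5 (rz8 (1 : K)) (stK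
    j0 j1 j2 j3 j4 j5 (rz8 (1 : K)) (stK j0 j1 j2 j3 j4 j5 (rz8 (1 : K)) (stK j0 j1 j2 j3 j4 j5 (rz8
    (1 : K)) (stK j0 j1 j2 j3 j4 j5 (rz8 (1 : K)) (ry4 (1 : K)))))) = g * (ry4 (1 : K)) * g⁻¹) : j1
    + j2 + j4 = 0 ∧ j0 * j1 + j2 + j0 * j2 + j1 * j2 + j1 * j3 + j5 = 0 := by
  obtain ⟨i, hi, hv⟩ := exists_bt hK 16 fun n =>
    ([g.x1, g.y2, g.z2, g.x3, g.y4, g.z4, g.x5, g.y6, g.z6, g.x7, j0, j1, j2, j3, j4, j5] : List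
    K).getD n 0
  have ho := bt_ones (K := K) hi
  have v0 : bt K i (var 16 0) = g.x1 := hv 0 (by decide)
  have v1 : bt K i (var 16 1) = g.y2 := hv 1 (by decide)
  have v2 : bt K i (var 16 2) = g.z2 := hv 2 (by decide)
  have v3 : bt K i (var 16 3) = g.x3 := hv 3 (by decide)
  have v4 : bt K i (var 16 4) = g.y4 := hv 4 (by decide)
  have v5 : bt K i (var 16 5) = g.z4 := hv 5 (by decide)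
  have v6 : bt K i (var 16 6) = g.x5 := hv 6 (by decide)
  have v7 : bt K i (var 16 7) = g.y6 := hv 7 (by decide)
  have v8 : bt K i (var 16 8) = g.z6 := hv 8 (by decide)
  have v9 : bt K i (var 16 9) = g.x7 := hv 9 (by decide)
  have v10 : bt K i (var 16 10) = j0 := hv 10 (by decide)
  have v11 : bt K i (var 16 11) = j1 := hv 11 (by decide)
  have v12 : bt K i (var 16 12) = j2 := hv 12 (by decide)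
  have v13 : bt K i (var 16 13) = j3 := hv 13 (by decide)
  have v14 : bt K i (var 16 14) = j4 := hv 14 (by decide)
  have v15 : bt K i (var 16 15) = j5 := hv 15 (by decide)
  have kg : (⟨g.x1, g.y2, g.z2, g.x3, g.y4, g.z4, g.x5, g.y6, g.z6, g.x7, 0, 0⟩ : P K) = g := eg.symm
  have := imp (K := K) (i := i) fi2_chk (by
    simp only [fi2H, bt_or_eq_zero, df_iff, and_assoc, ev_mul, ev_inv, ev_mk, bt_and, bt_xor, bt_zero, ho,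
      ev_vx1 ho, ev_vy2 ho, ev_vy4 ho, ev_vy6 ho, ev_vx7 ho, ev_vz8 ho, v0, v1, v2, v3, v4, v5, v6,
      v7, v8, v9, v10, v11, v12, v13, v14, v15, kg, ev_W2 ho, ev_st ho]
    exact ⟨h0, h1, h2, h3, h4⟩)
  simpa only [fi2C, bt_or_eq_zero, df_iff, and_assoc, ev_mul, ev_inv, ev_mk, bt_and, bt_xor, bt_zero, ho,
    ev_vx1 ho, ev_vy2 ho, ev_vy4 ho, ev_vy6 ho, ev_vx7 ho, ev_vz8 ho, v0, v1, v2, v3, v4, v5, v6,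
    v7, v8, v9, v10, v11, v12, v13, v14, v15, kg, ev_W2 ho, ev_st ho] using this

/-- Failure positions. -/
def fo2fH (o : ℕ) (j0 : ℕ) (j1 : ℕ) (j2 : ℕ) (j3 : ℕ) (j4 : ℕ) (j5 : ℕ) : ℕ :=
  0

/-- Failure positions. -/
def fo2fC (o : ℕ) (j0 : ℕ) (j1 : ℕ) (j2 : ℕ) (j3 : ℕ) (j4 : ℕ) (j5 : ℕ) : ℕ :=
  (stV o j0 j1 j2 j3 j4 j5 (vy8 o) (stV o j0 j1 j2 j3 j4 j5 (vy8 o) (stV o j0 j1 j2 j3 j4 j5 (vy8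
    o) (stV o j0 j1 j2 j3 j4 j5 (vy8 o) (vz4 o))))).df (vz4 o) ||| ((stV o j0 j1 j2 j3 j4 j5 (vy8 o)
    (stV o j0 j1 j2 j3 j4 j5 (vy8 o) (stV o j0 j1 j2 j3 j4 j5 (vy8 o) (stV o j0 j1 j2 j3 j4 j5 (vy8
    o) (vz6 o))))).x1) ||| ((stV o j0 j1 j2 j3 j4 j5 (vy8 o) (stV o j0 j1 j2 j3 j4 j5 (vy8 o) (stV o
    j0 j1 j2 j3 j4 j5 (vy8 o) (stV o j0 j1 j2 j3 j4 j5 (vy8 o) (vz6 o))))).y8) ||| ((stV o j0 j1 j2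
    j3 j4 j5 (vy8 o) (stV o j0 j1 j2 j3 j4 j5 (vy8 o) (stV o j0 j1 j2 j3 j4 j5 (vy8 o) (stV o j0 j1
    j2 j3 j4 j5 (vy8 o) (vz6 o))))).y2) ||| ((stV o j0 j1 j2 j3 j4 j5 (vy8 o) (stV o j0 j1 j2 j3 j4
    j5 (vy8 o) (stV o j0 j1 j2 j3 j4 j5 (vy8 o) (stV o j0 j1 j2 j3 j4 j5 (vy8 o) (vz6 o))))).z8) |||
    ((stV o j0 j1 j2 j3 j4 j5 (vy8 o) (stV o j0 j1 j2 j3 j4 j5 (vy8 o) (stV o j0 j1 j2 j3 j4 j5 (vy8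
    o) (stV o j0 j1 j2 j3 j4 j5 (vy8 o) (vz6 o))))).y6) ||| ((stV o j0 j1 j2 j3 j4 j5 (vy8 o) (stV o
    j0 j1 j2 j3 j4 j5 (vy8 o) (stV o j0 j1 j2 j3 j4 j5 (vy8 o) (stV o j0 j1 j2 j3 j4 j5 (vy8 o) (vz6
    o))))).y4) ||| ((stV o j0 j1 j2 j3 j4 j5 (vy8 o) (stV o j0 j1 j2 j3 j4 j5 (vy8 o) (stV o j0 j1
    j2 j3 j4 j5 (vy8 o) (stV o j0 j1 j2 j3 j4 j5 (vy8 o) (vz6 o))))).z2) ||| ((stV o j0 j1 j2 j3 j4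
    j5 (vy8 o) (stV o j0 j1 j2 j3 j4 j5 (vy8 o) (stV o j0 j1 j2 j3 j4 j5 (vy8 o) (stV o j0 j1 j2 j3
    j4 j5 (vy8 o) (vz6 o))))).x7) ||| ((stV o j0 j1 j2 j3 j4 j5 (vy8 o) (stV o j0 j1 j2 j3 j4 j5
    (vy8 o) (stV o j0 j1 j2 j3 j4 j5 (vy8 o) (stV o j0 j1 j2 j3 j4 j5 (vy8 o) (vz6 o))))).x3) |||
    ((stV o j0 j1 j2 j3 j4 j5 (vy8 o) (stV o j0 j1 j2 j3 j4 j5 (vy8 o) (stV o j0 j1 j2 j3 j4 j5 (vy8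
    o) (stV o j0 j1 j2 j3 j4 j5 (vy8 o) (vz6 o))))).x5) ||| (((vz2 o)⁻¹ * (stV o j0 j1 j2 j3 j4 j5
    (vy8 o) (stV o j0 j1 j2 j3 j4 j5 (vy8 o) (stV o j0 j1 j2 j3 j4 j5 (vy8 o) (stV o j0 j1 j2 j3 j4
    j5 (vy8 o) (vz2 o)))))).x1) ||| (((vz2 o)⁻¹ * (stV o j0 j1 j2 j3 j4 j5 (vy8 o) (stV o j0 j1 j2
    j3 j4 j5 (vy8 o) (stV o j0 j1 j2 j3 j4 j5 (vy8 o) (stV o j0 j1 j2 j3 j4 j5 (vy8 o) (vz2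
    o)))))).y8) ||| (((vz2 o)⁻¹ * (stV o j0 j1 j2 j3 j4 j5 (vy8 o) (stV o j0 j1 j2 j3 j4 j5 (vy8 o)
    (stV o j0 j1 j2 j3 j4 j5 (vy8 o) (stV o j0 j1 j2 j3 j4 j5 (vy8 o) (vz2 o)))))).y2) ||| (((vz2
    o)⁻¹ * (stV o j0 j1 j2 j3 j4 j5 (vy8 o) (stV o j0 j1 j2 j3 j4 j5 (vy8 o) (stV o j0 j1 j2 j3 j4
    j5 (vy8 o) (stV o j0 j1 j2 j3 j4 j5 (vy8 o) (vz2 o)))))).z8) ||| (((vz2 o)⁻¹ * (stV o j0 j1 j2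
    j3 j4 j5 (vy8 o) (stV o j0 j1 j2 j3 j4 j5 (vy8 o) (stV o j0 j1 j2 j3 j4 j5 (vy8 o) (stV o j0 j1
    j2 j3 j4 j5 (vy8 o) (vz2 o)))))).y6) ||| (((vz2 o)⁻¹ * (stV o j0 j1 j2 j3 j4 j5 (vy8 o) (stV o
    j0 j1 j2 j3 j4 j5 (vy8 o) (stV o j0 j1 j2 j3 j4 j5 (vy8 o) (stV o j0 j1 j2 j3 j4 j5 (vy8 o) (vz2
    o)))))).y4) ||| (((vz2 o)⁻¹ * (stV o j0 j1 j2 j3 j4 j5 (vy8 o) (stV o j0 j1 j2 j3 j4 j5 (vy8 o)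
    (stV o j0 j1 j2 j3 j4 j5 (vy8 o) (stV o j0 j1 j2 j3 j4 j5 (vy8 o) (vz2 o)))))).z2) ||| (((vz2
    o)⁻¹ * (stV o j0 j1 j2 j3 j4 j5 (vy8 o) (stV o j0 j1 j2 j3 j4 j5 (vy8 o) (stV o j0 j1 j2 j3 j4
    j5 (vy8 o) (stV o j0 j1 j2 j3 j4 j5 (vy8 o) (vz2 o)))))).x7) ||| (((vz2 o)⁻¹ * (stV o j0 j1 j2
    j3 j4 j5 (vy8 o) (stV o j0 j1 j2 j3 j4 j5 (vy8 o) (stV o j0 j1 j2 j3 j4 j5 (vy8 o) (stV o j0 j1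
    j2 j3 j4 j5 (vy8 o) (vz2 o)))))).x3) ||| (((vz2 o)⁻¹ * (stV o j0 j1 j2 j3 j4 j5 (vy8 o) (stV o
    j0 j1 j2 j3 j4 j5 (vy8 o) (stV o j0 j1 j2 j3 j4 j5 (vy8 o) (stV o j0 j1 j2 j3 j4 j5 (vy8 o) (vz2
    o)))))).x5)

theorem fo2f_chk : fo2fC (ones 6) (var 6 0) (var 6 1) (var 6 2) (var 6 3) (var 6 4) (var 6 5) ||| fo2fH (ones 6)
    (var 6 0) (var 6 1) (var 6 2) (var 6 3) (var 6 4) (var 6 5) = fo2fH (ones 6) (var 6 0) (var 6 1)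
    (var 6 2) (var 6 3) (var 6 4) (var 6 5) := by
  decide +kernel

theorem fo2f (hK : ∀ μ : K, μ = 0 ∨ μ = 1) {j0 j1 j2 j3 j4 j5 : K} : stK j0 j1 j2 j3 j4 j5 (ry8
    (1 : K)) (stK j0 j1 j2 j3 j4 j5 (ry8 (1 : K)) (stK j0 j1 j2 j3 j4 j5 (ry8 (1 : K)) (stK j0 j1 j2
    j3 j4 j5 (ry8 (1 : K)) (rz4 (1 : K))))) = rz4 (1 : K) ∧ (stK j0 j1 j2 j3 j4 j5 (ry8 (1 : K))
    (stK j0 j1 j2 j3 j4 j5 (ry8 (1 : K)) (stK j0 j1 j2 j3 j4 j5 (ry8 (1 : K)) (stK j0 j1 j2 j3 j4 j5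
    (ry8 (1 : K)) (rz6 (1 : K)))))).x1 = 0 ∧ (stK j0 j1 j2 j3 j4 j5 (ry8 (1 : K)) (stK j0 j1 j2 j3
    j4 j5 (ry8 (1 : K)) (stK j0 j1 j2 j3 j4 j5 (ry8 (1 : K)) (stK j0 j1 j2 j3 j4 j5 (ry8 (1 : K))
    (rz6 (1 : K)))))).y8 = 0 ∧ (stK j0 j1 j2 j3 j4 j5 (ry8 (1 : K)) (stK j0 j1 j2 j3 j4 j5 (ry8 (1 :
    K)) (stK j0 j1 j2 j3 j4 j5 (ry8 (1 : K)) (stK j0 j1 j2 j3 j4 j5 (ry8 (1 : K)) (rz6 (1 :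
    K)))))).y2 = 0 ∧ (stK j0 j1 j2 j3 j4 j5 (ry8 (1 : K)) (stK j0 j1 j2 j3 j4 j5 (ry8 (1 : K)) (stK
    j0 j1 j2 j3 j4 j5 (ry8 (1 : K)) (stK j0 j1 j2 j3 j4 j5 (ry8 (1 : K)) (rz6 (1 : K)))))).z8 = 0 ∧
    (stK j0 j1 j2 j3 j4 j5 (ry8 (1 : K)) (stK j0 j1 j2 j3 j4 j5 (ry8 (1 : K)) (stK j0 j1 j2 j3 j4 j5
    (ry8 (1 : K)) (stK j0 j1 j2 j3 j4 j5 (ry8 (1 : K)) (rz6 (1 : K)))))).y6 = 0 ∧ (stK j0 j1 j2 j3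
    j4 j5 (ry8 (1 : K)) (stK j0 j1 j2 j3 j4 j5 (ry8 (1 : K)) (stK j0 j1 j2 j3 j4 j5 (ry8 (1 : K))
    (stK j0 j1 j2 j3 j4 j5 (ry8 (1 : K)) (rz6 (1 : K)))))).y4 = 0 ∧ (stK j0 j1 j2 j3 j4 j5 (ry8 (1 :
    K)) (stK j0 j1 j2 j3 j4 j5 (ry8 (1 : K)) (stK j0 j1 j2 j3 j4 j5 (ry8 (1 : K)) (stK j0 j1 j2 j3
    j4 j5 (ry8 (1 : K)) (rz6 (1 : K)))))).z2 = 0 ∧ (stK j0 j1 j2 j3 j4 j5 (ry8 (1 : K)) (stK j0 j1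
    j2 j3 j4 j5 (ry8 (1 : K)) (stK j0 j1 j2 j3 j4 j5 (ry8 (1 : K)) (stK j0 j1 j2 j3 j4 j5 (ry8 (1 :
    K)) (rz6 (1 : K)))))).x7 = 0 ∧ (stK j0 j1 j2 j3 j4 j5 (ry8 (1 : K)) (stK j0 j1 j2 j3 j4 j5 (ry8
    (1 : K)) (stK j0 j1 j2 j3 j4 j5 (ry8 (1 : K)) (stK j0 j1 j2 j3 j4 j5 (ry8 (1 : K)) (rz6 (1 :
    K)))))).x3 = 0 ∧ (stK j0 j1 j2 j3 j4 j5 (ry8 (1 : K)) (stK j0 j1 j2 j3 j4 j5 (ry8 (1 : K)) (stK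
    j0 j1 j2 j3 j4 j5 (ry8 (1 : K)) (stK j0 j1 j2 j3 j4 j5 (ry8 (1 : K)) (rz6 (1 : K)))))).x5 = 0 ∧
    ((rz2 (1 : K))⁻¹ * (stK j0 j1 j2 j3 j4 j5 (ry8 (1 : K)) (stK j0 j1 j2 j3 j4 j5 (ry8 (1 : K))
    (stK j0 j1 j2 j3 j4 j5 (ry8 (1 : K)) (stK j0 j1 j2 j3 j4 j5 (ry8 (1 : K)) (rz2 (1 : K))))))).x1
    = 0 ∧ ((rz2 (1 : K))⁻¹ * (stK j0 j1 j2 j3 j4 j5 (ry8 (1 : K)) (stK j0 j1 j2 j3 j4 j5 (ry8 (1 :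
    K)) (stK j0 j1 j2 j3 j4 j5 (ry8 (1 : K)) (stK j0 j1 j2 j3 j4 j5 (ry8 (1 : K)) (rz2 (1 :
    K))))))).y8 = 0 ∧ ((rz2 (1 : K))⁻¹ * (stK j0 j1 j2 j3 j4 j5 (ry8 (1 : K)) (stK j0 j1 j2 j3 j4 j5
    (ry8 (1 : K)) (stK j0 j1 j2 j3 j4 j5 (ry8 (1 : K)) (stK j0 j1 j2 j3 j4 j5 (ry8 (1 : K)) (rz2 (1
    : K))))))).y2 = 0 ∧ ((rz2 (1 : K))⁻¹ * (stK j0 j1 j2 j3 j4 j5 (ry8 (1 : K)) (stK j0 j1 j2 j3 j4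
    j5 (ry8 (1 : K)) (stK j0 j1 j2 j3 j4 j5 (ry8 (1 : K)) (stK j0 j1 j2 j3 j4 j5 (ry8 (1 : K)) (rz2
    (1 : K))))))).z8 = 0 ∧ ((rz2 (1 : K))⁻¹ * (stK j0 j1 j2 j3 j4 j5 (ry8 (1 : K)) (stK j0 j1 j2 j3
    j4 j5 (ry8 (1 : K)) (stK j0 j1 j2 j3 j4 j5 (ry8 (1 : K)) (stK j0 j1 j2 j3 j4 j5 (ry8 (1 : K))
    (rz2 (1 : K))))))).y6 = 0 ∧ ((rz2 (1 : K))⁻¹ * (stK j0 j1 j2 j3 j4 j5 (ry8 (1 : K)) (stK j0 j1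
    j2 j3 j4 j5 (ry8 (1 : K)) (stK j0 j1 j2 j3 j4 j5 (ry8 (1 : K)) (stK j0 j1 j2 j3 j4 j5 (ry8 (1 :
    K)) (rz2 (1 : K))))))).y4 = 0 ∧ ((rz2 (1 : K))⁻¹ * (stK j0 j1 j2 j3 j4 j5 (ry8 (1 : K)) (stK j0
    j1 j2 j3 j4 j5 (ry8 (1 : K)) (stK j0 j1 j2 j3 j4 j5 (ry8 (1 : K)) (stK j0 j1 j2 j3 j4 j5 (ry8 (1
    : K)) (rz2 (1 : K))))))).z2 = 0 ∧ ((rz2 (1 : K))⁻¹ * (stK j0 j1 j2 j3 j4 j5 (ry8 (1 : K)) (stK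
    j0 j1 j2 j3 j4 j5 (ry8 (1 : K)) (stK j0 j1 j2 j3 j4 j5 (ry8 (1 : K)) (stK j0 j1 j2 j3 j4 j5 (ry8
    (1 : K)) (rz2 (1 : K))))))).x7 = 0 ∧ ((rz2 (1 : K))⁻¹ * (stK j0 j1 j2 j3 j4 j5 (ry8 (1 : K))
    (stK j0 j1 j2 j3 j4 j5 (ry8 (1 : K)) (stK j0 j1 j2 j3 j4 j5 (ry8 (1 : K)) (stK j0 j1 j2 j3 j4 j5
    (ry8 (1 : K)) (rz2 (1 : K))))))).x3 = 0 ∧ ((rz2 (1 : K))⁻¹ * (stK j0 j1 j2 j3 j4 j5 (ry8 (1 :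
    K)) (stK j0 j1 j2 j3 j4 j5 (ry8 (1 : K)) (stK j0 j1 j2 j3 j4 j5 (ry8 (1 : K)) (stK j0 j1 j2 j3
    j4 j5 (ry8 (1 : K)) (rz2 (1 : K))))))).x5 = 0 := by
  obtain ⟨i, hi, hv⟩ := exists_bt hK 6 fun n =>
    ([j0, j1, j2, j3, j4, j5] : List K).getD n 0
  have ho := bt_ones (K := K) hi
  have v0 : bt K i (var 6 0) = j0 := hv 0 (by decide)
  have v1 : bt K i (var 6 1) = j1 := hv 1 (by decide)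
  have v2 : bt K i (var 6 2) = j2 := hv 2 (by decide)
  have v3 : bt K i (var 6 3) = j3 := hv 3 (by decide)
  have v4 : bt K i (var 6 4) = j4 := hv 4 (by decide)
  have v5 : bt K i (var 6 5) = j5 := hv 5 (by decide)
  have := imp (K := K) (i := i) fo2f_chk (bt_zero i)
  simpa only [fo2fC, bt_or_eq_zero, df_iff, and_assoc, ev_mul, ev_inv, ev_mk, bt_and, bt_xor, bt_zero, ho,
    ev_vz2 ho, ev_vz4 ho, ev_vz6 ho, ev_vy8 ho, bt_x1, bt_y2, bt_z2, bt_x3, bt_y4, bt_x5, bt_y6,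
    bt_x7, bt_y8, bt_z8, v0, v1, v2, v3, v4, v5, ev_W2 ho, ev_st ho] using this

/-- Failure positions. -/
def fo2H (o : ℕ) (g : V) (j0 : ℕ) (j1 : ℕ) (j2 : ℕ) (j3 : ℕ) (j4 : ℕ) (j5 : ℕ) : ℕ :=
  (stV o j0 j1 j2 j3 j4 j5 (vy8 o) (stV o j0 j1 j2 j3 j4 j5 (vy8 o) (stV o j0 j1 j2 j3 j4 j5 (vy8
    o) (stV o j0 j1 j2 j3 j4 j5 (vy8 o) (vx1 o))))).df (g * (vx1 o) * g⁻¹) ||| (stV o j0 j1 j2 j3 j4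
    j5 (vy8 o) (stV o j0 j1 j2 j3 j4 j5 (vy8 o) (stV o j0 j1 j2 j3 j4 j5 (vy8 o) (stV o j0 j1 j2 j3
    j4 j5 (vy8 o) (vx7 o))))).df (g * (vx7 o) * g⁻¹) ||| (stV o j0 j1 j2 j3 j4 j5 (vy8 o) (stV o j0
    j1 j2 j3 j4 j5 (vy8 o) (stV o j0 j1 j2 j3 j4 j5 (vy8 o) (stV o j0 j1 j2 j3 j4 j5 (vy8 o) (vy2
    o))))).df (g * (vy2 o) * g⁻¹) ||| (stV o j0 j1 j2 j3 j4 j5 (vy8 o) (stV o j0 j1 j2 j3 j4 j5 (vy8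
    o) (stV o j0 j1 j2 j3 j4 j5 (vy8 o) (stV o j0 j1 j2 j3 j4 j5 (vy8 o) (vy6 o))))).df (g * (vy6 o)
    * g⁻¹) ||| (stV o j0 j1 j2 j3 j4 j5 (vy8 o) (stV o j0 j1 j2 j3 j4 j5 (vy8 o) (stV o j0 j1 j2 j3
    j4 j5 (vy8 o) (stV o j0 j1 j2 j3 j4 j5 (vy8 o) (vy4 o))))).df (g * (vy4 o) * g⁻¹)

/-- Failure positions. -/
def fo2C (o : ℕ) (g : V) (j0 : ℕ) (j1 : ℕ) (j2 : ℕ) (j3 : ℕ) (j4 : ℕ) (j5 : ℕ) : ℕ :=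
  (j0 ^^^ j1 ^^^ j2 ^^^ j3 ^^^ j4)

theorem fo2_chk : fo2C (ones 16) ⟨var 16 0, var 16 1, var 16 2, var 16 3, var 16 4, var 16 5, var 16 6, var 16 7,
    var 16 8, var 16 9, 0, 0⟩ (var 16 10) (var 16 11) (var 16 12) (var 16 13) (var 16 14) (var 16
    15) ||| fo2H (ones 16) ⟨var 16 0, var 16 1, var 16 2, var 16 3, var 16 4, var 16 5, var 16 6,
    var 16 7, var 16 8, var 16 9, 0, 0⟩ (var 16 10) (var 16 11) (var 16 12) (var 16 13) (var 16 14)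
    (var 16 15) = fo2H (ones 16) ⟨var 16 0, var 16 1, var 16 2, var 16 3, var 16 4, var 16 5, var 16
    6, var 16 7, var 16 8, var 16 9, 0, 0⟩ (var 16 10) (var 16 11) (var 16 12) (var 16 13) (var 16
    14) (var 16 15) := by
  decide +kernel

theorem fo2 (hK : ∀ μ : K, μ = 0 ∨ μ = 1) {g : P K} {j0 j1 j2 j3 j4 j5 : K} (eg : g = (⟨g.x1,
    g.y2, g.z2, g.x3, g.y4, g.z4, g.x5, g.y6, g.z6, g.x7, 0, 0⟩ : P K)) (h0 : stK j0 j1 j2 j3 j4 j5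
    (ry8 (1 : K)) (stK j0 j1 j2 j3 j4 j5 (ry8 (1 : K)) (stK j0 j1 j2 j3 j4 j5 (ry8 (1 : K)) (stK j0
    j1 j2 j3 j4 j5 (ry8 (1 : K)) (rx1 (1 : K))))) = g * (rx1 (1 : K)) * g⁻¹) (h1 : stK j0 j1 j2 j3
    j4 j5 (ry8 (1 : K)) (stK j0 j1 j2 j3 j4 j5 (ry8 (1 : K)) (stK j0 j1 j2 j3 j4 j5 (ry8 (1 : K))
    (stK j0 j1 j2 j3 j4 j5 (ry8 (1 : K)) (rx7 (1 : K))))) = g * (rx7 (1 : K)) * g⁻¹) (h2 : stK j0 j1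
    j2 j3 j4 j5 (ry8 (1 : K)) (stK j0 j1 j2 j3 j4 j5 (ry8 (1 : K)) (stK j0 j1 j2 j3 j4 j5 (ry8 (1 :
    K)) (stK j0 j1 j2 j3 j4 j5 (ry8 (1 : K)) (ry2 (1 : K))))) = g * (ry2 (1 : K)) * g⁻¹) (h3 : stK
    j0 j1 j2 j3 j4 j5 (ry8 (1 : K)) (stK j0 j1 j2 j3 j4 j5 (ry8 (1 : K)) (stK j0 j1 j2 j3 j4 j5 (ry8
    (1 : K)) (stK j0 j1 j2 j3 j4 j5 (ry8 (1 : K)) (ry6 (1 : K))))) = g * (ry6 (1 : K)) * g⁻¹) (h4 :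
    stK j0 j1 j2 j3 j4 j5 (ry8 (1 : K)) (stK j0 j1 j2 j3 j4 j5 (ry8 (1 : K)) (stK j0 j1 j2 j3 j4 j5
    (ry8 (1 : K)) (stK j0 j1 j2 j3 j4 j5 (ry8 (1 : K)) (ry4 (1 : K))))) = g * (ry4 (1 : K)) * g⁻¹) :
    j0 + j1 + j2 + j3 + j4 = 0 := by
  obtain ⟨i, hi, hv⟩ := exists_bt hK 16 fun n =>
    ([g.x1, g.y2, g.z2, g.x3, g.y4, g.z4, g.x5, g.y6, g.z6, g.x7, j0, j1, j2, j3, j4, j5] : List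
    K).getD n 0
  have ho := bt_ones (K := K) hi
  have v0 : bt K i (var 16 0) = g.x1 := hv 0 (by decide)
  have v1 : bt K i (var 16 1) = g.y2 := hv 1 (by decide)
  have v2 : bt K i (var 16 2) = g.z2 := hv 2 (by decide)
  have v3 : bt K i (var 16 3) = g.x3 := hv 3 (by decide)
  have v4 : bt K i (var 16 4) = g.y4 := hv 4 (by decide)
  have v5 : bt K i (var 16 5) = g.z4 := hv 5 (by decide)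
  have v6 : bt K i (var 16 6) = g.x5 := hv 6 (by decide)
  have v7 : bt K i (var 16 7) = g.y6 := hv 7 (by decide)
  have v8 : bt K i (var 16 8) = g.z6 := hv 8 (by decide)
  have v9 : bt K i (var 16 9) = g.x7 := hv 9 (by decide)
  have v10 : bt K i (var 16 10) = j0 := hv 10 (by decide)
  have v11 : bt K i (var 16 11) = j1 := hv 11 (by decide)
  have v12 : bt K i (var 16 12) = j2 := hv 12 (by decide)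
  have v13 : bt K i (var 16 13) = j3 := hv 13 (by decide)
  have v14 : bt K i (var 16 14) = j4 := hv 14 (by decide)
  have v15 : bt K i (var 16 15) = j5 := hv 15 (by decide)
  have kg : (⟨g.x1, g.y2, g.z2, g.x3, g.y4, g.z4, g.x5, g.y6, g.z6, g.x7, 0, 0⟩ : P K) = g := eg.symm
  have := imp (K := K) (i := i) fo2_chk (by
    simp only [fo2H, bt_or_eq_zero, df_iff, and_assoc, ev_mul, ev_inv, ev_mk, bt_and, bt_xor, bt_zero, ho,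
      ev_vx1 ho, ev_vy2 ho, ev_vy4 ho, ev_vy6 ho, ev_vx7 ho, ev_vy8 ho, v0, v1, v2, v3, v4, v5, v6,
      v7, v8, v9, v10, v11, v12, v13, v14, v15, kg, ev_W2 ho, ev_st ho]
    exact ⟨h0, h1, h2, h3, h4⟩)
  simpa only [fo2C, bt_or_eq_zero, df_iff, and_assoc, ev_mul, ev_inv, ev_mk, bt_and, bt_xor, bt_zero, ho,
    ev_vx1 ho, ev_vy2 ho, ev_vy4 ho, ev_vy6 ho, ev_vx7 ho, ev_vy8 ho, v0, v1, v2, v3, v4, v5, v6,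
    v7, v8, v9, v10, v11, v12, v13, v14, v15, kg, ev_W2 ho, ev_st ho] using this

/-- Failure positions. -/
def sol2H (o : ℕ) (j0 : ℕ) (j1 : ℕ) (j2 : ℕ) (j3 : ℕ) (j4 : ℕ) (j5 : ℕ) : ℕ :=
  j0 ||| (j3 ^^^ j4) ||| (j1 ^^^ j2 ^^^ j4) ||| ((j0 &&& j1) ^^^ j2 ^^^ (j0 &&& j2) ^^^ (j1 &&&
    j2) ^^^ (j1 &&& j3) ^^^ j5) ||| (j0 ^^^ j1 ^^^ j2 ^^^ j3 ^^^ j4)

/-- Failure positions. -/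
def sol2C (o : ℕ) (j0 : ℕ) (j1 : ℕ) (j2 : ℕ) (j3 : ℕ) (j4 : ℕ) (j5 : ℕ) : ℕ :=
  j0 ||| (j2 ^^^ j1) ||| j3 ||| j4 ||| j5

theorem sol2_chk : sol2C (ones 6) (var 6 0) (var 6 1) (var 6 2) (var 6 3) (var 6 4) (var 6 5) ||| sol2H (ones 6)
    (var 6 0) (var 6 1) (var 6 2) (var 6 3) (var 6 4) (var 6 5) = sol2H (ones 6) (var 6 0) (var 6 1)
    (var 6 2) (var 6 3) (var 6 4) (var 6 5) := by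
  decide +kernel

theorem sol2 (hK : ∀ μ : K, μ = 0 ∨ μ = 1) {j0 j1 j2 j3 j4 j5 : K} (h0 : j0 = 0) (h1 : j3 + j4 =
    0) (h2 : j1 + j2 + j4 = 0) (h3 : j0 * j1 + j2 + j0 * j2 + j1 * j2 + j1 * j3 + j5 = 0) (h4 : j0 +
    j1 + j2 + j3 + j4 = 0) : j0 = 0 ∧ j2 + j1 = 0 ∧ j3 = 0 ∧ j4 = 0 ∧ j5 = 0 := by
  obtain ⟨i, hi, hv⟩ := exists_bt hK 6 fun n =>
    ([j0, j1, j2, j3, j4, j5] : List K).getD n 0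
  have ho := bt_ones (K := K) hi
  have v0 : bt K i (var 6 0) = j0 := hv 0 (by decide)
  have v1 : bt K i (var 6 1) = j1 := hv 1 (by decide)
  have v2 : bt K i (var 6 2) = j2 := hv 2 (by decide)
  have v3 : bt K i (var 6 3) = j3 := hv 3 (by decide)
  have v4 : bt K i (var 6 4) = j4 := hv 4 (by decide)
  have v5 : bt K i (var 6 5) = j5 := hv 5 (by decide)
  have := imp (K := K) (i := i) sol2_chk (by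
    simp only [sol2H, bt_or_eq_zero, df_iff, and_assoc, ev_mul, ev_inv, ev_mk, bt_and, bt_xor, bt_zero, ho,
      v0, v1, v2, v3, v4, v5]
    exact ⟨h0, h1, h2, h3, h4⟩)
  simpa only [sol2C, bt_or_eq_zero, df_iff, and_assoc, ev_mul, ev_inv, ev_mk, bt_and, bt_xor, bt_zero, ho, v0,
    v1, v2, v3, v4, v5] using this

end Cfsg.Agent.F4.Bit
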