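import Cfsg.Agent.Lib.F4.Two3

/-!
The normalising automorphisms of `S` when `q = 2` (row TWO).
-/

set_option autoImplicit false
set_option linter.unusedSectionVars false
set_option linter.unusedVariables false
set_option linter.unusedSimpArgs false
set_option maxRecDepth 100000

namespace Cfsg.Agent.F4.Bit

open Cfsg.Agent.Fus Cfsg.Agent.Fus2 Subgroup

variable {K : Type} [Field K] [Rf K]

/-- A word. -/
noncomputable def TaK (X : P K) (Y : P K) (W : P K) : P K :=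
  cm (cm X W) (Y * Y)

/-- A word. -/
def TaV (o : ℕ) (X : V) (Y : V) (W : V) : V :=
  cm (cm X W) (Y * Y)

theorem ev_Ta {i o : ℕ} (ho : bt K i o = 1) (X : V) (Y : V) (W : V) :
    ev K i (TaV o X Y W) = TaK (ev K i X) (ev K i Y) (ev K i W) := by
  simp only [TaV, TaK, ev_mul, ev_inv, ev_mk, bt_and, bt_xor, bt_zero, ho, ev_cm]

/-- A word. -/
noncomputable def TcK (X : P K) (Y : P K) (W : P K) : P K :=
  cm (cm X W) Y * (W * W) * (cm (TaK X Y W) Y)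

/-- A word. -/
def TcV (o : ℕ) (X : V) (Y : V) (W : V) : V :=
  cm (cm X W) Y * (W * W) * (cm (TaV o X Y W) Y)

theorem ev_Tc {i o : ℕ} (ho : bt K i o = 1) (X : V) (Y : V) (W : V) :
    ev K i (TcV o X Y W) = TcK (ev K i X) (ev K i Y) (ev K i W) := by
  simp only [TcV, TcK, ev_mul, ev_inv, ev_mk, bt_and, bt_xor, bt_zero, ho, ev_cm, ev_Ta ho]

/-- A word. -/
noncomputable def TdK (X : P K) (Y : P K) (W : P K) : P K :=
  TaK X Y W * (W * W) * (cm (TaK X Y W) Y)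

/-- A word. -/
def TdV (o : ℕ) (X : V) (Y : V) (W : V) : V :=
  TaV o X Y W * (W * W) * (cm (TaV o X Y W) Y)

theorem ev_Td {i o : ℕ} (ho : bt K i o = 1) (X : V) (Y : V) (W : V) :
    ev K i (TdV o X Y W) = TdK (ev K i X) (ev K i Y) (ev K i W) := by
  simp only [TdV, TdK, ev_mul, ev_inv, ev_mk, bt_and, bt_xor, bt_zero, ho, ev_cm, ev_Ta ho]

/-- A word. -/
noncomputable def TeK (X : P K) (Y : P K) (W : P K) : P K :=
  (cm X W * (TcK X Y W) * W * (W * W) * (TdK X Y W))⁻¹ * (cm X (Y * Y))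

/-- A word. -/
def TeV (o : ℕ) (X : V) (Y : V) (W : V) : V :=
  (cm X W * (TcV o X Y W) * W * (W * W) * (TdV o X Y W))⁻¹ * (cm X (Y * Y))

theorem ev_Te {i o : ℕ} (ho : bt K i o = 1) (X : V) (Y : V) (W : V) :
    ev K i (TeV o X Y W) = TeK (ev K i X) (ev K i Y) (ev K i W) := by
  simp only [TeV, TeK, ev_mul, ev_inv, ev_mk, bt_and, bt_xor, bt_zero, ho, ev_cm, ev_Tc ho, ev_Td ho]

/-- The root images under an automorphism of `S`. -/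
noncomputable def TSK (X : P K) (Y : P K) (W : P K) : Tb (P K) :=
  ⟨X, cm X Y * ((cm X W * (TcK X Y W) * W * (TdK X Y W) * (cm (TaK X Y W) Y) * (cm (TeK X Y W)
    Y))⁻¹), cm X W, TcK X Y W, W, W * W, TdK X Y W, TeK X Y W * (cm (TeK X Y W) Y), cm (TaK X Y W)
    Y, cm (TeK X Y W) Y, Y, Y * Y⟩

/-- The root images under an automorphism of `S`. -/
def TSV (o : ℕ) (X : V) (Y : V) (W : V) : Tb V :=
  ⟨X, cm X Y * ((cm X W * (TcV o X Y W) * W * (TdV o X Y W) * (cm (TaV o X Y W) Y) * (cm (TeV o X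
    Y W) Y))⁻¹), cm X W, TcV o X Y W, W, W * W, TdV o X Y W, TeV o X Y W * (cm (TeV o X Y W) Y), cm
    (TaV o X Y W) Y, cm (TeV o X Y W) Y, Y, Y * Y⟩

theorem ev_TS {i o : ℕ} (ho : bt K i o = 1) (X : V) (Y : V) (W : V) :
    Tb.ev K i (TSV o X Y W) = TSK (ev K i X) (ev K i Y) (ev K i W) := by
  simp only [TSV, TSK, Tb.ev, ev_mul, ev_inv, ev_mk, bt_and, bt_xor, bt_zero, ho, ev_cm, ev_Ta ho, ev_Tc ho,
    ev_Td ho, ev_Te ho]

/-- The automorphisms of `S` normalising the Weyl elements. -/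
noncomputable def ThK (k0 : K) (k1 : K) (k2 : K) (k3 : K) : Tb (P K) :=
  TSK ((⟨1, 0, 1 + k0 + k0 * k1 * k2, 1 + k2, 0, k0 + k0 * k1 + k2 + k3, 1 + k0 + k1 * k2, 0, 0,
    0, 0, 0⟩ : P K)) ((⟨0, 0, 0, k0 + k2 + k1 * k2 + k3, k2 + k1 * k2, k0 + k0 * k1 + k2 * k3 + k1 *
    k2 * k3, k0 + k1 + k0 * k1 + k0 * k2 + k0 * k1 * k2 + k3 + k0 * k3, k0 + k2 + k1 * k2, 1 + k1 +
    k0 * k1 + k2 + k3 + k0 * k3 + k0 * k1 * k2 * k3, k2 + k1 * k2 + k3, 1, 0⟩ : P K)) ((⟨0, 0, 0, k0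
    + k2 + k1 * k2, 1, k0 + k0 * k2 + k1 * k2 + k0 * k1 * k2 + k0 * k3 + k2 * k3 + k1 * k2 * k3, k2
    + k1 * k2 + k3, 0, 1 + k0 + k1 * k2 + k3, 0, 0, 0⟩ : P K))

/-- The automorphisms of `S` normalising the Weyl elements. -/
def ThV (o : ℕ) (k0 : ℕ) (k1 : ℕ) (k2 : ℕ) (k3 : ℕ) : Tb V :=
  TSV o ((⟨o, 0, o ^^^ k0 ^^^ (k0 &&& k1 &&& k2), o ^^^ k2, 0, k0 ^^^ (k0 &&& k1) ^^^ k2 ^^^ k3, o
    ^^^ k0 ^^^ (k1 &&& k2), 0, 0, 0, 0, 0⟩ : V)) ((⟨0, 0, 0, k0 ^^^ k2 ^^^ (k1 &&& k2) ^^^ k3, k2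
    ^^^ (k1 &&& k2), k0 ^^^ (k0 &&& k1) ^^^ (k2 &&& k3) ^^^ (k1 &&& k2 &&& k3), k0 ^^^ k1 ^^^ (k0
    &&& k1) ^^^ (k0 &&& k2) ^^^ (k0 &&& k1 &&& k2) ^^^ k3 ^^^ (k0 &&& k3), k0 ^^^ k2 ^^^ (k1 &&&
    k2), o ^^^ k1 ^^^ (k0 &&& k1) ^^^ k2 ^^^ k3 ^^^ (k0 &&& k3) ^^^ (k0 &&& k1 &&& k2 &&& k3), k2
    ^^^ (k1 &&& k2) ^^^ k3, o, 0⟩ : V)) ((⟨0, 0, 0, k0 ^^^ k2 ^^^ (k1 &&& k2), o, k0 ^^^ (k0 &&& k2)
    ^^^ (k1 &&& k2) ^^^ (k0 &&& k1 &&& k2) ^^^ (k0 &&& k3) ^^^ (k2 &&& k3) ^^^ (k1 &&& k2 &&& k3),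
    k2 ^^^ (k1 &&& k2) ^^^ k3, 0, o ^^^ k0 ^^^ (k1 &&& k2) ^^^ k3, 0, 0, 0⟩ : V))

theorem ev_Th {i o : ℕ} (ho : bt K i o = 1) (k0 : ℕ) (k1 : ℕ) (k2 : ℕ) (k3 : ℕ) :
    Tb.ev K i (ThV o k0 k1 k2 k3) = ThK (bt K i k0) (bt K i k1) (bt K i k2) (bt K i k3) := by
  simp only [ThV, ThK, ev_mul, ev_inv, ev_mk, bt_and, bt_xor, bt_zero, ho, ev_TS ho]

/-- The correcting conjugation in `Q₁`. -/
noncomputable def GaK (k0 : K) (k1 : K) (k2 : K) (k3 : K) : P K :=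
  (⟨0, k0 + k2 + k1 * k2, k3, 1 + k1 + k0 * k1 + k2 + k0 * k2 + k3, 1 + k0 + k0 * k2, 0, k0 + k1 *
    k2 + k0 * k3, 1 + k0 * k1 * k2, 0, 1 + k1 + k0 * k1 + k2 + k0 * k2 + k3, k2 + k1 * k2, k0 + k2 +
    k1 * k2 + k3⟩ : P K)

/-- The correcting conjugation in `Q₁`. -/
def GaV (o : ℕ) (k0 : ℕ) (k1 : ℕ) (k2 : ℕ) (k3 : ℕ) : V :=
  (⟨0, k0 ^^^ k2 ^^^ (k1 &&& k2), k3, o ^^^ k1 ^^^ (k0 &&& k1) ^^^ k2 ^^^ (k0 &&& k2) ^^^ k3, o
    ^^^ k0 ^^^ (k0 &&& k2), 0, k0 ^^^ (k1 &&& k2) ^^^ (k0 &&& k3), o ^^^ (k0 &&& k1 &&& k2), 0, o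
    ^^^ k1 ^^^ (k0 &&& k1) ^^^ k2 ^^^ (k0 &&& k2) ^^^ k3, k2 ^^^ (k1 &&& k2), k0 ^^^ k2 ^^^ (k1 &&&
    k2) ^^^ k3⟩ : V)

theorem ev_Ga {i o : ℕ} (ho : bt K i o = 1) (k0 : ℕ) (k1 : ℕ) (k2 : ℕ) (k3 : ℕ) :
    ev K i (GaV o k0 k1 k2 k3) = GaK (bt K i k0) (bt K i k1) (bt K i k2) (bt K i k3) := by
  simp only [GaV, GaK, ev_mul, ev_inv, ev_mk, bt_and, bt_xor, bt_zero, ho]

/-- The correcting conjugation in `Q₂`. -/
noncomputable def GbK (k0 : K) (k1 : K) (k2 : K) (k3 : K) : P K :=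
  (⟨1 + k0 + k1 * k2, k0, k0 + k0 * k1 + k0 * k2 + k1 * k2 + k0 * k1 * k2, k0 + k0 * k3, k3, 0, k0
    + k0 * k3, k0, k0 * k1 + k0 * k2 + k1 * k2 + k0 * k1 * k2 + k3, 1 + k0 + k1 * k2, 0, 0⟩ : P K)

/-- The correcting conjugation in `Q₂`. -/
def GbV (o : ℕ) (k0 : ℕ) (k1 : ℕ) (k2 : ℕ) (k3 : ℕ) : V :=
  (⟨o ^^^ k0 ^^^ (k1 &&& k2), k0, k0 ^^^ (k0 &&& k1) ^^^ (k0 &&& k2) ^^^ (k1 &&& k2) ^^^ (k0 &&&
    k1 &&& k2), k0 ^^^ (k0 &&& k3), k3, 0, k0 ^^^ (k0 &&& k3), k0, (k0 &&& k1) ^^^ (k0 &&& k2) ^^^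
    (k1 &&& k2) ^^^ (k0 &&& k1 &&& k2) ^^^ k3, o ^^^ k0 ^^^ (k1 &&& k2), 0, 0⟩ : V)

theorem ev_Gb {i o : ℕ} (ho : bt K i o = 1) (k0 : ℕ) (k1 : ℕ) (k2 : ℕ) (k3 : ℕ) :
    ev K i (GbV o k0 k1 k2 k3) = GbK (bt K i k0) (bt K i k1) (bt K i k2) (bt K i k3) := by
  simp only [GbV, GbK, ev_mul, ev_inv, ev_mk, bt_and, bt_xor, bt_zero, ho]

/-- Failure positions. -/
def homAH (o : ℕ) (x : V) (k0 : ℕ) (k1 : ℕ) (k2 : ℕ) (k3 : ℕ) : ℕ :=
  0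

/-- Failure positions. -/
def homAC (o : ℕ) (x : V) (k0 : ℕ) (k1 : ℕ) (k2 : ℕ) (k3 : ℕ) : ℕ :=
  (apV (ThV o k0 k1 k2 k3) (x * (vx1 o))).df (apV (ThV o k0 k1 k2 k3) x * (apV (ThV o k0 k1 k2 k3)
    (vx1 o))) ||| (apV (ThV o k0 k1 k2 k3) (x * (vy2 o))).df (apV (ThV o k0 k1 k2 k3) x * (apV (ThV
    o k0 k1 k2 k3) (vy2 o))) ||| (apV (ThV o k0 k1 k2 k3) (x * (vz2 o))).df (apV (ThV o k0 k1 k2 k3)
    x * (apV (ThV o k0 k1 k2 k3) (vz2 o))) ||| (apV (ThV o k0 k1 k2 k3) (x * (vx3 o))).df (apV (ThV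
    o k0 k1 k2 k3) x * (apV (ThV o k0 k1 k2 k3) (vx3 o)))

theorem homA_chk : homAC (ones 16) ⟨var 16 0, var 16 1, var 16 2, var 16 3, var 16 4, var 16 5, var 16 6, var 16 7,
    var 16 8, var 16 9, var 16 10, var 16 11⟩ (var 16 12) (var 16 13) (var 16 14) (var 16 15) |||
    homAH (ones 16) ⟨var 16 0, var 16 1, var 16 2, var 16 3, var 16 4, var 16 5, var 16 6, var 16 7,
    var 16 8, var 16 9, var 16 10, var 16 11⟩ (var 16 12) (var 16 13) (var 16 14) (var 16 15) =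
    homAH (ones 16) ⟨var 16 0, var 16 1, var 16 2, var 16 3, var 16 4, var 16 5, var 16 6, var 16 7,
    var 16 8, var 16 9, var 16 10, var 16 11⟩ (var 16 12) (var 16 13) (var 16 14) (var 16 15) := by
  decide +kernel

theorem homA (hK : ∀ μ : K, μ = 0 ∨ μ = 1) {x : P K} {k0 k1 k2 k3 : K} : apK (ThK k0 k1 k2 k3)
    (x * (rx1 (1 : K))) = apK (ThK k0 k1 k2 k3) x * (apK (ThK k0 k1 k2 k3) (rx1 (1 : K))) ∧ apK (ThK
    k0 k1 k2 k3) (x * (ry2 (1 : K))) = apK (ThK k0 k1 k2 k3) x * (apK (ThK k0 k1 k2 k3) (ry2 (1 :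
    K))) ∧ apK (ThK k0 k1 k2 k3) (x * (rz2 (1 : K))) = apK (ThK k0 k1 k2 k3) x * (apK (ThK k0 k1 k2
    k3) (rz2 (1 : K))) ∧ apK (ThK k0 k1 k2 k3) (x * (rx3 (1 : K))) = apK (ThK k0 k1 k2 k3) x * (apK
    (ThK k0 k1 k2 k3) (rx3 (1 : K))) := by
  obtain ⟨i, hi, hv⟩ := exists_bt hK 16 fun n =>
    ([x.x1, x.y2, x.z2, x.x3, x.y4, x.z4, x.x5, x.y6, x.z6, x.x7, x.y8, x.z8, k0, k1, k2, k3] : List
    K).getD n 0
  have ho := bt_ones (K := K) hi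
  have v0 : bt K i (var 16 0) = x.x1 := hv 0 (by decide)
  have v1 : bt K i (var 16 1) = x.y2 := hv 1 (by decide)
  have v2 : bt K i (var 16 2) = x.z2 := hv 2 (by decide)
  have v3 : bt K i (var 16 3) = x.x3 := hv 3 (by decide)
  have v4 : bt K i (var 16 4) = x.y4 := hv 4 (by decide)
  have v5 : bt K i (var 16 5) = x.z4 := hv 5 (by decide)
  have v6 : bt K i (var 16 6) = x.x5 := hv 6 (by decide)
  have v7 : bt K i (var 16 7) = x.y6 := hv 7 (by decide)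
  have v8 : bt K i (var 16 8) = x.z6 := hv 8 (by decide)
  have v9 : bt K i (var 16 9) = x.x7 := hv 9 (by decide)
  have v10 : bt K i (var 16 10) = x.y8 := hv 10 (by decide)
  have v11 : bt K i (var 16 11) = x.z8 := hv 11 (by decide)
  have v12 : bt K i (var 16 12) = k0 := hv 12 (by decide)
  have v13 : bt K i (var 16 13) = k1 := hv 13 (by decide)
  have v14 : bt K i (var 16 14) = k2 := hv 14 (by decide)
  have v15 : bt K i (var 16 15) = k3 := hv 15 (by decide)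
  have kx : (⟨x.x1, x.y2, x.z2, x.x3, x.y4, x.z4, x.x5, x.y6, x.z6, x.x7, x.y8, x.z8⟩ : P K) = x := rfl
  have := imp (K := K) (i := i) homA_chk (bt_zero i)
  simpa only [homAC, bt_or_eq_zero, df_iff, and_assoc, ev_mul, ev_inv, ev_mk, bt_and, bt_xor, bt_zero, ho,
    ev_ap, ev_vx1 ho, ev_vy2 ho, ev_vz2 ho, ev_vx3 ho, v0, v1, v2, v3, v4, v5, v6, v7, v8, v9, v10,
    v11, v12, v13, v14, v15, kx, ev_Th ho] using this

/-- Failure positions. -/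
def homBH (o : ℕ) (x : V) (k0 : ℕ) (k1 : ℕ) (k2 : ℕ) (k3 : ℕ) : ℕ :=
  0

/-- Failure positions. -/
def homBC (o : ℕ) (x : V) (k0 : ℕ) (k1 : ℕ) (k2 : ℕ) (k3 : ℕ) : ℕ :=
  (apV (ThV o k0 k1 k2 k3) (x * (vy4 o))).df (apV (ThV o k0 k1 k2 k3) x * (apV (ThV o k0 k1 k2 k3)
    (vy4 o))) ||| (apV (ThV o k0 k1 k2 k3) (x * (vz4 o))).df (apV (ThV o k0 k1 k2 k3) x * (apV (ThV
    o k0 k1 k2 k3) (vz4 o))) ||| (apV (ThV o k0 k1 k2 k3) (x * (vx5 o))).df (apV (ThV o k0 k1 k2 k3)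
    x * (apV (ThV o k0 k1 k2 k3) (vx5 o))) ||| (apV (ThV o k0 k1 k2 k3) (x * (vy6 o))).df (apV (ThV
    o k0 k1 k2 k3) x * (apV (ThV o k0 k1 k2 k3) (vy6 o)))

theorem homB_chk : homBC (ones 16) ⟨var 16 0, var 16 1, var 16 2, var 16 3, var 16 4, var 16 5, var 16 6, var 16 7,
    var 16 8, var 16 9, var 16 10, var 16 11⟩ (var 16 12) (var 16 13) (var 16 14) (var 16 15) |||
    homBH (ones 16) ⟨var 16 0, var 16 1, var 16 2, var 16 3, var 16 4, var 16 5, var 16 6, var 16 7,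
    var 16 8, var 16 9, var 16 10, var 16 11⟩ (var 16 12) (var 16 13) (var 16 14) (var 16 15) =
    homBH (ones 16) ⟨var 16 0, var 16 1, var 16 2, var 16 3, var 16 4, var 16 5, var 16 6, var 16 7,
    var 16 8, var 16 9, var 16 10, var 16 11⟩ (var 16 12) (var 16 13) (var 16 14) (var 16 15) := by
  decide +kernel

theorem homB (hK : ∀ μ : K, μ = 0 ∨ μ = 1) {x : P K} {k0 k1 k2 k3 : K} : apK (ThK k0 k1 k2 k3)
    (x * (ry4 (1 : K))) = apK (ThK k0 k1 k2 k3) x * (apK (ThK k0 k1 k2 k3) (ry4 (1 : K))) ∧ apK (ThK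
    k0 k1 k2 k3) (x * (rz4 (1 : K))) = apK (ThK k0 k1 k2 k3) x * (apK (ThK k0 k1 k2 k3) (rz4 (1 :
    K))) ∧ apK (ThK k0 k1 k2 k3) (x * (rx5 (1 : K))) = apK (ThK k0 k1 k2 k3) x * (apK (ThK k0 k1 k2
    k3) (rx5 (1 : K))) ∧ apK (ThK k0 k1 k2 k3) (x * (ry6 (1 : K))) = apK (ThK k0 k1 k2 k3) x * (apK
    (ThK k0 k1 k2 k3) (ry6 (1 : K))) := by
  obtain ⟨i, hi, hv⟩ := exists_bt hK 16 fun n =>
    ([x.x1, x.y2, x.z2, x.x3, x.y4, x.z4, x.x5, x.y6, x.z6, x.x7, x.y8, x.z8, k0, k1, k2, k3] : List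
    K).getD n 0
  have ho := bt_ones (K := K) hi
  have v0 : bt K i (var 16 0) = x.x1 := hv 0 (by decide)
  have v1 : bt K i (var 16 1) = x.y2 := hv 1 (by decide)
  have v2 : bt K i (var 16 2) = x.z2 := hv 2 (by decide)
  have v3 : bt K i (var 16 3) = x.x3 := hv 3 (by decide)
  have v4 : bt K i (var 16 4) = x.y4 := hv 4 (by decide)
  have v5 : bt K i (var 16 5) = x.z4 := hv 5 (by decide)
  have v6 : bt K i (var 16 6) = x.x5 := hv 6 (by decide)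
  have v7 : bt K i (var 16 7) = x.y6 := hv 7 (by decide)
  have v8 : bt K i (var 16 8) = x.z6 := hv 8 (by decide)
  have v9 : bt K i (var 16 9) = x.x7 := hv 9 (by decide)
  have v10 : bt K i (var 16 10) = x.y8 := hv 10 (by decide)
  have v11 : bt K i (var 16 11) = x.z8 := hv 11 (by decide)
  have v12 : bt K i (var 16 12) = k0 := hv 12 (by decide)
  have v13 : bt K i (var 16 13) = k1 := hv 13 (by decide)
  have v14 : bt K i (var 16 14) = k2 := hv 14 (by decide)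
  have v15 : bt K i (var 16 15) = k3 := hv 15 (by decide)
  have kx : (⟨x.x1, x.y2, x.z2, x.x3, x.y4, x.z4, x.x5, x.y6, x.z6, x.x7, x.y8, x.z8⟩ : P K) = x := rfl
  have := imp (K := K) (i := i) homB_chk (bt_zero i)
  simpa only [homBC, bt_or_eq_zero, df_iff, and_assoc, ev_mul, ev_inv, ev_mk, bt_and, bt_xor, bt_zero, ho,
    ev_ap, ev_vy4 ho, ev_vz4 ho, ev_vx5 ho, ev_vy6 ho, v0, v1, v2, v3, v4, v5, v6, v7, v8, v9, v10,
    v11, v12, v13, v14, v15, kx, ev_Th ho] using this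

/-- Failure positions. -/
def homCH (o : ℕ) (x : V) (k0 : ℕ) (k1 : ℕ) (k2 : ℕ) (k3 : ℕ) : ℕ :=
  0

/-- Failure positions. -/
def homCC (o : ℕ) (x : V) (k0 : ℕ) (k1 : ℕ) (k2 : ℕ) (k3 : ℕ) : ℕ :=
  (apV (ThV o k0 k1 k2 k3) (x * (vz6 o))).df (apV (ThV o k0 k1 k2 k3) x * (apV (ThV o k0 k1 k2 k3)
    (vz6 o))) ||| (apV (ThV o k0 k1 k2 k3) (x * (vx7 o))).df (apV (ThV o k0 k1 k2 k3) x * (apV (ThV
    o k0 k1 k2 k3) (vx7 o))) ||| (apV (ThV o k0 k1 k2 k3) (x * (vy8 o))).df (apV (ThV o k0 k1 k2 k3)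
    x * (apV (ThV o k0 k1 k2 k3) (vy8 o))) ||| (apV (ThV o k0 k1 k2 k3) (x * (vz8 o))).df (apV (ThV
    o k0 k1 k2 k3) x * (apV (ThV o k0 k1 k2 k3) (vz8 o)))

theorem homC_chk : homCC (ones 16) ⟨var 16 0, var 16 1, var 16 2, var 16 3, var 16 4, var 16 5, var 16 6, var 16 7,
    var 16 8, var 16 9, var 16 10, var 16 11⟩ (var 16 12) (var 16 13) (var 16 14) (var 16 15) |||
    homCH (ones 16) ⟨var 16 0, var 16 1, var 16 2, var 16 3, var 16 4, var 16 5, var 16 6, var 16 7,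
    var 16 8, var 16 9, var 16 10, var 16 11⟩ (var 16 12) (var 16 13) (var 16 14) (var 16 15) =
    homCH (ones 16) ⟨var 16 0, var 16 1, var 16 2, var 16 3, var 16 4, var 16 5, var 16 6, var 16 7,
    var 16 8, var 16 9, var 16 10, var 16 11⟩ (var 16 12) (var 16 13) (var 16 14) (var 16 15) := by
  decide +kernel

theorem homC (hK : ∀ μ : K, μ = 0 ∨ μ = 1) {x : P K} {k0 k1 k2 k3 : K} : apK (ThK k0 k1 k2 k3)
    (x * (rz6 (1 : K))) = apK (ThK k0 k1 k2 k3) x * (apK (ThK k0 k1 k2 k3) (rz6 (1 : K))) ∧ apK (ThK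
    k0 k1 k2 k3) (x * (rx7 (1 : K))) = apK (ThK k0 k1 k2 k3) x * (apK (ThK k0 k1 k2 k3) (rx7 (1 :
    K))) ∧ apK (ThK k0 k1 k2 k3) (x * (ry8 (1 : K))) = apK (ThK k0 k1 k2 k3) x * (apK (ThK k0 k1 k2
    k3) (ry8 (1 : K))) ∧ apK (ThK k0 k1 k2 k3) (x * (rz8 (1 : K))) = apK (ThK k0 k1 k2 k3) x * (apK
    (ThK k0 k1 k2 k3) (rz8 (1 : K))) := by
  obtain ⟨i, hi, hv⟩ := exists_bt hK 16 fun n =>
    ([x.x1, x.y2, x.z2, x.x3, x.y4, x.z4, x.x5, x.y6, x.z6, x.x7, x.y8, x.z8, k0, k1, k2, k3] : List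
    K).getD n 0
  have ho := bt_ones (K := K) hi
  have v0 : bt K i (var 16 0) = x.x1 := hv 0 (by decide)
  have v1 : bt K i (var 16 1) = x.y2 := hv 1 (by decide)
  have v2 : bt K i (var 16 2) = x.z2 := hv 2 (by decide)
  have v3 : bt K i (var 16 3) = x.x3 := hv 3 (by decide)
  have v4 : bt K i (var 16 4) = x.y4 := hv 4 (by decide)
  have v5 : bt K i (var 16 5) = x.z4 := hv 5 (by decide)
  have v6 : bt K i (var 16 6) = x.x5 := hv 6 (by decide)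
  have v7 : bt K i (var 16 7) = x.y6 := hv 7 (by decide)
  have v8 : bt K i (var 16 8) = x.z6 := hv 8 (by decide)
  have v9 : bt K i (var 16 9) = x.x7 := hv 9 (by decide)
  have v10 : bt K i (var 16 10) = x.y8 := hv 10 (by decide)
  have v11 : bt K i (var 16 11) = x.z8 := hv 11 (by decide)
  have v12 : bt K i (var 16 12) = k0 := hv 12 (by decide)
  have v13 : bt K i (var 16 13) = k1 := hv 13 (by decide)
  have v14 : bt K i (var 16 14) = k2 := hv 14 (by decide)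
  have v15 : bt K i (var 16 15) = k3 := hv 15 (by decide)
  have kx : (⟨x.x1, x.y2, x.z2, x.x3, x.y4, x.z4, x.x5, x.y6, x.z6, x.x7, x.y8, x.z8⟩ : P K) = x := rfl
  have := imp (K := K) (i := i) homC_chk (bt_zero i)
  simpa only [homCC, bt_or_eq_zero, df_iff, and_assoc, ev_mul, ev_inv, ev_mk, bt_and, bt_xor, bt_zero, ho,
    ev_ap, ev_vz6 ho, ev_vx7 ho, ev_vy8 ho, ev_vz8 ho, v0, v1, v2, v3, v4, v5, v6, v7, v8, v9, v10,
    v11, v12, v13, v14, v15, kx, ev_Th ho] using this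

/-- Failure positions. -/
def kerTH (o : ℕ) (x : V) (k0 : ℕ) (k1 : ℕ) (k2 : ℕ) (k3 : ℕ) : ℕ :=
  (apV (ThV o k0 k1 k2 k3) x).df ((⟨0, 0, 0, 0, 0, 0, 0, 0, 0, 0, 0, 0⟩ : V))

/-- Failure positions. -/
def kerTC (o : ℕ) (x : V) (k0 : ℕ) (k1 : ℕ) (k2 : ℕ) (k3 : ℕ) : ℕ :=
  (x).df ((⟨0, 0, 0, 0, 0, 0, 0, 0, 0, 0, 0, 0⟩ : V))

theorem kerT_chk : kerTC (ones 16) ⟨var 16 0, var 16 1, var 16 2, var 16 3, var 16 4, var 16 5, var 16 6, var 16 7,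
    var 16 8, var 16 9, var 16 10, var 16 11⟩ (var 16 12) (var 16 13) (var 16 14) (var 16 15) |||
    kerTH (ones 16) ⟨var 16 0, var 16 1, var 16 2, var 16 3, var 16 4, var 16 5, var 16 6, var 16 7,
    var 16 8, var 16 9, var 16 10, var 16 11⟩ (var 16 12) (var 16 13) (var 16 14) (var 16 15) =
    kerTH (ones 16) ⟨var 16 0, var 16 1, var 16 2, var 16 3, var 16 4, var 16 5, var 16 6, var 16 7,
    var 16 8, var 16 9, var 16 10, var 16 11⟩ (var 16 12) (var 16 13) (var 16 14) (var 16 15) := by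
  decide +kernel

theorem kerT (hK : ∀ μ : K, μ = 0 ∨ μ = 1) {x : P K} {k0 k1 k2 k3 : K} (h0 : apK (ThK k0 k1 k2
    k3) x = (⟨0, 0, 0, 0, 0, 0, 0, 0, 0, 0, 0, 0⟩ : P K)) : x = (⟨0, 0, 0, 0, 0, 0, 0, 0, 0, 0, 0,
    0⟩ : P K) := by
  obtain ⟨i, hi, hv⟩ := exists_bt hK 16 fun n =>
    ([x.x1, x.y2, x.z2, x.x3, x.y4, x.z4, x.x5, x.y6, x.z6, x.x7, x.y8, x.z8, k0, k1, k2, k3] : List
    K).getD n 0
  have ho := bt_ones (K := K) hi
  have v0 : bt K i (var 16 0) = x.x1 := hv 0 (by decide)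
  have v1 : bt K i (var 16 1) = x.y2 := hv 1 (by decide)
  have v2 : bt K i (var 16 2) = x.z2 := hv 2 (by decide)
  have v3 : bt K i (var 16 3) = x.x3 := hv 3 (by decide)
  have v4 : bt K i (var 16 4) = x.y4 := hv 4 (by decide)
  have v5 : bt K i (var 16 5) = x.z4 := hv 5 (by decide)
  have v6 : bt K i (var 16 6) = x.x5 := hv 6 (by decide)
  have v7 : bt K i (var 16 7) = x.y6 := hv 7 (by decide)
  have v8 : bt K i (var 16 8) = x.z6 := hv 8 (by decide)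
  have v9 : bt K i (var 16 9) = x.x7 := hv 9 (by decide)
  have v10 : bt K i (var 16 10) = x.y8 := hv 10 (by decide)
  have v11 : bt K i (var 16 11) = x.z8 := hv 11 (by decide)
  have v12 : bt K i (var 16 12) = k0 := hv 12 (by decide)
  have v13 : bt K i (var 16 13) = k1 := hv 13 (by decide)
  have v14 : bt K i (var 16 14) = k2 := hv 14 (by decide)
  have v15 : bt K i (var 16 15) = k3 := hv 15 (by decide)
  have kx : (⟨x.x1, x.y2, x.z2, x.x3, x.y4, x.z4, x.x5, x.y6, x.z6, x.x7, x.y8, x.z8⟩ : P K) = x := rfl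
  have := imp (K := K) (i := i) kerT_chk (by
    simp only [kerTH, bt_or_eq_zero, df_iff, and_assoc, ev_mul, ev_inv, ev_mk, bt_and, bt_xor, bt_zero, ho,
      ev_ap, v0, v1, v2, v3, v4, v5, v6, v7, v8, v9, v10, v11, v12, v13, v14, v15, kx, ev_Th ho]
    exact h0)
  simpa only [kerTC, bt_or_eq_zero, df_iff, and_assoc, ev_mul, ev_inv, ev_mk, bt_and, bt_xor, bt_zero, ho,
    ev_ap, v0, v1, v2, v3, v4, v5, v6, v7, v8, v9, v10, v11, v12, v13, v14, v15, kx, ev_Th ho] using this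

/-- Failure positions. -/
def mapAH (o : ℕ) (x : V) (k0 : ℕ) (k1 : ℕ) (k2 : ℕ) (k3 : ℕ) : ℕ :=
  0

/-- Failure positions. -/
def mapAC (o : ℕ) (x : V) (k0 : ℕ) (k1 : ℕ) (k2 : ℕ) (k3 : ℕ) : ℕ :=
  ((apV (ThV o k0 k1 k2 k3) x).x1)

theorem mapA_chk : mapAC (ones 15) ⟨0, var 15 0, var 15 1, var 15 2, var 15 3, var 15 4, var 15 5, var 15 6, var 15
    7, var 15 8, var 15 9, var 15 10⟩ (var 15 11) (var 15 12) (var 15 13) (var 15 14) ||| mapAH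
    (ones 15) ⟨0, var 15 0, var 15 1, var 15 2, var 15 3, var 15 4, var 15 5, var 15 6, var 15 7,
    var 15 8, var 15 9, var 15 10⟩ (var 15 11) (var 15 12) (var 15 13) (var 15 14) = mapAH (ones 15)
    ⟨0, var 15 0, var 15 1, var 15 2, var 15 3, var 15 4, var 15 5, var 15 6, var 15 7, var 15 8,
    var 15 9, var 15 10⟩ (var 15 11) (var 15 12) (var 15 13) (var 15 14) := by
  decide +kernel

theorem mapA (hK : ∀ μ : K, μ = 0 ∨ μ = 1) {x : P K} {k0 k1 k2 k3 : K} (ex : x = (⟨0, x.y2,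
    x.z2, x.x3, x.y4, x.z4, x.x5, x.y6, x.z6, x.x7, x.y8, x.z8⟩ : P K)) : (apK (ThK k0 k1 k2 k3)
    x).x1 = 0 := by
  obtain ⟨i, hi, hv⟩ := exists_bt hK 15 fun n =>
    ([x.y2, x.z2, x.x3, x.y4, x.z4, x.x5, x.y6, x.z6, x.x7, x.y8, x.z8, k0, k1, k2, k3] : List
    K).getD n 0
  have ho := bt_ones (K := K) hi
  have v0 : bt K i (var 15 0) = x.y2 := hv 0 (by decide)
  have v1 : bt K i (var 15 1) = x.z2 := hv 1 (by decide)
  have v2 : bt K i (var 15 2) = x.x3 := hv 2 (by decide)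
  have v3 : bt K i (var 15 3) = x.y4 := hv 3 (by decide)
  have v4 : bt K i (var 15 4) = x.z4 := hv 4 (by decide)
  have v5 : bt K i (var 15 5) = x.x5 := hv 5 (by decide)
  have v6 : bt K i (var 15 6) = x.y6 := hv 6 (by decide)
  have v7 : bt K i (var 15 7) = x.z6 := hv 7 (by decide)
  have v8 : bt K i (var 15 8) = x.x7 := hv 8 (by decide)
  have v9 : bt K i (var 15 9) = x.y8 := hv 9 (by decide)
  have v10 : bt K i (var 15 10) = x.z8 := hv 10 (by decide)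
  have v11 : bt K i (var 15 11) = k0 := hv 11 (by decide)
  have v12 : bt K i (var 15 12) = k1 := hv 12 (by decide)
  have v13 : bt K i (var 15 13) = k2 := hv 13 (by decide)
  have v14 : bt K i (var 15 14) = k3 := hv 14 (by decide)
  have kx : (⟨0, x.y2, x.z2, x.x3, x.y4, x.z4, x.x5, x.y6, x.z6, x.x7, x.y8, x.z8⟩ : P K) = x := ex.symm
  have := imp (K := K) (i := i) mapA_chk (bt_zero i)
  simpa only [mapAC, bt_or_eq_zero, df_iff, and_assoc, ev_mul, ev_inv, ev_mk, bt_and, bt_xor, bt_zero, ho,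
    ev_ap, bt_x1, tb_x1, v0, v1, v2, v3, v4, v5, v6, v7, v8, v9, v10, v11, v12, v13, v14, kx, ev_Th
    ho] using this

/-- Failure positions. -/
def mapBH (o : ℕ) (x : V) (k0 : ℕ) (k1 : ℕ) (k2 : ℕ) (k3 : ℕ) : ℕ :=
  0

/-- Failure positions. -/
def mapBC (o : ℕ) (x : V) (k0 : ℕ) (k1 : ℕ) (k2 : ℕ) (k3 : ℕ) : ℕ :=
  ((apV (ThV o k0 k1 k2 k3) x).y8) ||| ((apV (ThV o k0 k1 k2 k3) x).z8)

theorem mapB_chk : mapBC (ones 14) ⟨var 14 0, var 14 1, var 14 2, var 14 3, var 14 4, var 14 5, var 14 6, var 14 7,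
    var 14 8, var 14 9, 0, 0⟩ (var 14 10) (var 14 11) (var 14 12) (var 14 13) ||| mapBH (ones 14)
    ⟨var 14 0, var 14 1, var 14 2, var 14 3, var 14 4, var 14 5, var 14 6, var 14 7, var 14 8, var
    14 9, 0, 0⟩ (var 14 10) (var 14 11) (var 14 12) (var 14 13) = mapBH (ones 14) ⟨var 14 0, var 14
    1, var 14 2, var 14 3, var 14 4, var 14 5, var 14 6, var 14 7, var 14 8, var 14 9, 0, 0⟩ (var 14
    10) (var 14 11) (var 14 12) (var 14 13) := by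
  decide +kernel

theorem mapB (hK : ∀ μ : K, μ = 0 ∨ μ = 1) {x : P K} {k0 k1 k2 k3 : K} (ex : x = (⟨x.x1, x.y2,
    x.z2, x.x3, x.y4, x.z4, x.x5, x.y6, x.z6, x.x7, 0, 0⟩ : P K)) : (apK (ThK k0 k1 k2 k3) x).y8 = 0
    ∧ (apK (ThK k0 k1 k2 k3) x).z8 = 0 := by
  obtain ⟨i, hi, hv⟩ := exists_bt hK 14 fun n =>
    ([x.x1, x.y2, x.z2, x.x3, x.y4, x.z4, x.x5, x.y6, x.z6, x.x7, k0, k1, k2, k3] : List K).getD n 0
  have ho := bt_ones (K := K) hi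
  have v0 : bt K i (var 14 0) = x.x1 := hv 0 (by decide)
  have v1 : bt K i (var 14 1) = x.y2 := hv 1 (by decide)
  have v2 : bt K i (var 14 2) = x.z2 := hv 2 (by decide)
  have v3 : bt K i (var 14 3) = x.x3 := hv 3 (by decide)
  have v4 : bt K i (var 14 4) = x.y4 := hv 4 (by decide)
  have v5 : bt K i (var 14 5) = x.z4 := hv 5 (by decide)
  have v6 : bt K i (var 14 6) = x.x5 := hv 6 (by decide)
  have v7 : bt K i (var 14 7) = x.y6 := hv 7 (by decide)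
  have v8 : bt K i (var 14 8) = x.z6 := hv 8 (by decide)
  have v9 : bt K i (var 14 9) = x.x7 := hv 9 (by decide)
  have v10 : bt K i (var 14 10) = k0 := hv 10 (by decide)
  have v11 : bt K i (var 14 11) = k1 := hv 11 (by decide)
  have v12 : bt K i (var 14 12) = k2 := hv 12 (by decide)
  have v13 : bt K i (var 14 13) = k3 := hv 13 (by decide)
  have kx : (⟨x.x1, x.y2, x.z2, x.x3, x.y4, x.z4, x.x5, x.y6, x.z6, x.x7, 0, 0⟩ : P K) = x := ex.symm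
  have := imp (K := K) (i := i) mapB_chk (bt_zero i)
  simpa only [mapBC, bt_or_eq_zero, df_iff, and_assoc, ev_mul, ev_inv, ev_mk, bt_and, bt_xor, bt_zero, ho,
    ev_ap, bt_y8, bt_z8, tb_y8, tb_z8, v0, v1, v2, v3, v4, v5, v6, v7, v8, v9, v10, v11, v12, v13,
    kx, ev_Th ho] using this

/-- Failure positions. -/
def eqAH (o : ℕ) (x : V) (k0 : ℕ) (k1 : ℕ) (k2 : ℕ) (k3 : ℕ) : ℕ :=
  0

/-- Failure positions. -/
def eqAC (o : ℕ) (x : V) (k0 : ℕ) (k1 : ℕ) (k2 : ℕ) (k3 : ℕ) : ℕ :=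
  (apV (ThV o k0 k1 k2 k3) (GaV o k0 k1 k2 k3 * (apV (W1V o k0 (k0 ^^^ k1 ^^^ (k0 &&& k2)) (k0 ^^^
    (k0 &&& k2)) k0 k1 k2 k2) x) * ((GaV o k0 k1 k2 k3)⁻¹))).df (apV (W1V o 0 0 0 0 0 0 0) (apV (ThV
    o k0 k1 k2 k3) x))

theorem eqA_chk : eqAC (ones 15) ⟨0, var 15 0, var 15 1, var 15 2, var 15 3, var 15 4, var 15 5, var 15 6, var 15
    7, var 15 8, var 15 9, var 15 10⟩ (var 15 11) (var 15 12) (var 15 13) (var 15 14) ||| eqAH (ones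
    15) ⟨0, var 15 0, var 15 1, var 15 2, var 15 3, var 15 4, var 15 5, var 15 6, var 15 7, var 15
    8, var 15 9, var 15 10⟩ (var 15 11) (var 15 12) (var 15 13) (var 15 14) = eqAH (ones 15) ⟨0, var
    15 0, var 15 1, var 15 2, var 15 3, var 15 4, var 15 5, var 15 6, var 15 7, var 15 8, var 15 9,
    var 15 10⟩ (var 15 11) (var 15 12) (var 15 13) (var 15 14) := by
  decide +kernel

theorem eqA (hK : ∀ μ : K, μ = 0 ∨ μ = 1) {x : P K} {k0 k1 k2 k3 : K} (ex : x = (⟨0, x.y2, x.z2,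
    x.x3, x.y4, x.z4, x.x5, x.y6, x.z6, x.x7, x.y8, x.z8⟩ : P K)) : apK (ThK k0 k1 k2 k3) (GaK k0 k1
    k2 k3 * (apK (W1K k0 (k0 + k1 + k0 * k2) (k0 + k0 * k2) k0 k1 k2 k2) x) * ((GaK k0 k1 k2 k3)⁻¹))
    = apK (W1K 0 0 0 0 0 0 0) (apK (ThK k0 k1 k2 k3) x) := by
  obtain ⟨i, hi, hv⟩ := exists_bt hK 15 fun n =>
    ([x.y2, x.z2, x.x3, x.y4, x.z4, x.x5, x.y6, x.z6, x.x7, x.y8, x.z8, k0, k1, k2, k3] : List
    K).getD n 0
  have ho := bt_ones (K := K) hi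
  have v0 : bt K i (var 15 0) = x.y2 := hv 0 (by decide)
  have v1 : bt K i (var 15 1) = x.z2 := hv 1 (by decide)
  have v2 : bt K i (var 15 2) = x.x3 := hv 2 (by decide)
  have v3 : bt K i (var 15 3) = x.y4 := hv 3 (by decide)
  have v4 : bt K i (var 15 4) = x.z4 := hv 4 (by decide)
  have v5 : bt K i (var 15 5) = x.x5 := hv 5 (by decide)
  have v6 : bt K i (var 15 6) = x.y6 := hv 6 (by decide)
  have v7 : bt K i (var 15 7) = x.z6 := hv 7 (by decide)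
  have v8 : bt K i (var 15 8) = x.x7 := hv 8 (by decide)
  have v9 : bt K i (var 15 9) = x.y8 := hv 9 (by decide)
  have v10 : bt K i (var 15 10) = x.z8 := hv 10 (by decide)
  have v11 : bt K i (var 15 11) = k0 := hv 11 (by decide)
  have v12 : bt K i (var 15 12) = k1 := hv 12 (by decide)
  have v13 : bt K i (var 15 13) = k2 := hv 13 (by decide)
  have v14 : bt K i (var 15 14) = k3 := hv 14 (by decide)
  have kx : (⟨0, x.y2, x.z2, x.x3, x.y4, x.z4, x.x5, x.y6, x.z6, x.x7, x.y8, x.z8⟩ : P K) = x := ex.symm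
  have := imp (K := K) (i := i) eqA_chk (bt_zero i)
  simpa only [eqAC, bt_or_eq_zero, df_iff, and_assoc, ev_mul, ev_inv, ev_mk, bt_and, bt_xor, bt_zero, ho,
    ev_ap, v0, v1, v2, v3, v4, v5, v6, v7, v8, v9, v10, v11, v12, v13, v14, kx, ev_Th ho, ev_Ga ho,
    ev_W1 ho] using this

/-- Failure positions. -/
def eqBH (o : ℕ) (x : V) (k0 : ℕ) (k1 : ℕ) (k2 : ℕ) (k3 : ℕ) : ℕ :=
  0

/-- Failure positions. -/
def eqBC (o : ℕ) (x : V) (k0 : ℕ) (k1 : ℕ) (k2 : ℕ) (k3 : ℕ) : ℕ :=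
  (apV (ThV o k0 k1 k2 k3) (GbV o k0 k1 k2 k3 * (apV (W2V o 0 k3 k3 0 0 0) x) * ((GbV o k0 k1 k2
    k3)⁻¹))).df (apV (W2V o 0 0 0 0 0 0) (apV (ThV o k0 k1 k2 k3) x))

theorem eqB_chk : eqBC (ones 14) ⟨var 14 0, var 14 1, var 14 2, var 14 3, var 14 4, var 14 5, var 14 6, var 14 7,
    var 14 8, var 14 9, 0, 0⟩ (var 14 10) (var 14 11) (var 14 12) (var 14 13) ||| eqBH (ones 14)
    ⟨var 14 0, var 14 1, var 14 2, var 14 3, var 14 4, var 14 5, var 14 6, var 14 7, var 14 8, var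
    14 9, 0, 0⟩ (var 14 10) (var 14 11) (var 14 12) (var 14 13) = eqBH (ones 14) ⟨var 14 0, var 14
    1, var 14 2, var 14 3, var 14 4, var 14 5, var 14 6, var 14 7, var 14 8, var 14 9, 0, 0⟩ (var 14
    10) (var 14 11) (var 14 12) (var 14 13) := by
  decide +kernel

theorem eqB (hK : ∀ μ : K, μ = 0 ∨ μ = 1) {x : P K} {k0 k1 k2 k3 : K} (ex : x = (⟨x.x1, x.y2,
    x.z2, x.x3, x.y4, x.z4, x.x5, x.y6, x.z6, x.x7, 0, 0⟩ : P K)) : apK (ThK k0 k1 k2 k3) (GbK k0 k1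
    k2 k3 * (apK (W2K 0 k3 k3 0 0 0) x) * ((GbK k0 k1 k2 k3)⁻¹)) = apK (W2K 0 0 0 0 0 0) (apK (ThK
    k0 k1 k2 k3) x) := by
  obtain ⟨i, hi, hv⟩ := exists_bt hK 14 fun n =>
    ([x.x1, x.y2, x.z2, x.x3, x.y4, x.z4, x.x5, x.y6, x.z6, x.x7, k0, k1, k2, k3] : List K).getD n 0
  have ho := bt_ones (K := K) hi
  have v0 : bt K i (var 14 0) = x.x1 := hv 0 (by decide)
  have v1 : bt K i (var 14 1) = x.y2 := hv 1 (by decide)
  have v2 : bt K i (var 14 2) = x.z2 := hv 2 (by decide)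
  have v3 : bt K i (var 14 3) = x.x3 := hv 3 (by decide)
  have v4 : bt K i (var 14 4) = x.y4 := hv 4 (by decide)
  have v5 : bt K i (var 14 5) = x.z4 := hv 5 (by decide)
  have v6 : bt K i (var 14 6) = x.x5 := hv 6 (by decide)
  have v7 : bt K i (var 14 7) = x.y6 := hv 7 (by decide)
  have v8 : bt K i (var 14 8) = x.z6 := hv 8 (by decide)
  have v9 : bt K i (var 14 9) = x.x7 := hv 9 (by decide)
  have v10 : bt K i (var 14 10) = k0 := hv 10 (by decide)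
  have v11 : bt K i (var 14 11) = k1 := hv 11 (by decide)
  have v12 : bt K i (var 14 12) = k2 := hv 12 (by decide)
  have v13 : bt K i (var 14 13) = k3 := hv 13 (by decide)
  have kx : (⟨x.x1, x.y2, x.z2, x.x3, x.y4, x.z4, x.x5, x.y6, x.z6, x.x7, 0, 0⟩ : P K) = x := ex.symm
  have := imp (K := K) (i := i) eqB_chk (bt_zero i)
  simpa only [eqBC, bt_or_eq_zero, df_iff, and_assoc, ev_mul, ev_inv, ev_mk, bt_and, bt_xor, bt_zero, ho,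
    ev_ap, v0, v1, v2, v3, v4, v5, v6, v7, v8, v9, v10, v11, v12, v13, kx, ev_Th ho, ev_Gb ho, ev_W2
    ho] using this

end Cfsg.Agent.F4.Bit
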